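import Cfsg.Agent.StandardComponent.HeldType.Main
import Cfsg.Agent.SylowL5.Strong

/-!
Standard subgroups of type `2^2.L_3(4)`: the assembly without the hypothesis on `L_5(2)`.
-/

set_option autoImplicit false

namespace Cfsg.Agent.StandardComponent.HeldType.Close

open Cfsg.Agent.StandardComponent.HeldType.Basic Cfsg.Agent.StandardComponent.HeldType.Main

universe u v

theorem strongL5 (G : Type u) [Group G] [Finite G] [IsSimpleGroup G] : StrongL5 G :=
  fun _ P E => Cfsg.Agent.SylowL5.Strong.strong P E

/-- only the criterion for the strong embedding (S1175 or S1169) is left as a hypothesis -/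
theorem close {G : Type u} [Group G] [Finite G] [IsSimpleGroup G] (hG : ¬ IsMulCommutative G)
    (L : Subgroup G) (hL : Cfsg.IsStandardSubgroup L)
    {F : Type v} [Field F] [Fintype F] (hF : Fintype.card F = 4)
    (hLX : IsKleinFour ↥(Subgroup.center ↥L) ∧
      Nonempty (↥L ⧸ Subgroup.center ↥L ≃* Matrix.ProjectiveSpecialLinearGroup (Fin 3) F))
    (hcrit : Crit G ∨ CritG G) : Cfsg.Spor.IsoHe G :=
  main hG L hL hF hLX hcrit (strongL5 G)

end Cfsg.Agent.StandardComponent.HeldType.Close
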