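import Mathlib
import Cfsg.Agent.Lib.FieldFour

/-!
Coordinates ("frames") on a covering group `2^2.L_3(4)`, used for the standard form problem that leads to
the Held group.  A frame of a subgroup `L` records a Sylow `2`-subgroup `T0` of `L` in the form
`x a * y b * d c s` (`a b c s : F4`), an element `h` of order three normalising it, and two elements
`n1`, `n2` that interchange root groups.
-/

set_option autoImplicit false

namespace Cfsg.Agent.StandardComponent.HeldType.Frame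

open Cfsg.Agent.Lib.FieldFour

/-- the semilinear map `a ↦ l * a` (`e = false`) or `a ↦ l * a ^ 2` (`e = true`) -/
def sm (e : Bool) (l a : F4) : F4 := bif e then l * a ^ 2 else l * a

/-- `h` or its inverse -/
def hm {G : Type*} [Group G] (e : Bool) (h : G) : G := bif e then h⁻¹ else h

/-- A frame of `L`: `L` is a perfect central extension of `PSL 3 4` by a Klein four-group. -/
structure Frm {G : Type*} [Group G] (L : Subgroup G) where
  x : F4 → G
  y : F4 → G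
  d : F4 → F4 → G
  h : G
  n1 : G
  n2 : G
  x_mem : ∀ a, x a ∈ L
  y_mem : ∀ b, y b ∈ L
  d_mem : ∀ c s, d c s ∈ L
  h_mem : h ∈ L
  n1_mem : n1 ∈ L
  n2_mem : n2 ∈ L
  x_add : ∀ a a', x (a + a') = x a * x a'
  y_add : ∀ b b', y (b + b') = y b * y b'
  d_add : ∀ c c' s s', d (c + c') (s + s') = d c s * d c' s'
  x_d : ∀ a c s, x a * d c s = d c s * x a
  y_d : ∀ b c s, y b * d c s = d c s * y b
  y_x : ∀ a b, y b * x a = x a * y b * d (a * b) (a * b ^ 2)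
  inj : ∀ a b c s, x a * y b * d c s = 1 → a = 0 ∧ b = 0 ∧ c = 0 ∧ s = 0
  h_x : ∀ a, h * x a * h⁻¹ = x (F4.w * a)
  h_y : ∀ b, h * y b * h⁻¹ = y (F4.w * b)
  h_d : ∀ c s, h * d c s * h⁻¹ = d (F4.v * c) s
  h_pow : h ^ 3 = 1
  n1_x : ∀ a, n1 * x a * n1⁻¹ = d a 0
  n1_d : ∀ c s, n1 * d c s * n1⁻¹ = x c * d 0 s
  n1_h : n1 * h * n1⁻¹ = h⁻¹
  n2_y : ∀ b, n2 * y b * n2⁻¹ = d b 0
  n2_d : ∀ c s, n2 * d c s * n2⁻¹ = y c * d 0 s
  n2_h : n2 * h * n2⁻¹ = h⁻¹
  /-- the centre of `L` is contained in `{d 0 s}` -/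
  cen : ∀ g ∈ L, (∀ l ∈ L, g * l = l * g) → ∃ s, g = d 0 s
  /-- `{d 0 s}` is central in `L` -/
  cen_comm : ∀ s, ∀ l ∈ L, d 0 s * l = l * d 0 s
  /-- centralisers of `d c s`, `c ≠ 0` -/
  cent_d : ∀ c s, c ≠ 0 → ∀ g ∈ L, g * d c s = d c s * g →
    ∃ a b c' s', g = x a * y b * d c' s'
  /-- the normaliser of `T0` in `L` -/
  norm_T : ∀ g ∈ L, (∀ a b c s, ∃ a' b' c' s', g * (x a * y b * d c s) * g⁻¹ = x a' * y b' * d c' s') →
    ∃ (k : ℕ) (a b c s : F4), g = x a * y b * d c s * h ^ k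
  card_L : Nat.card L = 80640
  /-- an element normalising `L` and acting trivially on `T0 / D0` induces an inner automorphism -/
  out : ∀ g, (∀ l, l ∈ L ↔ g * l * g⁻¹ ∈ L) → (∀ a, ∃ c s, g * x a * g⁻¹ = x a * d c s) →
    (∀ b, ∃ c s, g * y b * g⁻¹ = y b * d c s) →
    ∃ a b c s, ∀ l ∈ L, (x a * y b * d c s)⁻¹ * g * l = l * ((x a * y b * d c s)⁻¹ * g)
  /-- an element normalising `L` and `T0` acts, up to an element of `T0`, in a standard way -/
  outN : ∀ g, (∀ l, l ∈ L ↔ g * l * g⁻¹ ∈ L) →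
    (∀ a b c s, ∃ a' b' c' s', g * (x a * y b * d c s) * g⁻¹ = x a' * y b' * d c' s') →
    ∃ (k : G) (e : Bool) (l m : F4), (∃ a b c s, g = x a * y b * d c s * k) ∧ l ≠ 0 ∧ m ≠ 0 ∧
      k * h * k⁻¹ = hm e h ∧
      (((∀ a, k * x a * k⁻¹ = x (sm e l a)) ∧ (∀ b, k * y b * k⁻¹ = y (sm e m b))) ∨
        ((∀ a, k * x a * k⁻¹ = y (sm e l a)) ∧ (∀ b, k * y b * k⁻¹ = x (sm e m b))))

namespace Frm

variable {G : Type*} [Group G] {L : Subgroup G} (F : Frm L)

/-! ### Elementary consequences -/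

theorem x_zero : F.x 0 = 1 := by
  have h := F.x_add 0 0
  rw [add_zero] at h
  exact left_eq_mul.1 h

theorem y_zero : F.y 0 = 1 := by
  have h := F.y_add 0 0
  rw [add_zero] at h
  exact left_eq_mul.1 h

theorem d_zero : F.d 0 0 = 1 := by
  have h := F.d_add 0 0 0 0
  rw [add_zero] at h
  exact left_eq_mul.1 h

theorem f4_add_self (a : F4) : a + a = 0 := by cases a <;> rfl

theorem x_mul_self (a : F4) : F.x a * F.x a = 1 := by
  rw [← F.x_add, f4_add_self, F.x_zero]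

theorem y_mul_self (a : F4) : F.y a * F.y a = 1 := by
  rw [← F.y_add, f4_add_self, F.y_zero]

theorem d_mul_self (c s : F4) : F.d c s * F.d c s = 1 := by
  rw [← F.d_add, f4_add_self, f4_add_self, F.d_zero]

theorem x_inv (a : F4) : (F.x a)⁻¹ = F.x a := inv_eq_of_mul_eq_one_left (F.x_mul_self a)

theorem y_inv (a : F4) : (F.y a)⁻¹ = F.y a := inv_eq_of_mul_eq_one_left (F.y_mul_self a)

theorem d_inv (c s : F4) : (F.d c s)⁻¹ = F.d c s := inv_eq_of_mul_eq_one_left (F.d_mul_self c s)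

theorem x_comm (a a' : F4) : F.x a * F.x a' = F.x a' * F.x a := by
  rw [← F.x_add, ← F.x_add, add_comm]

theorem y_comm (a a' : F4) : F.y a * F.y a' = F.y a' * F.y a := by
  rw [← F.y_add, ← F.y_add, add_comm]

theorem d_comm (c s c' s' : F4) : F.d c s * F.d c' s' = F.d c' s' * F.d c s := by
  rw [← F.d_add, ← F.d_add, add_comm, add_comm s]

theorem d_split (c s : F4) : F.d c s = F.d c 0 * F.d 0 s := by
  rw [← F.d_add, add_zero, zero_add]

/-- The general element of the Sylow subgroup `T0`. -/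
def t (a b c s : F4) : G := F.x a * F.y b * F.d c s

theorem t_def (a b c s : F4) : F.t a b c s = F.x a * F.y b * F.d c s := rfl

theorem t_mem (a b c s : F4) : F.t a b c s ∈ L :=
  L.mul_mem (L.mul_mem (F.x_mem a) (F.y_mem b)) (F.d_mem c s)

theorem t_zero : F.t 0 0 0 0 = 1 := by
  rw [t_def, F.x_zero, F.y_zero, F.d_zero, one_mul, one_mul]

theorem x_eq_t (a : F4) : F.x a = F.t a 0 0 0 := by
  rw [t_def, F.y_zero, F.d_zero, mul_one, mul_one]

theorem y_eq_t (b : F4) : F.y b = F.t 0 b 0 0 := by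
  rw [t_def, F.x_zero, F.d_zero, mul_one, one_mul]

theorem d_eq_t (c s : F4) : F.d c s = F.t 0 0 c s := by
  rw [t_def, F.x_zero, F.y_zero, one_mul, one_mul]

theorem xd_eq_t (a c s : F4) : F.x a * F.d c s = F.t a 0 c s := by
  rw [t_def, F.y_zero, mul_one]

theorem yd_eq_t (b c s : F4) : F.y b * F.d c s = F.t 0 b c s := by
  rw [t_def, F.x_zero, one_mul]

theorem t_mul (a b c s a' b' c' s' : F4) :
    F.t a b c s * F.t a' b' c' s' =
      F.t (a + a') (b + b') (c + c' + a' * b) (s + s' + a' * b ^ 2) := by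
  have e1 : F.t a b c s * F.t a' b' c' s' =
      F.x a * (F.y b * F.x a') * F.y b' * (F.d c s * F.d c' s') := by
    simp only [t_def]
    have h1 := F.x_d a' c s
    have h2 := F.y_d b' c s
    calc F.x a * F.y b * F.d c s * (F.x a' * F.y b' * F.d c' s')
        = F.x a * F.y b * (F.d c s * F.x a') * F.y b' * F.d c' s' := by group
      _ = F.x a * F.y b * F.x a' * (F.d c s * F.y b') * F.d c' s' := by rw [← h1]; group
      _ = _ := by rw [← h2]; group
  rw [e1, F.y_x, ← F.d_add]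
  have h3 := F.y_d b' (a' * b) (a' * b ^ 2)
  calc F.x a * (F.x a' * F.y b * F.d (a' * b) (a' * b ^ 2)) * F.y b' * F.d (c + c') (s + s')
      = (F.x a * F.x a') * F.y b * (F.d (a' * b) (a' * b ^ 2) * F.y b') *
          F.d (c + c') (s + s') := by group
    _ = (F.x a * F.x a') * (F.y b * F.y b') *
          (F.d (a' * b) (a' * b ^ 2) * F.d (c + c') (s + s')) := by rw [← h3]; group
    _ = _ := by
      rw [← F.x_add, ← F.y_add, ← F.d_add, t_def]
      congr 2 <;> ring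

theorem t_inj {a b c s a' b' c' s' : F4} (h : F.t a b c s = F.t a' b' c' s') :
    a = a' ∧ b = b' ∧ c = c' ∧ s = s' := by
  have h1 : F.t a b c s * F.t a' b' (c' + a' * b') (s' + a' * b' ^ 2) = 1 := by
    rw [h, t_mul]
    have e1 : c' + (c' + a' * b') + a' * b' = 0 := by
      have := f4_add_self c'; have h2 := f4_add_self (a' * b')
      linear_combination this + h2
    have e2 : s' + (s' + a' * b' ^ 2) + a' * b' ^ 2 = 0 := by
      have := f4_add_self s'; have h2 := f4_add_self (a' * b' ^ 2)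
      linear_combination this + h2
    rw [f4_add_self, f4_add_self, e1, e2, F.t_zero]
  rw [t_mul] at h1
  obtain ⟨h2, h3, h4, h5⟩ := F.inj _ _ _ _ h1
  have key : ∀ p q : F4, p + q = 0 → p = q := by decide
  have ha := key _ _ h2
  have hb := key _ _ h3
  subst ha hb
  refine ⟨rfl, rfl, ?_, ?_⟩
  · apply key
    have := f4_add_self (a * b)
    linear_combination h4 - this
  · apply key
    have := f4_add_self (a * b ^ 2)
    linear_combination h5 - this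

theorem t_inv (a b c s : F4) : (F.t a b c s)⁻¹ = F.t a b (c + a * b) (s + a * b ^ 2) := by
  symm
  apply eq_inv_of_mul_eq_one_left
  rw [t_mul]
  have e1 : c + a * b + c + a * b = 0 := by
    have := f4_add_self c; have h2 := f4_add_self (a * b)
    linear_combination this + h2
  have e2 : s + a * b ^ 2 + s + a * b ^ 2 = 0 := by
    have := f4_add_self s; have h2 := f4_add_self (a * b ^ 2)
    linear_combination this + h2
  rw [f4_add_self, f4_add_self, e1, e2, F.t_zero]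

/-- conjugation inside `T0` -/
theorem t_conj (a b c s a' b' c' s' : F4) :
    F.t a b c s * F.t a' b' c' s' * (F.t a b c s)⁻¹ =
      F.t a' b' (c' + (a * b' + a' * b)) (s' + (a * b' ^ 2 + a' * b ^ 2)) := by
  rw [mul_inv_eq_iff_eq_mul, t_mul, t_mul]
  congr 1
  · ring
  · ring
  · have := f4_add_self (a * b')
    linear_combination -this
  · have := f4_add_self (a * b' ^ 2)
    linear_combination -this

theorem t_comm_iff (a b c s a' b' c' s' : F4) :
    F.t a b c s * F.t a' b' c' s' = F.t a' b' c' s' * F.t a b c s ↔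
      a * b' = a' * b ∧ a * b' ^ 2 = a' * b ^ 2 := by
  have key : ∀ p q : F4, p + q = 0 ↔ p = q := by decide
  rw [← mul_inv_eq_iff_eq_mul, t_conj]
  constructor
  · intro h
    obtain ⟨-, -, h1, h2⟩ := F.t_inj h
    exact ⟨(key _ _).1 (by linear_combination h1), (key _ _).1 (by linear_combination h2)⟩
  · rintro ⟨h1, h2⟩
    rw [(key _ _).2 h1, (key _ _).2 h2, add_zero, add_zero]

/-! ### Subgroups attached to a frame -/

/-- the Sylow `2`-subgroup of the frame -/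
def T0 : Subgroup G where
  carrier := {g | ∃ a b c s, g = F.t a b c s}
  one_mem' := ⟨0, 0, 0, 0, F.t_zero.symm⟩
  mul_mem' := by
    rintro _ _ ⟨a, b, c, s, rfl⟩ ⟨a', b', c', s', rfl⟩
    exact ⟨_, _, _, _, F.t_mul _ _ _ _ _ _ _ _⟩
  inv_mem' := by
    rintro _ ⟨a, b, c, s, rfl⟩
    exact ⟨_, _, _, _, F.t_inv _ _ _ _⟩

theorem mem_T0 {g : G} : g ∈ F.T0 ↔ ∃ a b c s, g = F.t a b c s := Iff.rfl

/-- the first elementary abelian subgroup of order `64` -/
def E1 : Subgroup G where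
  carrier := {g | ∃ a c s, g = F.t a 0 c s}
  one_mem' := ⟨0, 0, 0, F.t_zero.symm⟩
  mul_mem' := by
    rintro _ _ ⟨a, c, s, rfl⟩ ⟨a', c', s', rfl⟩
    exact ⟨_, _, _, by rw [F.t_mul, add_zero]⟩
  inv_mem' := by
    rintro _ ⟨a, c, s, rfl⟩
    exact ⟨_, _, _, F.t_inv _ _ _ _⟩

theorem mem_E1 {g : G} : g ∈ F.E1 ↔ ∃ a c s, g = F.t a 0 c s := Iff.rfl

/-- the second elementary abelian subgroup of order `64` -/
def E2 : Subgroup G where
  carrier := {g | ∃ b c s, g = F.t 0 b c s}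
  one_mem' := ⟨0, 0, 0, F.t_zero.symm⟩
  mul_mem' := by
    rintro _ _ ⟨a, c, s, rfl⟩ ⟨a', c', s', rfl⟩
    exact ⟨_, _, _, by rw [F.t_mul, add_zero]⟩
  inv_mem' := by
    rintro _ ⟨a, c, s, rfl⟩
    exact ⟨_, _, _, F.t_inv _ _ _ _⟩

theorem mem_E2 {g : G} : g ∈ F.E2 ↔ ∃ b c s, g = F.t 0 b c s := Iff.rfl

/-- the centre (and derived subgroup) of `T0` -/
def D0 : Subgroup G where
  carrier := {g | ∃ c s, g = F.d c s}
  one_mem' := ⟨0, 0, F.d_zero.symm⟩
  mul_mem' := by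
    rintro _ _ ⟨c, s, rfl⟩ ⟨c', s', rfl⟩
    exact ⟨_, _, (F.d_add _ _ _ _).symm⟩
  inv_mem' := by
    rintro _ ⟨c, s, rfl⟩
    exact ⟨_, _, F.d_inv _ _⟩

theorem mem_D0 {g : G} : g ∈ F.D0 ↔ ∃ c s, g = F.d c s := Iff.rfl

/-- the centre of `L` -/
def V : Subgroup G where
  carrier := {g | ∃ s, g = F.d 0 s}
  one_mem' := ⟨0, F.d_zero.symm⟩
  mul_mem' := by
    rintro _ _ ⟨s, rfl⟩ ⟨s', rfl⟩
    exact ⟨_, by rw [← F.d_add, add_zero]⟩
  inv_mem' := by
    rintro _ ⟨s, rfl⟩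
    exact ⟨_, F.d_inv _ _⟩

theorem mem_V {g : G} : g ∈ F.V ↔ ∃ s, g = F.d 0 s := Iff.rfl

/-- the second four-group `U = [D0, h]` -/
def U : Subgroup G where
  carrier := {g | ∃ c, g = F.d c 0}
  one_mem' := ⟨0, F.d_zero.symm⟩
  mul_mem' := by
    rintro _ _ ⟨s, rfl⟩ ⟨s', rfl⟩
    exact ⟨_, by rw [← F.d_add, add_zero]⟩
  inv_mem' := by
    rintro _ ⟨s, rfl⟩
    exact ⟨_, F.d_inv _ _⟩

theorem mem_U {g : G} : g ∈ F.U ↔ ∃ c, g = F.d c 0 := Iff.rfl

/-! ### Simple facts on conjugation by `h`, `n1`, `n2` -/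

theorem V_comm {g l : G} (hg : g ∈ F.V) (hl : l ∈ L) : g * l = l * g := by
  obtain ⟨s, rfl⟩ := hg
  exact F.cen_comm s l hl

theorem h_t (a b c s : F4) :
    F.h * F.t a b c s * F.h⁻¹ = F.t (F4.w * a) (F4.w * b) (F4.v * c) s := by
  rw [t_def, t_def, ← F.h_x, ← F.h_y, ← F.h_d]
  group

theorem h_pow_t (k : ℕ) (a b c s : F4) :
    F.h ^ k * F.t a b c s * (F.h ^ k)⁻¹ =
      F.t (F4.w ^ k * a) (F4.w ^ k * b) (F4.v ^ k * c) s := by
  induction k with
  | zero => simp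
  | succ k ih =>
    rw [pow_succ']
    calc F.h * F.h ^ k * F.t a b c s * (F.h * F.h ^ k)⁻¹
        = F.h * (F.h ^ k * F.t a b c s * (F.h ^ k)⁻¹) * F.h⁻¹ := by group
      _ = _ := by
        rw [ih, F.h_t]
        congr 1 <;> ring

theorem h_pow_x (k : ℕ) (a : F4) : F.h ^ k * F.x a * (F.h ^ k)⁻¹ = F.x (F4.w ^ k * a) := by
  have := F.h_pow_t k a 0 0 0
  rw [mul_zero, mul_zero] at this
  rw [x_eq_t, x_eq_t, this]

theorem h_pow_y (k : ℕ) (a : F4) : F.h ^ k * F.y a * (F.h ^ k)⁻¹ = F.y (F4.w ^ k * a) := by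
  have := F.h_pow_t k 0 a 0 0
  rw [mul_zero, mul_zero] at this
  rw [y_eq_t, y_eq_t, this]

theorem h_pow_d (k : ℕ) (c s : F4) :
    F.h ^ k * F.d c s * (F.h ^ k)⁻¹ = F.d (F4.v ^ k * c) s := by
  have := F.h_pow_t k 0 0 c s
  rw [mul_zero] at this
  rw [d_eq_t, d_eq_t, this]

theorem n1_xd (a c s : F4) : F.n1 * F.t a 0 c s * F.n1⁻¹ = F.t c 0 a s := by
  rw [← xd_eq_t, ← xd_eq_t]
  calc F.n1 * (F.x a * F.d c s) * F.n1⁻¹
      = (F.n1 * F.x a * F.n1⁻¹) * (F.n1 * F.d c s * F.n1⁻¹) := by group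
    _ = _ := by
      rw [F.n1_x, F.n1_d, ← mul_assoc, ← F.x_d, mul_assoc, ← F.d_add, add_zero, zero_add]

theorem n2_yd (b c s : F4) : F.n2 * F.t 0 b c s * F.n2⁻¹ = F.t 0 c b s := by
  rw [← yd_eq_t, ← yd_eq_t]
  calc F.n2 * (F.y b * F.d c s) * F.n2⁻¹
      = (F.n2 * F.y b * F.n2⁻¹) * (F.n2 * F.d c s * F.n2⁻¹) := by group
    _ = _ := by
      rw [F.n2_y, F.n2_d, ← mul_assoc, ← F.y_d, mul_assoc, ← F.d_add, add_zero, zero_add]

/-- the product decomposition of a conjugate of a general element -/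
theorem conj_t (g : G) (a b c s : F4) :
    g * F.t a b c s * g⁻¹ = (g * F.x a * g⁻¹) * (g * F.y b * g⁻¹) * (g * F.d c s * g⁻¹) := by
  rw [t_def]; group

/-! ### Operations on frames -/

/-- Conjugate frame. -/
def conj (g : G) (M : Subgroup G) (hM : ∀ l, l ∈ L ↔ g * l * g⁻¹ ∈ M) : Frm M where
  x a := g * F.x a * g⁻¹
  y a := g * F.y a * g⁻¹
  d c s := g * F.d c s * g⁻¹
  h := g * F.h * g⁻¹
  n1 := g * F.n1 * g⁻¹
  n2 := g * F.n2 * g⁻¹
  x_mem a := (hM _).1 (F.x_mem a)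
  y_mem a := (hM _).1 (F.y_mem a)
  d_mem c s := (hM _).1 (F.d_mem c s)
  h_mem := (hM _).1 F.h_mem
  n1_mem := (hM _).1 F.n1_mem
  n2_mem := (hM _).1 F.n2_mem
  x_add a a' := by rw [F.x_add]; group
  y_add a a' := by rw [F.y_add]; group
  d_add c c' s s' := by rw [F.d_add]; group
  x_d a c s := by
    have := F.x_d a c s
    calc g * F.x a * g⁻¹ * (g * F.d c s * g⁻¹) = g * (F.x a * F.d c s) * g⁻¹ := by group
      _ = _ := by rw [this]; group
  y_d a c s := by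
    have := F.y_d a c s
    calc g * F.y a * g⁻¹ * (g * F.d c s * g⁻¹) = g * (F.y a * F.d c s) * g⁻¹ := by group
      _ = _ := by rw [this]; group
  y_x a b := by
    calc g * F.y b * g⁻¹ * (g * F.x a * g⁻¹) = g * (F.y b * F.x a) * g⁻¹ := by group
      _ = _ := by rw [F.y_x]; group
  inj a b c s h := by
    apply F.inj
    have e : g * F.x a * g⁻¹ * (g * F.y b * g⁻¹) * (g * F.d c s * g⁻¹) =
      g * (F.x a * F.y b * F.d c s) * g⁻¹ := by group
    rw [e] at h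
    simpa using h
  h_x a := by rw [← F.h_x]; group
  h_y a := by rw [← F.h_y]; group
  h_d a s := by rw [← F.h_d]; group
  h_pow := by
    have : (g * F.h * g⁻¹) ^ 3 = g * F.h ^ 3 * g⁻¹ := by simp
    rw [this, F.h_pow]; group
  n1_x a := by rw [← F.n1_x]; group
  n1_d c s := by
    calc g * F.n1 * g⁻¹ * (g * F.d c s * g⁻¹) * (g * F.n1 * g⁻¹)⁻¹
        = g * (F.n1 * F.d c s * F.n1⁻¹) * g⁻¹ := by group
      _ = _ := by rw [F.n1_d]; group
  n1_h := by
    calc g * F.n1 * g⁻¹ * (g * F.h * g⁻¹) * (g * F.n1 * g⁻¹)⁻¹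
        = g * (F.n1 * F.h * F.n1⁻¹) * g⁻¹ := by group
      _ = _ := by rw [F.n1_h]; group
  n2_y a := by rw [← F.n2_y]; group
  n2_d c s := by
    calc g * F.n2 * g⁻¹ * (g * F.d c s * g⁻¹) * (g * F.n2 * g⁻¹)⁻¹
        = g * (F.n2 * F.d c s * F.n2⁻¹) * g⁻¹ := by group
      _ = _ := by rw [F.n2_d]; group
  n2_h := by
    calc g * F.n2 * g⁻¹ * (g * F.h * g⁻¹) * (g * F.n2 * g⁻¹)⁻¹
        = g * (F.n2 * F.h * F.n2⁻¹) * g⁻¹ := by group
      _ = _ := by rw [F.n2_h]; group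
  cen m hm hc := by
    have h1 : g⁻¹ * m * g ∈ L := by
      rw [hM]
      have : g * (g⁻¹ * m * g) * g⁻¹ = m := by group
      rwa [this]
    obtain ⟨s, hs⟩ := F.cen _ h1 (fun l hl => by
      have h2 := hc _ ((hM l).1 hl)
      calc g⁻¹ * m * g * l = g⁻¹ * (m * (g * l * g⁻¹)) * g := by group
        _ = _ := by rw [h2]; group)
    exact ⟨s, by rw [← hs]; group⟩
  cen_comm s m hm := by
    have h1 : g⁻¹ * m * g ∈ L := by
      rw [hM]
      have : g * (g⁻¹ * m * g) * g⁻¹ = m := by group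
      rwa [this]
    have h2 := F.cen_comm s _ h1
    calc g * F.d 0 s * g⁻¹ * m = g * (F.d 0 s * (g⁻¹ * m * g)) * g⁻¹ := by group
      _ = _ := by rw [h2]; group
  cent_d c s hc m hm hcm := by
    have h1 : g⁻¹ * m * g ∈ L := by
      rw [hM]
      have : g * (g⁻¹ * m * g) * g⁻¹ = m := by group
      rwa [this]
    obtain ⟨a, b, c', s', h2⟩ := F.cent_d c s hc _ h1 (by
      calc g⁻¹ * m * g * F.d c s = g⁻¹ * (m * (g * F.d c s * g⁻¹)) * g := by group
        _ = _ := by rw [hcm]; group)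
    refine ⟨a, b, c', s', ?_⟩
    have h3 : m = g * (g⁻¹ * m * g) * g⁻¹ := by group
    rw [h3, h2]; group
  norm_T m hm hc := by
    have h1 : g⁻¹ * m * g ∈ L := by
      rw [hM]
      have : g * (g⁻¹ * m * g) * g⁻¹ = m := by group
      rwa [this]
    obtain ⟨k, a, b, c, s, h2⟩ := F.norm_T _ h1 (fun a b c s => by
      obtain ⟨a', b', c', s', h3⟩ := hc a b c s
      refine ⟨a', b', c', s', ?_⟩
      have h4 : F.x a' * F.y b' * F.d c' s' =
        g⁻¹ * (g * F.x a' * g⁻¹ * (g * F.y b' * g⁻¹) * (g * F.d c' s' * g⁻¹)) * g := by group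
      rw [h4, ← h3]
      group)
    refine ⟨k, a, b, c, s, ?_⟩
    have h3 : m = g * (g⁻¹ * m * g) * g⁻¹ := by group
    have h5 : (g * F.h * g⁻¹) ^ k = g * F.h ^ k * g⁻¹ := by simp
    rw [h3, h2, h5]; group
  card_L := by
    rw [← F.card_L]
    refine Nat.card_congr ⟨fun m => ⟨g⁻¹ * m * g, ?_⟩, fun l => ⟨g * l * g⁻¹, (hM _).1 l.2⟩, ?_, ?_⟩
    · rw [hM]
      have : g * (g⁻¹ * m * g) * g⁻¹ = m := by group
      rw [this]; exact m.2
    · intro m; ext; simp; group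
    · intro m; ext; simp; group
  out m hm hx hy := by
    have key : ∀ l, l ∈ L ↔ (g⁻¹ * m * g) * l * (g⁻¹ * m * g)⁻¹ ∈ L := by
      intro l
      rw [hM l, hM ((g⁻¹ * m * g) * l * (g⁻¹ * m * g)⁻¹), hm]
      have : m * (g * l * g⁻¹) * m⁻¹ = g * (g⁻¹ * m * g * l * (g⁻¹ * m * g)⁻¹) * g⁻¹ := by group
      rw [this]
    obtain ⟨a, b, c, s, h2⟩ := F.out (g⁻¹ * m * g) key
      (fun a => by
        obtain ⟨c, s, h3⟩ := hx a
        refine ⟨c, s, ?_⟩
        have h4 : F.x a * F.d c s =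
          g⁻¹ * (g * F.x a * g⁻¹ * (g * F.d c s * g⁻¹)) * g := by group
        rw [h4, ← h3]
        group)
      (fun a => by
        obtain ⟨c, s, h3⟩ := hy a
        refine ⟨c, s, ?_⟩
        have h4 : F.y a * F.d c s =
          g⁻¹ * (g * F.y a * g⁻¹ * (g * F.d c s * g⁻¹)) * g := by group
        rw [h4, ← h3]
        group)
    refine ⟨a, b, c, s, fun l hl => ?_⟩
    have h1 : g⁻¹ * l * g ∈ L := by
      rw [hM]
      have : g * (g⁻¹ * l * g) * g⁻¹ = l := by group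
      rwa [this]
    have h3 := h2 _ h1
    have h4 : (g * F.x a * g⁻¹ * (g * F.y b * g⁻¹) * (g * F.d c s * g⁻¹))⁻¹ * m =
      g * ((F.x a * F.y b * F.d c s)⁻¹ * (g⁻¹ * m * g)) * g⁻¹ := by group
    rw [h4]
    calc g * ((F.x a * F.y b * F.d c s)⁻¹ * (g⁻¹ * m * g)) * g⁻¹ * l
        = g * ((F.x a * F.y b * F.d c s)⁻¹ * (g⁻¹ * m * g) * (g⁻¹ * l * g)) * g⁻¹ := by group
      _ = _ := by rw [h3]; group
  outN m hm' hc := by
    have key : ∀ l, l ∈ L ↔ (g⁻¹ * m * g) * l * (g⁻¹ * m * g)⁻¹ ∈ L := by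
      intro l
      rw [hM l, hM ((g⁻¹ * m * g) * l * (g⁻¹ * m * g)⁻¹), hm']
      have : m * (g * l * g⁻¹) * m⁻¹ = g * (g⁻¹ * m * g * l * (g⁻¹ * m * g)⁻¹) * g⁻¹ := by group
      rw [this]
    obtain ⟨k, e, l1, m1, ⟨a, b, c, s, hk⟩, h1, h2, h3, h4⟩ :=
      F.outN (g⁻¹ * m * g) key (fun a b c s => by
        obtain ⟨a', b', c', s', h3⟩ := hc a b c s
        refine ⟨a', b', c', s', ?_⟩
        have h4 : F.x a' * F.y b' * F.d c' s' =
          g⁻¹ * (g * F.x a' * g⁻¹ * (g * F.y b' * g⁻¹) * (g * F.d c' s' * g⁻¹)) * g := by group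
        rw [h4, ← h3]
        group)
    have cc : ∀ u w : G, k * u * k⁻¹ = w →
        g * k * g⁻¹ * (g * u * g⁻¹) * (g * k * g⁻¹)⁻¹ = g * w * g⁻¹ := by
      intro u w hu
      rw [← hu]; group
    refine ⟨g * k * g⁻¹, e, l1, m1, ⟨a, b, c, s, ?_⟩, h1, h2, ?_, ?_⟩
    · have h5 : m = g * (g⁻¹ * m * g) * g⁻¹ := by group
      rw [h5, hk]; group
    · rw [cc _ _ h3]
      cases e
      · rfl
      · simp [hm, mul_assoc]
    · rcases h4 with ⟨h5, h6⟩ | ⟨h5, h6⟩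
      · exact Or.inl ⟨fun a => cc _ _ (h5 a), fun a => cc _ _ (h6 a)⟩
      · exact Or.inr ⟨fun a => cc _ _ (h5 a), fun a => cc _ _ (h6 a)⟩

/-- Exchange the roles of `E1` and `E2`. -/
def swap : Frm L where
  x := F.y
  y := F.x
  d c s := F.d c (s ^ 2)
  h := F.h
  n1 := F.n2
  n2 := F.n1
  x_mem := F.y_mem
  y_mem := F.x_mem
  d_mem c s := F.d_mem _ _
  h_mem := F.h_mem
  n1_mem := F.n2_mem
  n2_mem := F.n1_mem
  x_add := F.y_add
  y_add := F.x_add
  d_add c c' s s' := by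
    rw [← F.d_add]
    congr 1
    decide +revert
  x_d a c s := F.y_d _ _ _
  y_d a c s := F.x_d _ _ _
  y_x a b := by
    have h1 := F.y_x b a
    have h2 : F.x b * F.y a * F.d (b * a) (b * a ^ 2) * F.d (b * a) (b * a ^ 2) =
      F.y a * F.x b * F.d (b * a) (b * a ^ 2) := by rw [h1]
    rw [mul_assoc, F.d_mul_self, mul_one] at h2
    rw [h2, mul_comm b a]
    congr 2
    clear * - a b; decide +revert
  inj a b c s h := by
    have h1 := F.y_x b a
    have h2 : F.x b * F.y a * F.d (b * a) (b * a ^ 2) * F.d (b * a) (b * a ^ 2) =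
      F.y a * F.x b * F.d (b * a) (b * a ^ 2) := by rw [h1]
    rw [mul_assoc, F.d_mul_self, mul_one] at h2
    have h3 : F.y a * F.x b = F.x b * F.y a * F.d (b * a) (b * a ^ 2) := h1
    rw [h3, mul_assoc, ← F.d_add] at h
    obtain ⟨h4, h5, h6, h7⟩ := F.inj _ _ _ _ h
    subst h4 h5
    have key4 : ∀ c : F4, (0 : F4) * 0 + c = 0 → c = 0 := by decide
    have key5 : ∀ c : F4, (0 : F4) * 0 ^ 2 + c ^ 2 = 0 → c = 0 := by decide
    refine ⟨rfl, rfl, ?_, ?_⟩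
    · exact key4 _ h6
    · exact key5 _ h7
  h_x := F.h_y
  h_y := F.h_x
  h_d c s := F.h_d _ _
  h_pow := F.h_pow
  n1_x := fun a => by rw [F.n2_y]; rfl
  n1_d := fun c s => F.n2_d _ _
  n1_h := F.n2_h
  n2_y := fun a => by rw [F.n1_x]; rfl
  n2_d := fun c s => F.n1_d _ _
  n2_h := F.n1_h
  cen g hg hc := by
    obtain ⟨s, hs⟩ := F.cen g hg hc
    refine ⟨s ^ 2, ?_⟩
    rw [hs]
    congr 1
    clear * - s; decide +revert
  cen_comm s l hl := F.cen_comm _ l hl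
  cent_d c s hc g hg hcm := by
    obtain ⟨a, b, c', s', h1⟩ := F.cent_d c _ hc g hg hcm
    refine ⟨b, a, c' + a * b, (s' + a * b ^ 2) ^ 2, ?_⟩
    have h2 : F.y b * F.x a = F.x a * F.y b * F.d (a * b) (a * b ^ 2) := F.y_x _ _
    rw [h1, h2, mul_assoc (F.x a * F.y b), ← F.d_add]
    congr 2
    · clear * - a b c'; decide +revert
    · clear * - a b s'; decide +revert
  norm_T g hg hc := by
    have key : ∀ (b a c s : F4), F.y b * F.x a * F.d c s =
        F.t a b (c + a * b) (s + a * b ^ 2) := by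
      intro b a c s
      rw [F.y_x, mul_assoc, ← F.d_add, t_def, add_comm c, add_comm s]
    have key2 : ∀ (b a c s : F4), F.x a * F.y b * F.d c s =
        F.y b * F.x a * F.d (c + a * b) ((((s + a * b ^ 2) ^ 2)) ^ 2) := by
      intro b a c s
      rw [key, ← t_def]
      congr 1
      · decide +revert
      · decide +revert
    obtain ⟨k, a, b, c, s, h1⟩ := F.norm_T g hg (fun a b c s => by
      obtain ⟨a', b', c', s', h2⟩ := hc b a (c + a * b) ((s + a * b ^ 2) ^ 2)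
      rw [← key2, key] at h2
      exact ⟨_, _, _, _, h2⟩)
    exact ⟨k, b, a, _, _, by rw [h1, key2]⟩
  card_L := F.card_L
  out g hg hx hy := by
    obtain ⟨a, b, c, s, h1⟩ := F.out g hg
      (fun a => by
        obtain ⟨c, s, h⟩ := hy a
        exact ⟨c, _, h⟩)
      (fun a => by
        obtain ⟨c, s, h⟩ := hx a
        exact ⟨c, _, h⟩)
    have key : ∀ (b a c s : F4), F.y b * F.x a * F.d c s =
        F.t a b (c + a * b) (s + a * b ^ 2) := by
      intro b a c s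
      rw [F.y_x, mul_assoc, ← F.d_add, t_def, add_comm c, add_comm s]
    have key2 : ∀ (b a c s : F4), F.x a * F.y b * F.d c s =
        F.y b * F.x a * F.d (c + a * b) ((((s + a * b ^ 2) ^ 2)) ^ 2) := by
      intro b a c s
      rw [key, ← t_def]
      congr 1
      · decide +revert
      · decide +revert
    refine ⟨b, a, c + a * b, (s + a * b ^ 2) ^ 2, ?_⟩
    rw [← key2]
    exact h1
  outN g hg hc := by
    have key : ∀ (b a c s : F4), F.y b * F.x a * F.d c s =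
        F.t a b (c + a * b) (s + a * b ^ 2) := by
      intro b a c s
      rw [F.y_x, mul_assoc, ← F.d_add, t_def, add_comm c, add_comm s]
    have key2 : ∀ (b a c s : F4), F.x a * F.y b * F.d c s =
        F.y b * F.x a * F.d (c + a * b) ((((s + a * b ^ 2) ^ 2)) ^ 2) := by
      intro b a c s
      rw [key, ← t_def]
      congr 1
      · decide +revert
      · decide +revert
    obtain ⟨k, e, l1, m1, ⟨a, b, c, s, hk⟩, h1, h2, h3, h4⟩ := F.outN g hg (fun a b c s => by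
      obtain ⟨a', b', c', s', h2⟩ := hc b a (c + a * b) ((s + a * b ^ 2) ^ 2)
      rw [← key2, key] at h2
      exact ⟨_, _, _, _, h2⟩)
    rcases h4 with ⟨h5, h6⟩ | ⟨h5, h6⟩
    · exact ⟨k, e, m1, l1, ⟨b, a, _, _, by rw [hk, key2]⟩, h2, h1, h3, Or.inl ⟨h6, h5⟩⟩
    · exact ⟨k, e, m1, l1, ⟨b, a, _, _, by rw [hk, key2]⟩, h2, h1, h3, Or.inr ⟨h6, h5⟩⟩

/-- Apply the field automorphism to the coordinates. -/
def frob : Frm L where
  x a := F.x (a ^ 2)
  y a := F.y (a ^ 2)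
  d c s := F.d (c ^ 2) (s ^ 2)
  h := F.h⁻¹
  n1 := F.n1
  n2 := F.n2
  x_mem _ := F.x_mem _
  y_mem _ := F.y_mem _
  d_mem c s := F.d_mem _ _
  h_mem := L.inv_mem F.h_mem
  n1_mem := F.n1_mem
  n2_mem := F.n2_mem
  x_add a a' := by
    rw [← F.x_add]; congr 1; decide +revert
  y_add a a' := by
    rw [← F.y_add]; congr 1; decide +revert
  d_add c c' s s' := by
    rw [← F.d_add]
    congr 1
    · decide +revert
    · decide +revert
  x_d a c s := F.x_d _ _ _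
  y_d a c s := F.y_d _ _ _
  y_x a b := by
    rw [F.y_x]
    congr 2
    · decide +revert
    · decide +revert
  inj a b c s h := by
    obtain ⟨h1, h2, h3, h4⟩ := F.inj _ _ _ _ h
    have key : ∀ p : F4, p ^ 2 = 0 → p = 0 := by decide
    exact ⟨key _ h1, key _ h2, key _ h3, key _ h4⟩
  h_x a := by
    have h1 := F.h_x ((F4.w * a) ^ 2)
    have key : F4.w * (F4.w * a) ^ 2 = a ^ 2 := by clear * - a; decide +revert
    rw [key] at h1
    rw [← h1]; group
  h_y a := by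
    have h1 := F.h_y ((F4.w * a) ^ 2)
    have key : F4.w * (F4.w * a) ^ 2 = a ^ 2 := by clear * - a; decide +revert
    rw [key] at h1
    rw [← h1]; group
  h_d c s := by
    have h1 := F.h_d ((F4.v * c) ^ 2) (s ^ 2)
    have key : F4.v * (F4.v * c) ^ 2 = c ^ 2 := by clear * - c; decide +revert
    rw [key] at h1
    rw [← h1]; group
  h_pow := by rw [inv_pow, F.h_pow, inv_one]
  n1_x a := F.n1_x _
  n1_d c s := F.n1_d _ _
  n1_h := by
    have h1 := F.n1_h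
    calc F.n1 * F.h⁻¹ * F.n1⁻¹ = (F.n1 * F.h * F.n1⁻¹)⁻¹ := by group
      _ = _ := by rw [h1]
  n2_y a := F.n2_y _
  n2_d c s := F.n2_d _ _
  n2_h := by
    have h1 := F.n2_h
    calc F.n2 * F.h⁻¹ * F.n2⁻¹ = (F.n2 * F.h * F.n2⁻¹)⁻¹ := by group
      _ = _ := by rw [h1]
  cen g hg hc := by
    obtain ⟨s, hs⟩ := F.cen g hg hc
    refine ⟨s ^ 2, ?_⟩
    rw [hs]
    congr 1
    clear * - s; decide +revert
  cen_comm s l hl := F.cen_comm _ l hl
  cent_d c s hc g hg hcm := by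
    have key : ∀ p : F4, (p ^ 2) ^ 2 = p := by decide
    have key3 : ∀ p : F4, p ≠ 0 → p ^ 2 ≠ 0 := by decide
    obtain ⟨a, b, c', s', h1⟩ := F.cent_d (c ^ 2) _ (key3 _ hc) g hg hcm
    exact ⟨a ^ 2, b ^ 2, c' ^ 2, s' ^ 2, by rw [key, key, key, key]; exact h1⟩
  norm_T g hg hc := by
    have key : ∀ p : F4, (p ^ 2) ^ 2 = p := by decide
    obtain ⟨k, a, b, c, s, h1⟩ := F.norm_T g hg (fun a b c s => by
      obtain ⟨a', b', c', s', h2⟩ := hc (a ^ 2) (b ^ 2) (c ^ 2) (s ^ 2)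
      rw [key, key, key, key] at h2
      exact ⟨_, _, _, _, h2⟩)
    refine ⟨2 * k, a ^ 2, b ^ 2, c ^ 2, s ^ 2, ?_⟩
    rw [key, key, key, key, h1]
    congr 1
    rw [inv_pow, eq_inv_iff_mul_eq_one, ← pow_add]
    have : k + 2 * k = 3 * k := by ring
    rw [this, pow_mul, F.h_pow, one_pow]
  card_L := F.card_L
  out g hg hx hy := by
    have key : ∀ p : F4, (p ^ 2) ^ 2 = p := by decide
    obtain ⟨a, b, c, s, h1⟩ := F.out g hg
      (fun a => by
        obtain ⟨c, s, h⟩ := hx (a ^ 2)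
        rw [key] at h
        exact ⟨_, _, h⟩)
      (fun a => by
        obtain ⟨c, s, h⟩ := hy (a ^ 2)
        rw [key] at h
        exact ⟨_, _, h⟩)
    refine ⟨a ^ 2, b ^ 2, c ^ 2, s ^ 2, ?_⟩
    rw [key, key, key, key]
    exact h1
  outN g hg hc := by
    have key : ∀ p : F4, (p ^ 2) ^ 2 = p := by decide
    have key1 : ∀ (e : Bool) (l a : F4), sm e l (a ^ 2) = (sm e (l ^ 2) a) ^ 2 := by decide
    have key2 : ∀ p : F4, p ≠ 0 → p ^ 2 ≠ 0 := by decide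
    obtain ⟨k, e, l1, m1, ⟨a, b, c, s, hk⟩, h1, h2, h3, h4⟩ := F.outN g hg (fun a b c s => by
      obtain ⟨a', b', c', s', h2⟩ := hc (a ^ 2) (b ^ 2) (c ^ 2) (s ^ 2)
      rw [key, key, key, key] at h2
      exact ⟨_, _, _, _, h2⟩)
    refine ⟨k, e, l1 ^ 2, m1 ^ 2, ⟨a ^ 2, b ^ 2, c ^ 2, s ^ 2, by rw [key, key, key, key]; exact hk⟩,
      key2 _ h1, key2 _ h2, ?_, ?_⟩
    · have h5 : k * F.h⁻¹ * k⁻¹ = (k * F.h * k⁻¹)⁻¹ := by group
      rw [h5, h3]
      cases e <;> simp [hm]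
    · rcases h4 with ⟨h5, h6⟩ | ⟨h5, h6⟩
      · exact Or.inl ⟨fun a => by rw [h5, key1], fun a => by rw [h6, key1]⟩
      · exact Or.inr ⟨fun a => by rw [h5, key1], fun a => by rw [h6, key1]⟩

theorem exists_v_pow {m : F4} (hm : m ≠ 0) : ∃ k : ℕ, F4.v ^ k = m ∧ F4.w ^ k * m = 1 := by
  have key : ∀ m : F4, m ≠ 0 → (F4.v ^ 0 = m ∧ F4.w ^ 0 * m = 1) ∨
    (F4.v ^ 1 = m ∧ F4.w ^ 1 * m = 1) ∨ (F4.v ^ 2 = m ∧ F4.w ^ 2 * m = 1) := by decide
  rcases key m hm with h | h | h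
  · exact ⟨0, h⟩
  · exact ⟨1, h⟩
  · exact ⟨2, h⟩

/-- the exponent used in `scale` -/
noncomputable def vlog (m : F4) (hm : m ≠ 0) : ℕ := (exists_v_pow hm).choose

theorem v_pow_vlog (m : F4) (hm : m ≠ 0) : F4.v ^ (vlog m hm) = m :=
  (exists_v_pow hm).choose_spec.1

theorem w_pow_vlog (m : F4) (hm : m ≠ 0) : F4.w ^ (vlog m hm) * m = 1 :=
  (exists_v_pow hm).choose_spec.2

/-- Rescale the coordinates. -/
noncomputable def scale (l m : F4) (hl : l ≠ 0) (hm : m ≠ 0) : Frm L where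
  x a := F.x (l * a)
  y a := F.y (m * a)
  d c s := F.d (l * m * c) (l * m ^ 2 * s)
  h := F.h
  n1 := F.h ^ (vlog m hm) * F.n1
  n2 := F.h ^ (vlog l hl) * F.n2
  x_mem _ := F.x_mem _
  y_mem _ := F.y_mem _
  d_mem c s := F.d_mem _ _
  h_mem := F.h_mem
  n1_mem := L.mul_mem (L.pow_mem F.h_mem _) F.n1_mem
  n2_mem := L.mul_mem (L.pow_mem F.h_mem _) F.n2_mem
  x_add a a' := by
    rw [← F.x_add, mul_add]
  y_add a a' := by
    rw [← F.y_add, mul_add]
  d_add c c' s s' := by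
    rw [← F.d_add, mul_add, mul_add]
  x_d a c s := F.x_d _ _ _
  y_d a c s := F.y_d _ _ _
  y_x a b := by
    rw [F.y_x]
    congr 2
    · ring
    · ring
  inj a b c s h := by
    obtain ⟨h1, h2, h3, h4⟩ := F.inj _ _ _ _ h
    refine ⟨?_, ?_, ?_, ?_⟩
    · exact (mul_eq_zero.1 h1).resolve_left hl
    · exact (mul_eq_zero.1 h2).resolve_left hm
    · exact (mul_eq_zero.1 h3).resolve_left (mul_ne_zero hl hm)
    · exact (mul_eq_zero.1 h4).resolve_left (mul_ne_zero hl (pow_ne_zero 2 hm))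
  h_x a := by
    rw [F.h_x]; congr 1; ring
  h_y a := by
    rw [F.h_y]; congr 1; ring
  h_d c s := by
    rw [F.h_d]; congr 1; ring
  h_pow := F.h_pow
  n1_x a := by
    have h1 := F.n1_x (l * a)
    calc F.h ^ (vlog m hm) * F.n1 * F.x (l * a) * (F.h ^ (vlog m hm) * F.n1)⁻¹
        = F.h ^ (vlog m hm) * (F.n1 * F.x (l * a) * F.n1⁻¹) * (F.h ^ (vlog m hm))⁻¹ := by group
      _ = _ := by
        rw [h1, h_pow_d, v_pow_vlog, mul_zero]
        congr 1
        ring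
  n1_d c s := by
    have h1 := F.n1_d (l * m * c) (l * m ^ 2 * s)
    calc F.h ^ (vlog m hm) * F.n1 * F.d (l * m * c) (l * m ^ 2 * s) *
            (F.h ^ (vlog m hm) * F.n1)⁻¹
        = F.h ^ (vlog m hm) * (F.n1 * F.d (l * m * c) (l * m ^ 2 * s) * F.n1⁻¹) *
            (F.h ^ (vlog m hm))⁻¹ := by group
      _ = (F.h ^ (vlog m hm) * F.x (l * m * c) * (F.h ^ (vlog m hm))⁻¹) *
            (F.h ^ (vlog m hm) * F.d 0 (l * m ^ 2 * s) * (F.h ^ (vlog m hm))⁻¹) := by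
          rw [h1]; group
      _ = _ := by
        rw [h_pow_d, h_pow_x, mul_zero]
        have e : F4.w ^ (vlog m hm) * (l * m * c) = l * c := by
          have := w_pow_vlog m hm
          linear_combination (l * c) * this
        rw [e, mul_zero]
  n1_h := by
    calc F.h ^ (vlog m hm) * F.n1 * F.h * (F.h ^ (vlog m hm) * F.n1)⁻¹
        = F.h ^ (vlog m hm) * (F.n1 * F.h * F.n1⁻¹) * (F.h ^ (vlog m hm))⁻¹ := by group
      _ = _ := by rw [F.n1_h]; group
  n2_y a := by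
    have h1 := F.n2_y (m * a)
    calc F.h ^ (vlog l hl) * F.n2 * F.y (m * a) * (F.h ^ (vlog l hl) * F.n2)⁻¹
        = F.h ^ (vlog l hl) * (F.n2 * F.y (m * a) * F.n2⁻¹) * (F.h ^ (vlog l hl))⁻¹ := by group
      _ = _ := by
        rw [h1, h_pow_d, v_pow_vlog, mul_zero]
        congr 1
        ring
  n2_d c s := by
    have h1 := F.n2_d (l * m * c) (l * m ^ 2 * s)
    calc F.h ^ (vlog l hl) * F.n2 * F.d (l * m * c) (l * m ^ 2 * s) *
            (F.h ^ (vlog l hl) * F.n2)⁻¹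
        = F.h ^ (vlog l hl) * (F.n2 * F.d (l * m * c) (l * m ^ 2 * s) * F.n2⁻¹) *
            (F.h ^ (vlog l hl))⁻¹ := by group
      _ = (F.h ^ (vlog l hl) * F.y (l * m * c) * (F.h ^ (vlog l hl))⁻¹) *
            (F.h ^ (vlog l hl) * F.d 0 (l * m ^ 2 * s) * (F.h ^ (vlog l hl))⁻¹) := by
          rw [h1]; group
      _ = _ := by
        rw [h_pow_d, h_pow_y, mul_zero]
        have e : F4.w ^ (vlog l hl) * (l * m * c) = m * c := by
          have := w_pow_vlog l hl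
          linear_combination (m * c) * this
        rw [e, mul_zero]
  n2_h := by
    calc F.h ^ (vlog l hl) * F.n2 * F.h * (F.h ^ (vlog l hl) * F.n2)⁻¹
        = F.h ^ (vlog l hl) * (F.n2 * F.h * F.n2⁻¹) * (F.h ^ (vlog l hl))⁻¹ := by group
      _ = _ := by rw [F.n2_h]; group
  cen g hg hc := by
    obtain ⟨s, hs⟩ := F.cen g hg hc
    refine ⟨(l * m ^ 2)⁻¹ * s, ?_⟩
    rw [hs, mul_zero, mul_inv_cancel_left₀ (mul_ne_zero hl (pow_ne_zero 2 hm))]
  cen_comm s g hg := by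
    rw [mul_zero]
    exact F.cen_comm _ g hg
  cent_d c s hc g hg hcm := by
    obtain ⟨a, b, c', s', h1⟩ := F.cent_d _ _ (mul_ne_zero (mul_ne_zero hl hm) hc) g hg hcm
    refine ⟨l⁻¹ * a, m⁻¹ * b, (l * m)⁻¹ * c', (l * m ^ 2)⁻¹ * s', ?_⟩
    rw [mul_inv_cancel_left₀ hl, mul_inv_cancel_left₀ hm, mul_inv_cancel_left₀ (mul_ne_zero hl hm),
      mul_inv_cancel_left₀ (mul_ne_zero hl (pow_ne_zero 2 hm))]
    exact h1
  norm_T g hg hc := by
    obtain ⟨k, a, b, c, s, h1⟩ := F.norm_T g hg (fun a b c s => by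
      obtain ⟨a', b', c', s', h2⟩ := hc (l⁻¹ * a) (m⁻¹ * b) ((l * m)⁻¹ * c) ((l * m ^ 2)⁻¹ * s)
      rw [mul_inv_cancel_left₀ hl, mul_inv_cancel_left₀ hm,
        mul_inv_cancel_left₀ (mul_ne_zero hl hm),
        mul_inv_cancel_left₀ (mul_ne_zero hl (pow_ne_zero 2 hm))] at h2
      exact ⟨_, _, _, _, h2⟩)
    refine ⟨k, l⁻¹ * a, m⁻¹ * b, (l * m)⁻¹ * c, (l * m ^ 2)⁻¹ * s, ?_⟩
    rw [mul_inv_cancel_left₀ hl, mul_inv_cancel_left₀ hm, mul_inv_cancel_left₀ (mul_ne_zero hl hm),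
      mul_inv_cancel_left₀ (mul_ne_zero hl (pow_ne_zero 2 hm))]
    exact h1
  card_L := F.card_L
  out g hg hx hy := by
    obtain ⟨a, b, c, s, h1⟩ := F.out g hg
      (fun a => by
        obtain ⟨c, s, h⟩ := hx (l⁻¹ * a)
        rw [mul_inv_cancel_left₀ hl] at h
        exact ⟨_, _, h⟩)
      (fun a => by
        obtain ⟨c, s, h⟩ := hy (m⁻¹ * a)
        rw [mul_inv_cancel_left₀ hm] at h
        exact ⟨_, _, h⟩)
    refine ⟨l⁻¹ * a, m⁻¹ * b, (l * m)⁻¹ * c, (l * m ^ 2)⁻¹ * s, ?_⟩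
    rw [mul_inv_cancel_left₀ hl, mul_inv_cancel_left₀ hm, mul_inv_cancel_left₀ (mul_ne_zero hl hm),
      mul_inv_cancel_left₀ (mul_ne_zero hl (pow_ne_zero 2 hm))]
    exact h1
  outN g hg hc := by
    have key : ∀ (e : Bool) (q r p : F4), r ≠ 0 →
        ∃ p', (p ≠ 0 → q ≠ 0 → p' ≠ 0) ∧ ∀ a, sm e p (q * a) = r * sm e p' a := by decide
    obtain ⟨k, e, l1, m1, ⟨a, b, c, s, hk⟩, h1, h2, h3, h4⟩ := F.outN g hg (fun a b c s => by
      obtain ⟨a', b', c', s', h2⟩ := hc (l⁻¹ * a) (m⁻¹ * b) ((l * m)⁻¹ * c) ((l * m ^ 2)⁻¹ * s)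
      rw [mul_inv_cancel_left₀ hl, mul_inv_cancel_left₀ hm,
        mul_inv_cancel_left₀ (mul_ne_zero hl hm),
        mul_inv_cancel_left₀ (mul_ne_zero hl (pow_ne_zero 2 hm))] at h2
      exact ⟨_, _, _, _, h2⟩)
    have hk' : g = F.x (l * (l⁻¹ * a)) * F.y (m * (m⁻¹ * b)) *
        F.d (l * m * ((l * m)⁻¹ * c)) (l * m ^ 2 * ((l * m ^ 2)⁻¹ * s)) * k := by
      rw [mul_inv_cancel_left₀ hl, mul_inv_cancel_left₀ hm,
        mul_inv_cancel_left₀ (mul_ne_zero hl hm),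
        mul_inv_cancel_left₀ (mul_ne_zero hl (pow_ne_zero 2 hm))]
      exact hk
    rcases h4 with ⟨h5, h6⟩ | ⟨h5, h6⟩
    · obtain ⟨l2, hl2, hl2'⟩ := key e l l l1 hl
      obtain ⟨m2, hm2, hm2'⟩ := key e m m m1 hm
      exact ⟨k, e, l2, m2, ⟨_, _, _, _, hk'⟩, hl2 h1 hl, hm2 h2 hm, h3,
        Or.inl ⟨fun a => by rw [h5, hl2'], fun a => by rw [h6, hm2']⟩⟩
    · obtain ⟨l2, hl2, hl2'⟩ := key e l m l1 hm
      obtain ⟨m2, hm2, hm2'⟩ := key e m l m1 hl
      exact ⟨k, e, l2, m2, ⟨_, _, _, _, hk'⟩, hl2 h1 hl, hm2 h2 hm, h3,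
        Or.inr ⟨fun a => by rw [h5, hl2'], fun a => by rw [h6, hm2']⟩⟩

end Frm

end Cfsg.Agent.StandardComponent.HeldType.Frame
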