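import Mathlib
import Cfsg.Agent.StandardComponent.HeldType.Frame

/-!
The Sylow `2`-subgroup `T0` of a frame: orders, the two elementary abelian subgroups of order `64`, and the
action of elements normalising `T0`.
-/

set_option autoImplicit false

namespace Cfsg.Agent.StandardComponent.HeldType.T0

open Cfsg.Agent.Lib.FieldFour Cfsg.Agent.StandardComponent.HeldType.Frame

variable {G : Type*} [Group G] {L : Subgroup G} (F : Frm L)

/-! ### Orders -/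

theorem card_T0 : Nat.card F.T0 = 256 := by
  have e : (F4 × F4 × F4 × F4) ≃ F.T0 := Equiv.ofBijective
    (fun p => ⟨F.t p.1 p.2.1 p.2.2.1 p.2.2.2, ⟨_, _, _, _, rfl⟩⟩)
    ⟨by
      rintro ⟨a, b, c, s⟩ ⟨a', b', c', s'⟩ h
      obtain ⟨h1, h2, h3, h4⟩ := F.t_inj (Subtype.ext_iff.1 h)
      simp_all,
     by
      rintro ⟨_, a, b, c, s, rfl⟩
      exact ⟨(a, b, c, s), rfl⟩⟩
  rw [← Nat.card_congr e]
  simp only [Nat.card_prod, F4.natCard]

theorem card_E1 : Nat.card F.E1 = 64 := by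
  have e : (F4 × F4 × F4) ≃ F.E1 := Equiv.ofBijective
    (fun p => ⟨F.t p.1 0 p.2.1 p.2.2, ⟨_, _, _, rfl⟩⟩)
    ⟨by
      rintro ⟨a, c, s⟩ ⟨a', c', s'⟩ h
      obtain ⟨h1, h2, h3, h4⟩ := F.t_inj (Subtype.ext_iff.1 h)
      simp_all,
     by
      rintro ⟨_, a, c, s, rfl⟩
      exact ⟨(a, c, s), rfl⟩⟩
  rw [← Nat.card_congr e]
  simp only [Nat.card_prod, F4.natCard]

theorem card_E2 : Nat.card F.E2 = 64 := by
  have e : (F4 × F4 × F4) ≃ F.E2 := Equiv.ofBijective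
    (fun p => ⟨F.t 0 p.1 p.2.1 p.2.2, ⟨_, _, _, rfl⟩⟩)
    ⟨by
      rintro ⟨a, c, s⟩ ⟨a', c', s'⟩ h
      obtain ⟨h1, h2, h3, h4⟩ := F.t_inj (Subtype.ext_iff.1 h)
      simp_all,
     by
      rintro ⟨_, a, c, s, rfl⟩
      exact ⟨(a, c, s), rfl⟩⟩
  rw [← Nat.card_congr e]
  simp only [Nat.card_prod, F4.natCard]

theorem d_inj {c s c' s' : F4} (h : F.d c s = F.d c' s') : c = c' ∧ s = s' := by
  rw [F.d_eq_t, F.d_eq_t] at h
  obtain ⟨-, -, h3, h4⟩ := F.t_inj h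
  exact ⟨h3, h4⟩

theorem x_inj {a a' : F4} (h : F.x a = F.x a') : a = a' := by
  rw [F.x_eq_t, F.x_eq_t] at h
  exact (F.t_inj h).1

theorem y_inj {a a' : F4} (h : F.y a = F.y a') : a = a' := by
  rw [F.y_eq_t, F.y_eq_t] at h
  exact (F.t_inj h).2.1

theorem card_D0 : Nat.card F.D0 = 16 := by
  have e : (F4 × F4) ≃ F.D0 := Equiv.ofBijective
    (fun p => ⟨F.d p.1 p.2, ⟨_, _, rfl⟩⟩)
    ⟨by
      rintro ⟨c, s⟩ ⟨c', s'⟩ h
      obtain ⟨h3, h4⟩ := d_inj F (Subtype.ext_iff.1 h)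
      simp_all,
     by
      rintro ⟨_, c, s, rfl⟩
      exact ⟨(c, s), rfl⟩⟩
  rw [← Nat.card_congr e]
  simp only [Nat.card_prod, F4.natCard]

theorem card_V : Nat.card F.V = 4 := by
  have e : F4 ≃ F.V := Equiv.ofBijective
    (fun p => ⟨F.d 0 p, ⟨_, rfl⟩⟩)
    ⟨by
      intro c c' h
      exact (d_inj F (Subtype.ext_iff.1 h)).2,
     by
      rintro ⟨_, s, rfl⟩
      exact ⟨s, rfl⟩⟩
  rw [← Nat.card_congr e, F4.natCard]

theorem card_U : Nat.card F.U = 4 := by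
  have e : F4 ≃ F.U := Equiv.ofBijective
    (fun p => ⟨F.d p 0, ⟨_, rfl⟩⟩)
    ⟨by
      intro c c' h
      exact (d_inj F (Subtype.ext_iff.1 h)).1,
     by
      rintro ⟨_, s, rfl⟩
      exact ⟨s, rfl⟩⟩
  rw [← Nat.card_congr e, F4.natCard]

theorem T0_le : F.T0 ≤ L := by
  rintro _ ⟨a, b, c, s, rfl⟩
  exact F.t_mem _ _ _ _

theorem E1_le : F.E1 ≤ F.T0 := by
  rintro _ ⟨a, c, s, rfl⟩
  exact ⟨_, _, _, _, rfl⟩

theorem E2_le : F.E2 ≤ F.T0 := by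
  rintro _ ⟨a, c, s, rfl⟩
  exact ⟨_, _, _, _, rfl⟩

theorem D0_le_E1 : F.D0 ≤ F.E1 := by
  rintro _ ⟨c, s, rfl⟩
  exact ⟨0, c, s, F.d_eq_t c s⟩

theorem D0_le_E2 : F.D0 ≤ F.E2 := by
  rintro _ ⟨c, s, rfl⟩
  exact ⟨0, c, s, F.d_eq_t c s⟩

theorem D0_le : F.D0 ≤ F.T0 := (D0_le_E1 F).trans (E1_le F)

theorem V_le_D0 : F.V ≤ F.D0 := by
  rintro _ ⟨s, rfl⟩
  exact ⟨_, _, rfl⟩

theorem U_le_D0 : F.U ≤ F.D0 := by
  rintro _ ⟨s, rfl⟩
  exact ⟨_, _, rfl⟩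

theorem V_le : F.V ≤ F.T0 := (V_le_D0 F).trans (D0_le F)

theorem U_le : F.U ≤ F.T0 := (U_le_D0 F).trans (D0_le F)

theorem isPGroup_T0 : IsPGroup 2 F.T0 :=
  IsPGroup.of_card (n := 8) (by rw [card_T0]; rfl)

theorem isPGroup_E1 : IsPGroup 2 F.E1 :=
  IsPGroup.of_card (n := 6) (by rw [card_E1]; rfl)

theorem isPGroup_E2 : IsPGroup 2 F.E2 :=
  IsPGroup.of_card (n := 6) (by rw [card_E2]; rfl)

theorem isPGroup_V : IsPGroup 2 F.V :=
  IsPGroup.of_card (n := 2) (by rw [card_V]; rfl)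

/-- The frame subgroup `T0` is a Sylow `2`-subgroup of `L`. -/
theorem sylow_T0 {P : Subgroup G} (hP : IsPGroup 2 P) (hPL : P ≤ L) (hTP : F.T0 ≤ P) :
    P = F.T0 := by
  have hLfin : Finite L := Nat.finite_of_card_ne_zero (by rw [F.card_L]; decide)
  have hPfin : Finite P := Finite.of_injective (Subgroup.inclusion hPL)
    (Subgroup.inclusion_injective hPL)
  have h1 : Nat.card P ∣ 80640 := by
    rw [← F.card_L]; exact Subgroup.card_dvd_of_le hPL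
  obtain ⟨n, hn⟩ := hP.exists_card_eq
  have h2 : Nat.card P ≤ 256 := by
    rw [hn] at h1 ⊢
    have h3 : n ≤ 8 := by
      by_contra h
      push Not at h
      have h4 : 2 ^ 9 ∣ 80640 := (pow_dvd_pow 2 (by omega : 9 ≤ n)).trans h1
      revert h4; decide
    calc 2 ^ n ≤ 2 ^ 8 := Nat.pow_le_pow_right (by norm_num) h3
      _ = 256 := by norm_num
  refine (Subgroup.eq_of_le_of_card_ge hTP ?_).symm
  rw [card_T0]; exact h2

/-! ### Centre, commutators, involutions -/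

theorem D0_comm {g t : G} (hg : g ∈ F.D0) (ht : t ∈ F.T0) : g * t = t * g := by
  obtain ⟨c, s, rfl⟩ := hg
  obtain ⟨a, b, c', s', rfl⟩ := ht
  rw [F.d_eq_t, F.t_comm_iff]
  simp

theorem mem_D0_of_comm {g : G} (hg : g ∈ F.T0) (h : ∀ t ∈ F.T0, g * t = t * g) : g ∈ F.D0 := by
  obtain ⟨a, b, c, s, rfl⟩ := hg
  have h1 := h (F.t 1 0 0 0) ⟨_, _, _, _, rfl⟩
  have h2 := h (F.t 0 1 0 0) ⟨_, _, _, _, rfl⟩
  rw [F.t_comm_iff] at h1 h2
  have hb : b = 0 := by simpa using h1.1.symm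
  have ha : a = 0 := by simpa using h2.1
  subst hb ha
  exact ⟨c, s, (F.d_eq_t c s).symm⟩

theorem sq_eq (a b c s : F4) : F.t a b c s * F.t a b c s = F.d (a * b) (a * b ^ 2) := by
  rw [F.t_mul, F.d_eq_t]
  have h1 := Frm.f4_add_self a
  have h2 := Frm.f4_add_self b
  have h3 := Frm.f4_add_self c
  have h4 := Frm.f4_add_self s
  rw [h1, h2, h3, h4, zero_add, zero_add]

theorem sq_eq_one_iff (a b c s : F4) : F.t a b c s * F.t a b c s = 1 ↔ a = 0 ∨ b = 0 := by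
  rw [sq_eq, ← F.d_zero]
  constructor
  · intro h
    exact mul_eq_zero.1 (d_inj F h).1
  · rintro (h | h)
    · rw [h]; simp
    · rw [h]; simp

/-- involutions of `T0` lie in `E1 ∪ E2` -/
theorem mem_E1_or_E2 {g : G} (hg : g ∈ F.T0) (h : g * g = 1) : g ∈ F.E1 ∨ g ∈ F.E2 := by
  obtain ⟨a, b, c, s, rfl⟩ := hg
  rcases (sq_eq_one_iff F a b c s).1 h with h | h
  · subst h; exact Or.inr ⟨_, _, _, rfl⟩
  · subst h; exact Or.inl ⟨_, _, _, rfl⟩

theorem E1_sq {g : G} (hg : g ∈ F.E1) : g * g = 1 := by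
  obtain ⟨a, c, s, rfl⟩ := hg
  exact (sq_eq_one_iff F _ _ _ _).2 (Or.inr rfl)

theorem E2_sq {g : G} (hg : g ∈ F.E2) : g * g = 1 := by
  obtain ⟨a, c, s, rfl⟩ := hg
  exact (sq_eq_one_iff F _ _ _ _).2 (Or.inl rfl)

theorem E1_comm {g g' : G} (hg : g ∈ F.E1) (hg' : g' ∈ F.E1) : g * g' = g' * g := by
  obtain ⟨a, c, s, rfl⟩ := hg
  obtain ⟨a', c', s', rfl⟩ := hg'
  rw [F.t_comm_iff]; simp

theorem E2_comm {g g' : G} (hg : g ∈ F.E2) (hg' : g' ∈ F.E2) : g * g' = g' * g := by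
  obtain ⟨a, c, s, rfl⟩ := hg
  obtain ⟨a', c', s', rfl⟩ := hg'
  rw [F.t_comm_iff]; simp

theorem E1_inf_E2 : F.E1 ⊓ F.E2 = F.D0 := by
  apply le_antisymm
  · rintro g ⟨⟨a, c, s, rfl⟩, ⟨b, c', s', h⟩⟩
    obtain ⟨h1, -, -, -⟩ := F.t_inj h
    subst h1
    exact ⟨c, s, (F.d_eq_t c s).symm⟩
  · exact le_inf (D0_le_E1 F) (D0_le_E2 F)

/-- elements of `T0` commuting with an element of `E1` outside `D0` lie in `E1` -/
theorem cent_E1 {g t : G} (hg : g ∈ F.E1) (hg' : g ∉ F.D0) (ht : t ∈ F.T0)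
    (h : g * t = t * g) : t ∈ F.E1 := by
  obtain ⟨a, c, s, rfl⟩ := hg
  obtain ⟨a', b', c', s', rfl⟩ := ht
  rw [F.t_comm_iff] at h
  have ha : a ≠ 0 := by
    rintro rfl
    exact hg' ⟨c, s, (F.d_eq_t c s).symm⟩
  have hb : b' = 0 := by
    have := h.1
    rw [mul_zero] at this
    exact (mul_eq_zero.1 this).resolve_left ha
  subst hb
  exact ⟨_, _, _, rfl⟩

theorem cent_E2 {g t : G} (hg : g ∈ F.E2) (hg' : g ∉ F.D0) (ht : t ∈ F.T0)
    (h : g * t = t * g) : t ∈ F.E2 := by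
  obtain ⟨a, c, s, rfl⟩ := hg
  obtain ⟨a', b', c', s', rfl⟩ := ht
  rw [F.t_comm_iff] at h
  have ha : a ≠ 0 := by
    rintro rfl
    exact hg' ⟨c, s, (F.d_eq_t c s).symm⟩
  have hb : a' = 0 := by
    have := h.1
    rw [zero_mul] at this
    exact (mul_eq_zero.1 this.symm).resolve_right ha
  subst hb
  exact ⟨_, _, _, rfl⟩

theorem le_E1_or_E2 {A : Subgroup G} (hA : A ≤ F.T0) (hc : ∀ g ∈ A, ∀ g' ∈ A, g * g' = g' * g)
    (hs : ∀ g ∈ A, g * g = 1) : A ≤ F.E1 ∨ A ≤ F.E2 := by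
  by_cases h : ∃ g ∈ A, g ∈ F.E1 ∧ g ∉ F.D0
  · obtain ⟨g, hg, h1, h2⟩ := h
    exact Or.inl fun t ht => cent_E1 F h1 h2 (hA ht) (hc _ hg _ ht)
  · right
    intro g hg
    rcases mem_E1_or_E2 F (hA hg) (hs g hg) with h1 | h1
    · by_contra h2
      exact h ⟨g, hg, h1, fun h3 => h2 (D0_le_E2 F h3)⟩
    · exact h1

/-- an abelian subgroup of `T0` of order at least `64` is `E1` or `E2` -/
theorem eq_E1_or_E2 {A : Subgroup G} (hA : A ≤ F.T0) (hc : ∀ g ∈ A, ∀ g' ∈ A, g * g' = g' * g)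
    (hcard : 64 ≤ Nat.card A) : A = F.E1 ∨ A = F.E2 := by
  have hTfin : Finite F.T0 := Nat.finite_of_card_ne_zero (by rw [card_T0]; decide)
  have hE1fin : Finite F.E1 := Nat.finite_of_card_ne_zero (by rw [card_E1]; decide)
  have hE2fin : Finite F.E2 := Nat.finite_of_card_ne_zero (by rw [card_E2]; decide)
  have hs : ∀ g ∈ A, g * g = 1 := by
    intro g hg
    obtain ⟨a, b, c, s, rfl⟩ := hA hg
    rw [sq_eq_one_iff]
    by_contra hab
    push Not at hab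
    obtain ⟨ha, hb⟩ := hab
    -- the centraliser has order at most 32
    have hsub : ∀ g' ∈ A, (∃ c s, g' = F.t 0 0 c s) ∨ (∃ c s, g' = F.t a b c s) := by
      intro g' hg'
      obtain ⟨a', b', c', s', rfl⟩ := hA hg'
      have h1 := hc _ hg _ hg'
      rw [F.t_comm_iff] at h1
      have key : ∀ a b a' b' : F4, a ≠ 0 → b ≠ 0 → a * b' = a' * b → a * b' ^ 2 = a' * b ^ 2 →
          (a' = 0 ∧ b' = 0) ∨ (a' = a ∧ b' = b) := by decide
      rcases key a b a' b' ha hb h1.1 h1.2 with ⟨rfl, rfl⟩ | ⟨rfl, rfl⟩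
      · exact Or.inl ⟨_, _, rfl⟩
      · exact Or.inr ⟨_, _, rfl⟩
    have hcard2 : Nat.card A ≤ Nat.card (Bool × F4 × F4) := by
      classical
      refine Nat.card_le_card_of_surjective
        (α := Bool × F4 × F4) (β := A)
        (fun p => if h : (bif p.1 then F.t 0 0 p.2.1 p.2.2 else F.t a b p.2.1 p.2.2) ∈ A
          then ⟨_, h⟩ else 1) ?_
      rintro ⟨g', hg'⟩
      rcases hsub g' hg' with ⟨c', s', rfl⟩ | ⟨c', s', rfl⟩
      · exact ⟨(true, c', s'), by simp [hg']⟩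
      · exact ⟨(false, c', s'), by simp [hg']⟩
    have h32 : Nat.card (Bool × F4 × F4) = 32 := by rw [Nat.card_eq_fintype_card]; rfl
    omega
  rcases le_E1_or_E2 F hA hc hs with h | h
  · exact Or.inl (Subgroup.eq_of_le_of_card_ge h (by rw [card_E1]; exact hcard))
  · exact Or.inr (Subgroup.eq_of_le_of_card_ge h (by rw [card_E2]; exact hcard))

end Cfsg.Agent.StandardComponent.HeldType.T0
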