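import Mathlib
import Cfsg.Agent.StandardComponent.HeldType.T0

/-!
The action of elements normalising the Sylow `2`-subgroup `T0` of a frame on the coordinates of `T0`.
-/

set_option autoImplicit false

namespace Cfsg.Agent.StandardComponent.HeldType.Act

open Cfsg.Agent.Lib.FieldFour Cfsg.Agent.StandardComponent.HeldType.Frame
  Cfsg.Agent.StandardComponent.HeldType.T0

/-! ### Semilinear maps of `F4` -/

theorem sm_add (e : Bool) (l a b : F4) : sm e l (a + b) = sm e l a + sm e l b := by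
  revert e l a b; decide

theorem sm_zero (e : Bool) (l : F4) : sm e l 0 = 0 := by
  revert e l; decide

theorem sm_eq_zero (e : Bool) (l a : F4) (hl : l ≠ 0) (h : sm e l a = 0) : a = 0 := by
  revert e l a; decide

theorem sm_comp (e e' : Bool) (l l' a : F4) :
    sm e l (sm e' l' a) = sm (xor e e') (sm e l l') a := by
  revert e e' l l' a; decide

theorem sm_ne_zero (e : Bool) (l l' : F4) (hl : l ≠ 0) (hl' : l' ≠ 0) : sm e l l' ≠ 0 := by
  revert e l l'; decide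

theorem sm_inj (e e' : Bool) (l l' : F4) (hl : l ≠ 0) (h : ∀ a, sm e l a = sm e' l' a) :
    e = e' ∧ l = l' := by
  revert e e' l l'; decide

theorem sm_false_one (a : F4) : sm false 1 a = a := by revert a; decide

theorem sm_true_one (a : F4) : sm true 1 a = a ^ 2 := by revert a; decide

theorem exists_sm (f : F4 → F4) (hadd : ∀ a b, f (a + b) = f a + f b)
    (hinj : ∀ a, f a = 0 → a = 0) : ∃ e l, l ≠ 0 ∧ ∀ a, f a = sm e l a := by
  have h0 : f 0 = 0 := by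
    have h := hadd 0 0
    rw [add_zero] at h
    exact left_eq_add.1 h
  have h1 : f 1 ≠ 0 := fun h => absurd (hinj _ h) (by decide)
  have h2 : f F4.w ≠ 0 := fun h => absurd (hinj _ h) (by decide)
  have h3 : f 1 ≠ f F4.w := by
    intro h
    have h4 : f (1 + F4.w) = 0 := by rw [hadd, h, Frm.f4_add_self]
    exact absurd (hinj _ h4) (by decide)
  have key : ∀ p q : F4, p ≠ 0 → q ≠ 0 → p ≠ q →
      ∃ e l, l ≠ 0 ∧ sm e l 1 = p ∧ sm e l F4.w = q := by decide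
  obtain ⟨e, l, hl, h5, h6⟩ := key _ _ h1 h2 h3
  refine ⟨e, l, hl, fun a => ?_⟩
  have h7 : f F4.v = sm e l F4.v := by
    have e1 : F4.v = 1 + F4.w := by decide
    rw [e1, hadd, sm_add, h5, h6]
  cases a
  · exact h0.trans (sm_zero e l).symm
  · exact h5.symm
  · exact h6.symm
  · exact h7

/-- the action on `D0` of an element acting without interchanging `E1` and `E2` -/
def dact (e e' : Bool) (l m c s : F4) : F4 × F4 :=
  match e, e' with
  | false, false => (l * m * c, l * m ^ 2 * s)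
  | true, true => (l * m * c ^ 2, l * m ^ 2 * s ^ 2)
  | false, true => (l * m * s, l * m ^ 2 * c)
  | true, false => (l * m * s ^ 2, l * m ^ 2 * c ^ 2)

/-- the action on `D0` of an element interchanging `E1` and `E2` -/
def dactS (e e' : Bool) (l m c s : F4) : F4 × F4 :=
  match e, e' with
  | false, false => (l * m * c, l ^ 2 * m * s ^ 2)
  | true, true => (l * m * c ^ 2, l ^ 2 * m * s)
  | false, true => (l * m * s, l ^ 2 * m * c ^ 2)
  | true, false => (l * m * s ^ 2, l ^ 2 * m * c)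

theorem f4_sq_add (a b : F4) : (a + b) ^ 2 = a ^ 2 + b ^ 2 := by revert a b; decide

theorem dact_add (e e' : Bool) (l m c s c' s' : F4) :
    dact e e' l m (c + c') (s + s') =
      ((dact e e' l m c s).1 + (dact e e' l m c' s').1,
        (dact e e' l m c s).2 + (dact e e' l m c' s').2) := by
  cases e <;> cases e' <;> simp only [dact, f4_sq_add, mul_add]

theorem dactS_add (e e' : Bool) (l m c s c' s' : F4) :
    dactS e e' l m (c + c') (s + s') =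
      ((dactS e e' l m c s).1 + (dactS e e' l m c' s').1,
        (dactS e e' l m c s).2 + (dactS e e' l m c' s').2) := by
  cases e <;> cases e' <;> simp only [dactS, f4_sq_add, mul_add]

theorem dact_gen (e e' : Bool) (l m a b : F4) :
    dact e e' l m (a * b) (a * b ^ 2) = (sm e l a * sm e' m b, sm e l a * sm e' m b ^ 2) := by
  revert e e' l m a b; decide

theorem dactS_gen (e e' : Bool) (l m a b : F4) :
    dactS e e' l m (a * b) (a * b ^ 2) = (sm e' m b * sm e l a, sm e' m b * sm e l a ^ 2) := by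
  revert e e' l m a b; decide

theorem exists_two (c s : F4) : ∃ a b a' b' : F4, c = a * b + a' * b' ∧
    s = a * b ^ 2 + a' * b' ^ 2 := by
  revert c s; decide

variable {G : Type*} [Group G] {L : Subgroup G} (F : Frm L)

/-- `g` acts on `T0` modulo `D0` without interchanging the two halves -/
def Acts (g : G) (e e' : Bool) (l m : F4) : Prop :=
  (∀ a, ∃ c s, g * F.x a * g⁻¹ = F.x (sm e l a) * F.d c s) ∧
    (∀ b, ∃ c s, g * F.y b * g⁻¹ = F.y (sm e' m b) * F.d c s)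

/-- `g` acts on `T0` modulo `D0` and interchanges the two halves -/
def ActsS (g : G) (e e' : Bool) (l m : F4) : Prop :=
  (∀ a, ∃ c s, g * F.x a * g⁻¹ = F.y (sm e l a) * F.d c s) ∧
    (∀ b, ∃ c s, g * F.y b * g⁻¹ = F.x (sm e' m b) * F.d c s)

theorem d_gen (a b : F4) :
    F.d (a * b) (a * b ^ 2) = (F.x a * F.y b)⁻¹ * (F.y b * F.x a) := by
  rw [F.y_x]; group

theorem act_gen {g : G} {e e' : Bool} {l m : F4} (h : Acts F g e e' l m) (a b : F4) :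
    g * F.d (a * b) (a * b ^ 2) * g⁻¹ =
      F.d (dact e e' l m (a * b) (a * b ^ 2)).1 (dact e e' l m (a * b) (a * b ^ 2)).2 := by
  obtain ⟨c, s, h1⟩ := h.1 a
  obtain ⟨c', s', h2⟩ := h.2 b
  rw [dact_gen, d_gen, d_gen]
  have e1 : g * ((F.x a * F.y b)⁻¹ * (F.y b * F.x a)) * g⁻¹ =
      ((g * F.x a * g⁻¹) * (g * F.y b * g⁻¹))⁻¹ * ((g * F.y b * g⁻¹) * (g * F.x a * g⁻¹)) := by
    group
  rw [e1, h1, h2]
  generalize sm e l a = p
  generalize sm e' m b = q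
  rw [F.xd_eq_t, F.yd_eq_t, F.x_eq_t, F.y_eq_t]
  simp only [F.t_mul, F.t_inv]
  congr 1
  · have h3 := Frm.f4_add_self c; have h4 := Frm.f4_add_self c'
    linear_combination h3 + h4
  · have h3 := Frm.f4_add_self s; have h4 := Frm.f4_add_self s'
    linear_combination h3 + h4

theorem actS_gen {g : G} {e e' : Bool} {l m : F4} (h : ActsS F g e e' l m) (a b : F4) :
    g * F.d (a * b) (a * b ^ 2) * g⁻¹ =
      F.d (dactS e e' l m (a * b) (a * b ^ 2)).1 (dactS e e' l m (a * b) (a * b ^ 2)).2 := by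
  obtain ⟨c, s, h1⟩ := h.1 a
  obtain ⟨c', s', h2⟩ := h.2 b
  rw [dactS_gen, d_gen, d_gen]
  have e1 : g * ((F.x a * F.y b)⁻¹ * (F.y b * F.x a)) * g⁻¹ =
      ((g * F.x a * g⁻¹) * (g * F.y b * g⁻¹))⁻¹ * ((g * F.y b * g⁻¹) * (g * F.x a * g⁻¹)) := by
    group
  rw [e1, h1, h2]
  generalize sm e l a = p
  generalize sm e' m b = q
  rw [F.xd_eq_t, F.yd_eq_t, F.x_eq_t, F.y_eq_t]
  simp only [F.t_mul, F.t_inv]
  have h5 := Frm.f4_add_self (q * p)
  have h6 := Frm.f4_add_self (q * p ^ 2)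
  congr 1
  · ring
  · ring
  · have h3 := Frm.f4_add_self c; have h4 := Frm.f4_add_self c'
    linear_combination h3 + h4
  · have h3 := Frm.f4_add_self s; have h4 := Frm.f4_add_self s'
    linear_combination h3 + h4

theorem act_d {g : G} {e e' : Bool} {l m : F4} (h : Acts F g e e' l m) (c s : F4) :
    g * F.d c s * g⁻¹ = F.d (dact e e' l m c s).1 (dact e e' l m c s).2 := by
  obtain ⟨a, b, a', b', rfl, rfl⟩ := exists_two c s
  rw [dact_add, F.d_add, F.d_add, ← act_gen F h, ← act_gen F h]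
  group

theorem actS_d {g : G} {e e' : Bool} {l m : F4} (h : ActsS F g e e' l m) (c s : F4) :
    g * F.d c s * g⁻¹ = F.d (dactS e e' l m c s).1 (dactS e e' l m c s).2 := by
  obtain ⟨a, b, a', b', rfl, rfl⟩ := exists_two c s
  rw [dactS_add, F.d_add, F.d_add, ← actS_gen F h, ← actS_gen F h]
  group

/-! ### Elements normalising `T0` -/

section Norm

variable {g : G} (hg : ∀ x, x ∈ F.T0 ↔ g * x * g⁻¹ ∈ F.T0)

include hg

theorem D0_iff : ∀ x, x ∈ F.D0 ↔ g * x * g⁻¹ ∈ F.D0 := by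
  have key : ∀ g : G, (∀ x, x ∈ F.T0 ↔ g * x * g⁻¹ ∈ F.T0) → ∀ x, x ∈ F.D0 →
      g * x * g⁻¹ ∈ F.D0 := by
    intro g hg x hx
    apply mem_D0_of_comm F ((hg x).1 (D0_le F hx))
    intro t ht
    have h1 : g⁻¹ * t * g ∈ F.T0 := by
      rw [hg]
      have : g * (g⁻¹ * t * g) * g⁻¹ = t := by group
      rwa [this]
    have h2 := D0_comm F hx h1
    calc g * x * g⁻¹ * t = g * (x * (g⁻¹ * t * g)) * g⁻¹ := by group
      _ = _ := by rw [h2]; group
  intro x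
  refine ⟨key g hg x, fun h => ?_⟩
  have h1 := key g⁻¹ (fun x => by
    rw [hg (g⁻¹ * x * g⁻¹⁻¹)]
    have : g * (g⁻¹ * x * g⁻¹⁻¹) * g⁻¹ = x := by group
    rw [this]) _ h
  have : g⁻¹ * (g * x * g⁻¹) * g⁻¹⁻¹ = x := by group
  rwa [this] at h1

theorem inv_iff : ∀ x, x ∈ F.T0 ↔ g⁻¹ * x * g⁻¹⁻¹ ∈ F.T0 := by
  intro x
  rw [hg (g⁻¹ * x * g⁻¹⁻¹)]
  have : g * (g⁻¹ * x * g⁻¹⁻¹) * g⁻¹ = x := by group
  rw [this]

/-- the elements of `N(T0)` fix or interchange `E1` and `E2` -/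
theorem E1_cases : (∀ x, x ∈ F.E1 ↔ g * x * g⁻¹ ∈ F.E1) ∨ (∀ x, x ∈ F.E1 ↔ g * x * g⁻¹ ∈ F.E2) := by
  have h1 : Nat.card (F.E1.map (MulAut.conj g).toMonoidHom) = 64 := by
    rw [← card_E1 F]
    exact Subgroup.card_map_of_injective (MulAut.conj g).injective
  have h2 : F.E1.map (MulAut.conj g).toMonoidHom ≤ F.T0 := by
    rintro _ ⟨x, hx, rfl⟩
    exact (hg x).1 (E1_le F hx)
  have h3 : ∀ u ∈ F.E1.map (MulAut.conj g).toMonoidHom,
      ∀ u' ∈ F.E1.map (MulAut.conj g).toMonoidHom, u * u' = u' * u := by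
    rintro _ ⟨x, hx, rfl⟩ _ ⟨x', hx', rfl⟩
    rw [← map_mul, ← map_mul, E1_comm F hx hx']
  have h4 : ∀ x, x ∈ F.E1 ↔ g * x * g⁻¹ ∈ F.E1.map (MulAut.conj g).toMonoidHom := by
    intro x
    constructor
    · intro hx
      exact ⟨x, hx, rfl⟩
    · rintro ⟨x', hx', h⟩
      have h5 : g * x' * g⁻¹ = g * x * g⁻¹ := h
      have h6 : x' = x := by simpa using h5
      rwa [← h6]
  rcases eq_E1_or_E2 F h2 h3 h1.ge with h | h
  · left; rw [h] at h4; exact h4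
  · right; rw [h] at h4; exact h4

theorem E2_cases : (∀ x, x ∈ F.E2 ↔ g * x * g⁻¹ ∈ F.E1) ∨ (∀ x, x ∈ F.E2 ↔ g * x * g⁻¹ ∈ F.E2) := by
  have h1 : Nat.card (F.E2.map (MulAut.conj g).toMonoidHom) = 64 := by
    rw [← card_E2 F]
    exact Subgroup.card_map_of_injective (MulAut.conj g).injective
  have h2 : F.E2.map (MulAut.conj g).toMonoidHom ≤ F.T0 := by
    rintro _ ⟨x, hx, rfl⟩
    exact (hg x).1 (E2_le F hx)
  have h3 : ∀ u ∈ F.E2.map (MulAut.conj g).toMonoidHom,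
      ∀ u' ∈ F.E2.map (MulAut.conj g).toMonoidHom, u * u' = u' * u := by
    rintro _ ⟨x, hx, rfl⟩ _ ⟨x', hx', rfl⟩
    rw [← map_mul, ← map_mul, E2_comm F hx hx']
  have h4 : ∀ x, x ∈ F.E2 ↔ g * x * g⁻¹ ∈ F.E2.map (MulAut.conj g).toMonoidHom := by
    intro x
    constructor
    · intro hx
      exact ⟨x, hx, rfl⟩
    · rintro ⟨x', hx', h⟩
      have h5 : g * x' * g⁻¹ = g * x * g⁻¹ := h
      have h6 : x' = x := by simpa using h5
      rwa [← h6]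
  rcases eq_E1_or_E2 F h2 h3 h1.ge with h | h
  · left; rw [h] at h4; exact h4
  · right; rw [h] at h4; exact h4

theorem E_cases : ((∀ x, x ∈ F.E1 ↔ g * x * g⁻¹ ∈ F.E1) ∧ (∀ x, x ∈ F.E2 ↔ g * x * g⁻¹ ∈ F.E2)) ∨
    ((∀ x, x ∈ F.E1 ↔ g * x * g⁻¹ ∈ F.E2) ∧ (∀ x, x ∈ F.E2 ↔ g * x * g⁻¹ ∈ F.E1)) := by
  have key : ∀ (A B : Subgroup G), (∀ x, x ∈ A ↔ g * x * g⁻¹ ∈ B) →
      ∀ (A' : Subgroup G), (∀ x, x ∈ A' ↔ g * x * g⁻¹ ∈ B) → A = A' := by
    intro A B h1 A' h2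
    ext x; rw [h1, h2]
  have hne : F.E1 ≠ F.E2 := by
    intro h
    have h1 : F.x 1 ∈ F.E2 := by rw [← h]; exact ⟨1, 0, 0, F.x_eq_t 1⟩
    obtain ⟨b, c, s, h2⟩ := h1
    rw [F.x_eq_t] at h2
    exact absurd (F.t_inj h2).1 (by decide)
  rcases E1_cases F hg with h | h <;> rcases E2_cases F hg with h' | h'
  · exact absurd (key _ _ h _ h') hne
  · exact Or.inl ⟨h, h'⟩
  · exact Or.inr ⟨h, h'⟩
  · exact absurd (key _ _ h _ h') hne

theorem exists_acts (h1 : ∀ x, x ∈ F.E1 ↔ g * x * g⁻¹ ∈ F.E1)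
    (h2 : ∀ x, x ∈ F.E2 ↔ g * x * g⁻¹ ∈ F.E2) :
    ∃ e e' l m, l ≠ 0 ∧ m ≠ 0 ∧ Acts F g e e' l m := by
  have hD := D0_iff F hg
  have hx : ∀ a, ∃ a' c s, g * F.x a * g⁻¹ = F.x a' * F.d c s := by
    intro a
    obtain ⟨a', c, s, h⟩ := (h1 (F.x a)).1 ⟨a, 0, 0, F.x_eq_t a⟩
    exact ⟨a', c, s, by rw [h, F.xd_eq_t]⟩
  have hy : ∀ a, ∃ a' c s, g * F.y a * g⁻¹ = F.y a' * F.d c s := by
    intro a
    obtain ⟨a', c, s, h⟩ := (h2 (F.y a)).1 ⟨a, 0, 0, F.y_eq_t a⟩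
    exact ⟨a', c, s, by rw [h, F.yd_eq_t]⟩
  choose f c s hf using hx
  choose f' c' s' hf' using hy
  obtain ⟨e, l, hl, hel⟩ := exists_sm f (fun a b => by
      have h3 : g * F.x (a + b) * g⁻¹ = (g * F.x a * g⁻¹) * (g * F.x b * g⁻¹) := by
        rw [F.x_add]; group
      rw [hf, hf, hf, F.xd_eq_t, F.xd_eq_t, F.xd_eq_t, F.t_mul] at h3
      exact (F.t_inj h3).1)
    (fun a ha => by
      have h3 : F.x a ∈ F.D0 := by
        rw [hD, hf, ha, F.x_zero, one_mul]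
        exact ⟨_, _, rfl⟩
      obtain ⟨c, s, h4⟩ := h3
      rw [F.x_eq_t, F.d_eq_t] at h4
      exact (F.t_inj h4).1)
  obtain ⟨e', m, hm, hem⟩ := exists_sm f' (fun a b => by
      have h3 : g * F.y (a + b) * g⁻¹ = (g * F.y a * g⁻¹) * (g * F.y b * g⁻¹) := by
        rw [F.y_add]; group
      rw [hf', hf', hf', F.yd_eq_t, F.yd_eq_t, F.yd_eq_t, F.t_mul] at h3
      exact (F.t_inj h3).2.1)
    (fun a ha => by
      have h3 : F.y a ∈ F.D0 := by
        rw [hD, hf', ha, F.y_zero, one_mul]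
        exact ⟨_, _, rfl⟩
      obtain ⟨c, s, h4⟩ := h3
      rw [F.y_eq_t, F.d_eq_t] at h4
      exact (F.t_inj h4).2.1)
  exact ⟨e, e', l, m, hl, hm, fun a => ⟨c a, s a, by rw [hf, hel]⟩,
    fun a => ⟨c' a, s' a, by rw [hf', hem]⟩⟩

theorem exists_actsS (h1 : ∀ x, x ∈ F.E1 ↔ g * x * g⁻¹ ∈ F.E2)
    (h2 : ∀ x, x ∈ F.E2 ↔ g * x * g⁻¹ ∈ F.E1) :
    ∃ e e' l m, l ≠ 0 ∧ m ≠ 0 ∧ ActsS F g e e' l m := by
  have hD := D0_iff F hg
  have hx : ∀ a, ∃ a' c s, g * F.x a * g⁻¹ = F.y a' * F.d c s := by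
    intro a
    obtain ⟨a', c, s, h⟩ := (h1 (F.x a)).1 ⟨a, 0, 0, F.x_eq_t a⟩
    exact ⟨a', c, s, by rw [h, F.yd_eq_t]⟩
  have hy : ∀ a, ∃ a' c s, g * F.y a * g⁻¹ = F.x a' * F.d c s := by
    intro a
    obtain ⟨a', c, s, h⟩ := (h2 (F.y a)).1 ⟨a, 0, 0, F.y_eq_t a⟩
    exact ⟨a', c, s, by rw [h, F.xd_eq_t]⟩
  choose f c s hf using hx
  choose f' c' s' hf' using hy
  obtain ⟨e, l, hl, hel⟩ := exists_sm f (fun a b => by
      have h3 : g * F.x (a + b) * g⁻¹ = (g * F.x a * g⁻¹) * (g * F.x b * g⁻¹) := by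
        rw [F.x_add]; group
      rw [hf, hf, hf, F.yd_eq_t, F.yd_eq_t, F.yd_eq_t, F.t_mul] at h3
      exact (F.t_inj h3).2.1)
    (fun a ha => by
      have h3 : F.x a ∈ F.D0 := by
        rw [hD, hf, ha, F.y_zero, one_mul]
        exact ⟨_, _, rfl⟩
      obtain ⟨c, s, h4⟩ := h3
      rw [F.x_eq_t, F.d_eq_t] at h4
      exact (F.t_inj h4).1)
  obtain ⟨e', m, hm, hem⟩ := exists_sm f' (fun a b => by
      have h3 : g * F.y (a + b) * g⁻¹ = (g * F.y a * g⁻¹) * (g * F.y b * g⁻¹) := by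
        rw [F.y_add]; group
      rw [hf', hf', hf', F.xd_eq_t, F.xd_eq_t, F.xd_eq_t, F.t_mul] at h3
      exact (F.t_inj h3).1)
    (fun a ha => by
      have h3 : F.y a ∈ F.D0 := by
        rw [hD, hf', ha, F.x_zero, one_mul]
        exact ⟨_, _, rfl⟩
      obtain ⟨c, s, h4⟩ := h3
      rw [F.y_eq_t, F.d_eq_t] at h4
      exact (F.t_inj h4).2.1)
  exact ⟨e, e', l, m, hl, hm, fun a => ⟨c a, s a, by rw [hf, hel]⟩,
    fun a => ⟨c' a, s' a, by rw [hf', hem]⟩⟩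

/-- every element normalising `T0` acts in one of the standard ways modulo `D0` -/
theorem act_cases : (∃ e e' l m, l ≠ 0 ∧ m ≠ 0 ∧ Acts F g e e' l m) ∨
    (∃ e e' l m, l ≠ 0 ∧ m ≠ 0 ∧ ActsS F g e e' l m) := by
  rcases E_cases F hg with ⟨h1, h2⟩ | ⟨h1, h2⟩
  · exact Or.inl (exists_acts F hg h1 h2)
  · exact Or.inr (exists_actsS F hg h1 h2)

end Norm

/-! ### Composition -/

theorem conj_xd {g : G} {e e' : Bool} {l m : F4} (h : Acts F g e e' l m) (a c s : F4) :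
    ∃ c' s', g * (F.x a * F.d c s) * g⁻¹ = F.x (sm e l a) * F.d c' s' := by
  obtain ⟨c1, s1, h1⟩ := h.1 a
  have h2 := act_d F h c s
  refine ⟨c1 + (dact e e' l m c s).1, s1 + (dact e e' l m c s).2, ?_⟩
  have e0 : g * (F.x a * F.d c s) * g⁻¹ = (g * F.x a * g⁻¹) * (g * F.d c s * g⁻¹) := by group
  rw [e0, h1, h2, F.d_add, mul_assoc]

theorem conj_yd {g : G} {e e' : Bool} {l m : F4} (h : Acts F g e e' l m) (a c s : F4) :
    ∃ c' s', g * (F.y a * F.d c s) * g⁻¹ = F.y (sm e' m a) * F.d c' s' := by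
  obtain ⟨c1, s1, h1⟩ := h.2 a
  have h2 := act_d F h c s
  refine ⟨c1 + (dact e e' l m c s).1, s1 + (dact e e' l m c s).2, ?_⟩
  have e0 : g * (F.y a * F.d c s) * g⁻¹ = (g * F.y a * g⁻¹) * (g * F.d c s * g⁻¹) := by group
  rw [e0, h1, h2, F.d_add, mul_assoc]

theorem conjS_xd {g : G} {e e' : Bool} {l m : F4} (h : ActsS F g e e' l m) (a c s : F4) :
    ∃ c' s', g * (F.x a * F.d c s) * g⁻¹ = F.y (sm e l a) * F.d c' s' := by
  obtain ⟨c1, s1, h1⟩ := h.1 a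
  have h2 := actS_d F h c s
  refine ⟨c1 + (dactS e e' l m c s).1, s1 + (dactS e e' l m c s).2, ?_⟩
  have e0 : g * (F.x a * F.d c s) * g⁻¹ = (g * F.x a * g⁻¹) * (g * F.d c s * g⁻¹) := by group
  rw [e0, h1, h2, F.d_add, mul_assoc]

theorem conjS_yd {g : G} {e e' : Bool} {l m : F4} (h : ActsS F g e e' l m) (a c s : F4) :
    ∃ c' s', g * (F.y a * F.d c s) * g⁻¹ = F.x (sm e' m a) * F.d c' s' := by
  obtain ⟨c1, s1, h1⟩ := h.2 a
  have h2 := actS_d F h c s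
  refine ⟨c1 + (dactS e e' l m c s).1, s1 + (dactS e e' l m c s).2, ?_⟩
  have e0 : g * (F.y a * F.d c s) * g⁻¹ = (g * F.y a * g⁻¹) * (g * F.d c s * g⁻¹) := by group
  rw [e0, h1, h2, F.d_add, mul_assoc]

theorem acts_mul {g g1 : G} {e e' e1 e1' : Bool} {l m l1 m1 : F4} (h : Acts F g e e' l m)
    (h1 : Acts F g1 e1 e1' l1 m1) :
    Acts F (g * g1) (xor e e1) (xor e' e1') (sm e l l1) (sm e' m m1) := by
  constructor
  · intro a
    obtain ⟨c, s, h2⟩ := h1.1 a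
    obtain ⟨c', s', h3⟩ := conj_xd F h (sm e1 l1 a) c s
    refine ⟨c', s', ?_⟩
    rw [← sm_comp, ← h3, ← h2]; group
  · intro a
    obtain ⟨c, s, h2⟩ := h1.2 a
    obtain ⟨c', s', h3⟩ := conj_yd F h (sm e1' m1 a) c s
    refine ⟨c', s', ?_⟩
    rw [← sm_comp, ← h3, ← h2]; group

theorem actsS_mul {g g1 : G} {e e' e1 e1' : Bool} {l m l1 m1 : F4} (h : ActsS F g e e' l m)
    (h1 : Acts F g1 e1 e1' l1 m1) :
    ActsS F (g * g1) (xor e e1) (xor e' e1') (sm e l l1) (sm e' m m1) := by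
  constructor
  · intro a
    obtain ⟨c, s, h2⟩ := h1.1 a
    obtain ⟨c', s', h3⟩ := conjS_xd F h (sm e1 l1 a) c s
    refine ⟨c', s', ?_⟩
    rw [← sm_comp, ← h3, ← h2]; group
  · intro a
    obtain ⟨c, s, h2⟩ := h1.2 a
    obtain ⟨c', s', h3⟩ := conjS_yd F h (sm e1' m1 a) c s
    refine ⟨c', s', ?_⟩
    rw [← sm_comp, ← h3, ← h2]; group

theorem acts_mulS {g g1 : G} {e e' e1 e1' : Bool} {l m l1 m1 : F4} (h : Acts F g e e' l m)
    (h1 : ActsS F g1 e1 e1' l1 m1) :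
    ActsS F (g * g1) (xor e' e1) (xor e e1') (sm e' m l1) (sm e l m1) := by
  constructor
  · intro a
    obtain ⟨c, s, h2⟩ := h1.1 a
    obtain ⟨c', s', h3⟩ := conj_yd F h (sm e1 l1 a) c s
    refine ⟨c', s', ?_⟩
    rw [← sm_comp, ← h3, ← h2]; group
  · intro a
    obtain ⟨c, s, h2⟩ := h1.2 a
    obtain ⟨c', s', h3⟩ := conj_xd F h (sm e1' m1 a) c s
    refine ⟨c', s', ?_⟩
    rw [← sm_comp, ← h3, ← h2]; group

theorem actsS_mulS {g g1 : G} {e e' e1 e1' : Bool} {l m l1 m1 : F4} (h : ActsS F g e e' l m)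
    (h1 : ActsS F g1 e1 e1' l1 m1) :
    Acts F (g * g1) (xor e' e1) (xor e e1') (sm e' m l1) (sm e l m1) := by
  constructor
  · intro a
    obtain ⟨c, s, h2⟩ := h1.1 a
    obtain ⟨c', s', h3⟩ := conjS_yd F h (sm e1 l1 a) c s
    refine ⟨c', s', ?_⟩
    rw [← sm_comp, ← h3, ← h2]; group
  · intro a
    obtain ⟨c, s, h2⟩ := h1.2 a
    obtain ⟨c', s', h3⟩ := conjS_xd F h (sm e1' m1 a) c s
    refine ⟨c', s', ?_⟩
    rw [← sm_comp, ← h3, ← h2]; group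

theorem acts_unique {g : G} {e e' e1 e1' : Bool} {l m l1 m1 : F4} (h : Acts F g e e' l m)
    (h1 : Acts F g e1 e1' l1 m1) (hl : l ≠ 0) (hm : m ≠ 0) :
    e = e1 ∧ e' = e1' ∧ l = l1 ∧ m = m1 := by
  have h2 : ∀ a, sm e l a = sm e1 l1 a := by
    intro a
    obtain ⟨c, s, h3⟩ := h.1 a
    obtain ⟨c', s', h4⟩ := h1.1 a
    rw [h3, F.xd_eq_t, F.xd_eq_t] at h4
    exact (F.t_inj h4).1
  have h3 : ∀ a, sm e' m a = sm e1' m1 a := by
    intro a
    obtain ⟨c, s, h3⟩ := h.2 a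
    obtain ⟨c', s', h4⟩ := h1.2 a
    rw [h3, F.yd_eq_t, F.yd_eq_t] at h4
    exact (F.t_inj h4).2.1
  obtain ⟨r1, r2⟩ := sm_inj _ _ _ _ hl h2
  obtain ⟨r3, r4⟩ := sm_inj _ _ _ _ hm h3
  exact ⟨r1, r3, r2, r4⟩

theorem acts_one : Acts F 1 false false 1 1 :=
  ⟨fun a => ⟨0, 0, by rw [sm_false_one, F.d_zero]; group⟩,
    fun a => ⟨0, 0, by rw [sm_false_one, F.d_zero]; group⟩⟩

/-- elements centralising `T0` act trivially -/
theorem acts_of_cent {g : G} (h : ∀ t ∈ F.T0, g * t = t * g) : Acts F g false false 1 1 := by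
  constructor
  · intro a
    refine ⟨0, 0, ?_⟩
    rw [sm_false_one, F.d_zero, mul_one, h _ ⟨_, _, _, _, F.x_eq_t a⟩]; group
  · intro a
    refine ⟨0, 0, ?_⟩
    rw [sm_false_one, F.d_zero, mul_one, h _ ⟨_, _, _, _, F.y_eq_t a⟩]; group

/-- elements of `T0` act trivially modulo `D0` -/
theorem acts_T0 {g : G} (hg : g ∈ F.T0) : Acts F g false false 1 1 := by
  obtain ⟨a0, b0, c0, s0, rfl⟩ := hg
  constructor
  · intro a
    refine ⟨a0 * 0 + a * b0, a0 * 0 ^ 2 + a * b0 ^ 2, ?_⟩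
    rw [sm_false_one, F.xd_eq_t, F.x_eq_t, F.t_conj, zero_add, zero_add]
  · intro a
    refine ⟨a0 * a + 0 * b0, a0 * a ^ 2 + 0 * b0 ^ 2, ?_⟩
    rw [sm_false_one, F.yd_eq_t, F.y_eq_t, F.t_conj, zero_add, zero_add]

theorem acts_h : Acts F F.h false false F4.w F4.w :=
  ⟨fun a => ⟨0, 0, by rw [F.h_x, F.d_zero, mul_one]; rfl⟩,
    fun a => ⟨0, 0, by rw [F.h_y, F.d_zero, mul_one]; rfl⟩⟩

end Cfsg.Agent.StandardComponent.HeldType.Act
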