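import Mathlib
import Cfsg.Agent.StandardComponent.HeldType.Act

/-!
Classification of the action of `2`-elements normalising `L` and `T0`: inner, field, graph, unitary type.
-/

set_option autoImplicit false

namespace Cfsg.Agent.StandardComponent.HeldType.ActType

open Cfsg.Agent.Lib.FieldFour Cfsg.Agent.StandardComponent.HeldType.Frame
  Cfsg.Agent.StandardComponent.HeldType.T0 Cfsg.Agent.StandardComponent.HeldType.Act

variable {G : Type*} [Group G] {L : Subgroup G} (F : Frm L)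

theorem mem_V_iff {x : G} : x ∈ F.V ↔ x ∈ L ∧ ∀ l ∈ L, x * l = l * x := by
  constructor
  · intro h
    exact ⟨(V_le F).trans (T0_le F) h, fun l hl => F.V_comm h hl⟩
  · rintro ⟨h1, h2⟩
    exact F.cen x h1 h2

/-- elements normalising `L` preserve `V` -/
theorem V_iff {g : G} (hg : ∀ l, l ∈ L ↔ g * l * g⁻¹ ∈ L) (x : G) :
    x ∈ F.V ↔ g * x * g⁻¹ ∈ F.V := by
  rw [mem_V_iff, mem_V_iff, ← hg]
  refine and_congr_right fun hx => ?_
  constructor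
  · intro h l hl
    have h1 : g⁻¹ * l * g ∈ L := by
      rw [hg]
      have : g * (g⁻¹ * l * g) * g⁻¹ = l := by group
      rwa [this]
    have h2 := h _ h1
    calc g * x * g⁻¹ * l = g * (x * (g⁻¹ * l * g)) * g⁻¹ := by group
      _ = _ := by rw [h2]; group
  · intro h l hl
    have h2 := h _ ((hg l).1 hl)
    calc x * l = g⁻¹ * ((g * x * g⁻¹) * (g * l * g⁻¹)) * g := by group
      _ = _ := by rw [h2]; group

/-! ### Frames with the same Sylow subgroup -/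

theorem scale_T0 (l m : F4) (hl : l ≠ 0) (hm : m ≠ 0) : (F.scale l m hl hm).T0 = F.T0 := by
  ext x
  constructor
  · rintro ⟨a, b, c, s, rfl⟩
    exact ⟨_, _, _, _, rfl⟩
  · rintro ⟨a, b, c, s, rfl⟩
    refine ⟨l⁻¹ * a, m⁻¹ * b, (l * m)⁻¹ * c, (l * m ^ 2)⁻¹ * s, ?_⟩
    change _ = F.x (l * (l⁻¹ * a)) * F.y (m * (m⁻¹ * b)) *
        F.d (l * m * ((l * m)⁻¹ * c)) (l * m ^ 2 * ((l * m ^ 2)⁻¹ * s))
    rw [mul_inv_cancel_left₀ hl, mul_inv_cancel_left₀ hm,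
      mul_inv_cancel_left₀ (mul_ne_zero hl hm),
      mul_inv_cancel_left₀ (mul_ne_zero hl (pow_ne_zero 2 hm))]
    rfl

theorem scale_D0 (l m : F4) (hl : l ≠ 0) (hm : m ≠ 0) : (F.scale l m hl hm).D0 = F.D0 := by
  ext x
  constructor
  · rintro ⟨c, s, rfl⟩
    exact ⟨_, _, rfl⟩
  · rintro ⟨c, s, rfl⟩
    refine ⟨(l * m)⁻¹ * c, (l * m ^ 2)⁻¹ * s, ?_⟩
    change _ = F.d (l * m * ((l * m)⁻¹ * c)) (l * m ^ 2 * ((l * m ^ 2)⁻¹ * s))
    rw [mul_inv_cancel_left₀ (mul_ne_zero hl hm),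
      mul_inv_cancel_left₀ (mul_ne_zero hl (pow_ne_zero 2 hm))]

theorem scale_V (l m : F4) (hl : l ≠ 0) (hm : m ≠ 0) : (F.scale l m hl hm).V = F.V := by
  ext x
  constructor
  · rintro ⟨s, rfl⟩
    exact ⟨l * m ^ 2 * s, by change F.d (l * m * 0) _ = _; rw [mul_zero]⟩
  · rintro ⟨s, rfl⟩
    refine ⟨(l * m ^ 2)⁻¹ * s, ?_⟩
    change _ = F.d (l * m * 0) (l * m ^ 2 * ((l * m ^ 2)⁻¹ * s))
    rw [mul_inv_cancel_left₀ (mul_ne_zero hl (pow_ne_zero 2 hm)), mul_zero]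

theorem scale_U (l m : F4) (hl : l ≠ 0) (hm : m ≠ 0) : (F.scale l m hl hm).U = F.U := by
  ext x
  constructor
  · rintro ⟨s, rfl⟩
    exact ⟨l * m * s, by change F.d _ (l * m ^ 2 * 0) = _; rw [mul_zero]⟩
  · rintro ⟨s, rfl⟩
    refine ⟨(l * m)⁻¹ * s, ?_⟩
    change _ = F.d (l * m * ((l * m)⁻¹ * s)) (l * m ^ 2 * 0)
    rw [mul_inv_cancel_left₀ (mul_ne_zero hl hm), mul_zero]

theorem scale_E1 (l m : F4) (hl : l ≠ 0) (hm : m ≠ 0) : (F.scale l m hl hm).E1 = F.E1 := by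
  ext x
  constructor
  · rintro ⟨a, c, s, rfl⟩
    refine ⟨l * a, l * m * c, l * m ^ 2 * s, ?_⟩
    change F.x (l * a) * F.y (m * 0) * F.d _ _ = _
    rw [mul_zero]; rfl
  · rintro ⟨a, c, s, rfl⟩
    refine ⟨l⁻¹ * a, (l * m)⁻¹ * c, (l * m ^ 2)⁻¹ * s, ?_⟩
    change _ = F.x (l * (l⁻¹ * a)) * F.y (m * 0) *
        F.d (l * m * ((l * m)⁻¹ * c)) (l * m ^ 2 * ((l * m ^ 2)⁻¹ * s))
    rw [mul_inv_cancel_left₀ hl, mul_zero,
      mul_inv_cancel_left₀ (mul_ne_zero hl hm),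
      mul_inv_cancel_left₀ (mul_ne_zero hl (pow_ne_zero 2 hm))]
    rfl

theorem scale_E2 (l m : F4) (hl : l ≠ 0) (hm : m ≠ 0) : (F.scale l m hl hm).E2 = F.E2 := by
  ext x
  constructor
  · rintro ⟨a, c, s, rfl⟩
    refine ⟨m * a, l * m * c, l * m ^ 2 * s, ?_⟩
    change F.x (l * 0) * F.y (m * a) * F.d _ _ = _
    rw [mul_zero]; rfl
  · rintro ⟨a, c, s, rfl⟩
    refine ⟨m⁻¹ * a, (l * m)⁻¹ * c, (l * m ^ 2)⁻¹ * s, ?_⟩
    change _ = F.x (l * 0) * F.y (m * (m⁻¹ * a)) *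
        F.d (l * m * ((l * m)⁻¹ * c)) (l * m ^ 2 * ((l * m ^ 2)⁻¹ * s))
    rw [mul_inv_cancel_left₀ hm, mul_zero,
      mul_inv_cancel_left₀ (mul_ne_zero hl hm),
      mul_inv_cancel_left₀ (mul_ne_zero hl (pow_ne_zero 2 hm))]
    rfl

theorem swap_T0 : F.swap.T0 = F.T0 := by
  ext x
  constructor
  · rintro ⟨a, b, c, s, rfl⟩
    refine ⟨b, a, c + b * a, s ^ 2 + b * a ^ 2, ?_⟩
    change F.y a * F.x b * F.d c (s ^ 2) = _
    rw [F.y_x, mul_assoc, ← F.d_add, Frm.t_def, add_comm c, add_comm (s ^ 2)]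
  · rintro ⟨a, b, c, s, rfl⟩
    refine ⟨b, a, c + a * b, (s + a * b ^ 2) ^ 2, ?_⟩
    have key : ∀ p : F4, (p ^ 2) ^ 2 = p := by decide
    change _ = F.y b * F.x a * F.d (c + a * b) (((s + a * b ^ 2) ^ 2) ^ 2)
    rw [F.y_x, mul_assoc, ← F.d_add, Frm.t_def, key]
    congr 2
    · have := Frm.f4_add_self (a * b)
      linear_combination -this
    · have := Frm.f4_add_self (a * b ^ 2)
      linear_combination -this

theorem swap_E1 : F.swap.E1 = F.E2 := by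
  have key : ∀ p : F4, (p ^ 2) ^ 2 = p := by decide
  ext x
  constructor
  · rintro ⟨a, c, s, rfl⟩
    refine ⟨a, c, s ^ 2, ?_⟩
    change F.y a * F.x 0 * F.d c (s ^ 2) = F.x 0 * F.y a * F.d c (s ^ 2)
    rw [F.x_zero, one_mul, mul_one]
  · rintro ⟨a, c, s, rfl⟩
    refine ⟨a, c, s ^ 2, ?_⟩
    change F.x 0 * F.y a * F.d c s = F.y a * F.x 0 * F.d c ((s ^ 2) ^ 2)
    rw [F.x_zero, one_mul, mul_one, key]

theorem swap_E2 : F.swap.E2 = F.E1 := by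
  have key : ∀ p : F4, (p ^ 2) ^ 2 = p := by decide
  ext x
  constructor
  · rintro ⟨a, c, s, rfl⟩
    refine ⟨a, c, s ^ 2, ?_⟩
    change F.y 0 * F.x a * F.d c (s ^ 2) = F.x a * F.y 0 * F.d c (s ^ 2)
    rw [F.y_zero, one_mul, mul_one]
  · rintro ⟨a, c, s, rfl⟩
    refine ⟨a, c, s ^ 2, ?_⟩
    change F.x a * F.y 0 * F.d c s = F.y 0 * F.x a * F.d c ((s ^ 2) ^ 2)
    rw [F.y_zero, one_mul, mul_one, key]

theorem swap_D0 : F.swap.D0 = F.D0 := by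
  have key : ∀ p : F4, (p ^ 2) ^ 2 = p := by decide
  ext x
  constructor
  · rintro ⟨c, s, rfl⟩
    exact ⟨c, s ^ 2, rfl⟩
  · rintro ⟨c, s, rfl⟩
    refine ⟨c, s ^ 2, ?_⟩
    change _ = F.d c ((s ^ 2) ^ 2)
    rw [key]

theorem swap_V : F.swap.V = F.V := by
  have key : ∀ p : F4, (p ^ 2) ^ 2 = p := by decide
  ext x
  constructor
  · rintro ⟨s, rfl⟩
    exact ⟨s ^ 2, rfl⟩
  · rintro ⟨s, rfl⟩
    refine ⟨s ^ 2, ?_⟩
    change _ = F.d 0 ((s ^ 2) ^ 2)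
    rw [key]

theorem swap_U : F.swap.U = F.U := by
  ext x
  constructor
  · rintro ⟨c, rfl⟩
    exact ⟨c, rfl⟩
  · rintro ⟨c, rfl⟩
    exact ⟨c, rfl⟩

/-! ### Powers -/

theorem acts_pow {g : G} {l m : F4} (h : Acts F g false false l m) (k : ℕ) :
    Acts F (g ^ k) false false (l ^ k) (m ^ k) := by
  induction k with
  | zero => simpa using acts_one F
  | succ k ih =>
    have h1 := acts_mul F ih h
    rw [← pow_succ] at h1
    exact h1

theorem eq_one_of_pow_two_pow {l : F4} {n : ℕ} (h : l ^ 2 ^ n = 1) : l = 1 := by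
  induction n with
  | zero => simpa using h
  | succ n ih =>
    apply ih
    rw [pow_succ, pow_mul] at h
    have key : ∀ p : F4, p ^ 2 = 1 → p = 1 := by decide
    exact key _ h

/-- (C2) a `2`-element fixing `E1`, `E2` and centralising `V` acts trivially modulo `D0`. -/
theorem acts_trivial {g : G} (hgT : ∀ x, x ∈ F.T0 ↔ g * x * g⁻¹ ∈ F.T0)
    (h1 : ∀ x, x ∈ F.E1 ↔ g * x * g⁻¹ ∈ F.E1) (h2 : ∀ x, x ∈ F.E2 ↔ g * x * g⁻¹ ∈ F.E2)
    (hV : ∀ s, g * F.d 0 s * g⁻¹ = F.d 0 s)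
    (hp : ∃ n, ∀ t ∈ F.T0, g ^ 2 ^ n * t = t * g ^ 2 ^ n) : Acts F g false false 1 1 := by
  obtain ⟨e, e', l, m, hl, hm, h⟩ := exists_acts F hgT h1 h2
  have h3 : ∀ s, dact e e' l m 0 s = (0, s) := by
    intro s
    have h4 := act_d F h 0 s
    rw [hV] at h4
    obtain ⟨h5, h6⟩ := d_inj F h4
    exact (Prod.ext h5 h6).symm
  have key : ∀ (e e' : Bool) (l m : F4), l ≠ 0 → m ≠ 0 → (∀ s, dact e e' l m 0 s = (0, s)) →
      e = false ∧ e' = false := by decide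
  obtain ⟨rfl, rfl⟩ := key e e' l m hl hm h3
  obtain ⟨n, hn⟩ := hp
  obtain ⟨-, -, h7, h8⟩ := acts_unique F (acts_pow F h (2 ^ n)) (acts_of_cent F hn)
    (pow_ne_zero _ hl) (pow_ne_zero _ hm)
  rw [eq_one_of_pow_two_pow h7, eq_one_of_pow_two_pow h8] at h
  exact h

/-- (C2) in explicit form. -/
theorem acts_trivial_iff {g : G} : Acts F g false false 1 1 ↔
    (∀ a, ∃ c s, g * F.x a * g⁻¹ = F.x a * F.d c s) ∧
      (∀ b, ∃ c s, g * F.y b * g⁻¹ = F.y b * F.d c s) := by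
  simp only [Acts, sm_false_one]

/-- (C3) an element interchanging `E1` and `E2` and centralising `V` is of unitary type. -/
theorem unitary {g : G} (hgT : ∀ x, x ∈ F.T0 ↔ g * x * g⁻¹ ∈ F.T0)
    (h1 : ∀ x, x ∈ F.E1 ↔ g * x * g⁻¹ ∈ F.E2) (h2 : ∀ x, x ∈ F.E2 ↔ g * x * g⁻¹ ∈ F.E1)
    (hV : ∀ s, g * F.d 0 s * g⁻¹ = F.d 0 s) :
    ∃ l m, l ≠ 0 ∧ m ≠ 0 ∧ l ^ 2 * m = 1 ∧ ActsS F g true true l m ∧
      ∀ c s, g * F.d c s * g⁻¹ = F.d (l * m * c ^ 2) s := by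
  obtain ⟨e, e', l, m, hl, hm, h⟩ := exists_actsS F hgT h1 h2
  have h3 : ∀ s, dactS e e' l m 0 s = (0, s) := by
    intro s
    have h4 := actS_d F h 0 s
    rw [hV] at h4
    obtain ⟨h5, h6⟩ := d_inj F h4
    exact (Prod.ext h5 h6).symm
  have key : ∀ (e e' : Bool) (l m : F4), l ≠ 0 → m ≠ 0 → (∀ s, dactS e e' l m 0 s = (0, s)) →
      e = true ∧ e' = true ∧ l ^ 2 * m = 1 := by decide
  obtain ⟨rfl, rfl, h5⟩ := key e e' l m hl hm h3
  refine ⟨l, m, hl, hm, h5, h, fun c s => ?_⟩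
  have h6 := actS_d F h c s
  simp only [dactS, h5, one_mul] at h6
  exact h6

/-- the weak form (C3) -/
theorem unitary' {g : G} (hgT : ∀ x, x ∈ F.T0 ↔ g * x * g⁻¹ ∈ F.T0)
    (h1 : ∀ x, x ∈ F.E1 ↔ g * x * g⁻¹ ∈ F.E2) (h2 : ∀ x, x ∈ F.E2 ↔ g * x * g⁻¹ ∈ F.E1)
    (hV : ∀ s, g * F.d 0 s * g⁻¹ = F.d 0 s) :
    ∃ l, l ≠ 0 ∧ ∀ c s, g * F.d c s * g⁻¹ = F.d (l * c ^ 2) s := by
  obtain ⟨l, m, hl, hm, -, -, h⟩ := unitary F hgT h1 h2 hV
  exact ⟨l * m, mul_ne_zero hl hm, h⟩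

/-- (C4) an involution normalising `L` and `T0` and not centralising `V` is of field or graph type. -/
theorem field_or_graph {g : G} (hgL : ∀ l, l ∈ L ↔ g * l * g⁻¹ ∈ L)
    (hgT : ∀ x, x ∈ F.T0 ↔ g * x * g⁻¹ ∈ F.T0) (hgg : g * g = 1)
    (hV : ∃ s, g * F.d 0 s * g⁻¹ ≠ F.d 0 s) :
    ∃ (l m : F4) (hl : l ≠ 0) (hm : m ≠ 0),
      (Acts (F.scale l m hl hm) g true true 1 1 ∧
        ∀ c s, g * (F.scale l m hl hm).d c s * g⁻¹ = (F.scale l m hl hm).d (c ^ 2) (s ^ 2)) ∨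
      (ActsS (F.scale l m hl hm) g false false 1 1 ∧
        ∀ c s, g * (F.scale l m hl hm).d c s * g⁻¹ = (F.scale l m hl hm).d c (s ^ 2)) := by
  obtain ⟨s0, hs0⟩ := hV
  have hVp : ∀ s, ∃ s', g * F.d 0 s * g⁻¹ = F.d 0 s' := by
    intro s
    exact (V_iff F hgL _).1 ⟨s, rfl⟩
  have hg2 : ∀ t ∈ F.T0, g * g * t = t * (g * g) := by
    intro t _; rw [hgg, one_mul, mul_one]
  rcases act_cases F hgT with ⟨e, e', l, m, hl, hm, h⟩ | ⟨e, e', l, m, hl, hm, h⟩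
  · have h3 : ∀ s, (dact e e' l m 0 s).1 = 0 := by
      intro s
      obtain ⟨s', hs'⟩ := hVp s
      rw [act_d F h] at hs'
      exact (d_inj F hs').1
    have key : ∀ (e e' : Bool) (l m : F4), l ≠ 0 → m ≠ 0 → (∀ s, (dact e e' l m 0 s).1 = 0) →
        e = e' := by decide
    obtain rfl := key e e' l m hl hm h3
    obtain ⟨-, -, h7, h8⟩ := acts_unique F (acts_mul F h h) (acts_of_cent F hg2)
      (sm_ne_zero _ _ _ hl hl) (sm_ne_zero _ _ _ hm hm)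
    cases e
    · exfalso
      have key2 : ∀ l : F4, sm false l l = 1 → l = 1 := by decide
      rw [key2 _ h7, key2 _ h8] at h
      apply hs0
      rw [act_d F h]
      simp [dact]
    · refine ⟨l⁻¹, m⁻¹, inv_ne_zero hl, inv_ne_zero hm, Or.inl ?_⟩
      have hA : Acts (F.scale l⁻¹ m⁻¹ (inv_ne_zero hl) (inv_ne_zero hm)) g true true 1 1 := by
        constructor
        · intro a
          obtain ⟨c, s, h9⟩ := h.1 (l⁻¹ * a)
          refine ⟨(l⁻¹ * m⁻¹)⁻¹ * c, (l⁻¹ * m⁻¹ ^ 2)⁻¹ * s, ?_⟩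
          change g * F.x (l⁻¹ * a) * g⁻¹ = F.x (l⁻¹ * sm true 1 a) *
            F.d (l⁻¹ * m⁻¹ * ((l⁻¹ * m⁻¹)⁻¹ * c)) (l⁻¹ * m⁻¹ ^ 2 * ((l⁻¹ * m⁻¹ ^ 2)⁻¹ * s))
          rw [mul_inv_cancel_left₀ (mul_ne_zero (inv_ne_zero hl) (inv_ne_zero hm)),
            mul_inv_cancel_left₀ (mul_ne_zero (inv_ne_zero hl) (pow_ne_zero 2 (inv_ne_zero hm))),
            h9]
          congr 2
          clear h9 h h7 h8 h3
          revert l a; decide
        · intro a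
          obtain ⟨c, s, h9⟩ := h.2 (m⁻¹ * a)
          refine ⟨(l⁻¹ * m⁻¹)⁻¹ * c, (l⁻¹ * m⁻¹ ^ 2)⁻¹ * s, ?_⟩
          change g * F.y (m⁻¹ * a) * g⁻¹ = F.y (m⁻¹ * sm true 1 a) *
            F.d (l⁻¹ * m⁻¹ * ((l⁻¹ * m⁻¹)⁻¹ * c)) (l⁻¹ * m⁻¹ ^ 2 * ((l⁻¹ * m⁻¹ ^ 2)⁻¹ * s))
          rw [mul_inv_cancel_left₀ (mul_ne_zero (inv_ne_zero hl) (inv_ne_zero hm)),
            mul_inv_cancel_left₀ (mul_ne_zero (inv_ne_zero hl) (pow_ne_zero 2 (inv_ne_zero hm))),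
            h9]
          congr 2
          clear h9 h h7 h8 h3
          revert m a; decide
      refine ⟨hA, fun c s => ?_⟩
      rw [act_d _ hA]
      simp [dact]
  · have h3 : ∀ s, (dactS e e' l m 0 s).1 = 0 := by
      intro s
      obtain ⟨s', hs'⟩ := hVp s
      rw [actS_d F h] at hs'
      exact (d_inj F hs').1
    have key : ∀ (e e' : Bool) (l m : F4), l ≠ 0 → m ≠ 0 → (∀ s, (dactS e e' l m 0 s).1 = 0) →
        e = e' := by decide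
    obtain rfl := key e e' l m hl hm h3
    obtain ⟨-, -, h7, h8⟩ := acts_unique F (actsS_mulS F h h) (acts_of_cent F hg2)
      (sm_ne_zero _ _ _ hm hl) (sm_ne_zero _ _ _ hl hm)
    cases e
    · refine ⟨1, l, one_ne_zero, hl, Or.inr ?_⟩
      have hA : ActsS (F.scale 1 l one_ne_zero hl) g false false 1 1 := by
        constructor
        · intro a
          obtain ⟨c, s, h9⟩ := h.1 a
          refine ⟨(1 * l)⁻¹ * c, (1 * l ^ 2)⁻¹ * s, ?_⟩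
          change g * F.x (1 * a) * g⁻¹ = F.y (l * sm false 1 a) *
            F.d (1 * l * ((1 * l)⁻¹ * c)) (1 * l ^ 2 * ((1 * l ^ 2)⁻¹ * s))
          rw [mul_inv_cancel_left₀ (mul_ne_zero one_ne_zero hl),
            mul_inv_cancel_left₀ (mul_ne_zero one_ne_zero (pow_ne_zero 2 hl)), one_mul,
            h9, sm_false_one]
          rfl
        · intro a
          obtain ⟨c, s, h9⟩ := h.2 (l * a)
          refine ⟨(1 * l)⁻¹ * c, (1 * l ^ 2)⁻¹ * s, ?_⟩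
          change g * F.y (l * a) * g⁻¹ = F.x (1 * sm false 1 a) *
            F.d (1 * l * ((1 * l)⁻¹ * c)) (1 * l ^ 2 * ((1 * l ^ 2)⁻¹ * s))
          rw [mul_inv_cancel_left₀ (mul_ne_zero one_ne_zero hl),
            mul_inv_cancel_left₀ (mul_ne_zero one_ne_zero (pow_ne_zero 2 hl)), one_mul,
            h9, sm_false_one]
          congr 2
          clear h9 h h3 h8
          revert l m a; decide
      refine ⟨hA, fun c s => ?_⟩
      rw [actS_d _ hA]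
      simp [dactS]
    · exfalso
      apply hs0
      rw [actS_d F h]
      congr 1
      · simp [dactS]
      · clear h h3 hs0 h8
        simp only [dactS]
        revert l m s0; decide

end Cfsg.Agent.StandardComponent.HeldType.ActType
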