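import Cfsg.Agent.StandardComponent.HeldType.Basic

/-! Everything that was in this file is now in `HeldType/Basic.lean`; this file only forwards the import. -/
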