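import Cfsg.Agent.StandardComponent.HeldType.Frame
import Cfsg.Agent.StandardComponent.HeldType.ActType
import Cfsg.Prelude.Def_Local
import Cfsg.Prelude.Def_TwoFusion
import Cfsg.Agent.TwoFusion.StronglyEmbeddedBasic
import Cfsg.Agent.Transfer.TausskyTwoGroup

/-!
Fusion in the standard form problem `2^2.L_3(4)`: the whole proof of the fusion theorem (`fusion`).

`TE L` collects what is used of the hypothesis "`L` is a standard subgroup": `L` has a frame, and an element `g`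
which conjugates an involution of `C(L)` into `C(L)` normalises `L`.  This property is inherited by the conjugates
of `L`, so that statements about a pair of conjugates can be used symmetrically.
-/

set_option autoImplicit false

namespace Cfsg.Agent.StandardComponent.HeldType.Basic

open Cfsg.Agent.Lib.FieldFour Cfsg.Agent.StandardComponent.HeldType.Frame

section Main

variable {G : Type*} [Group G] {L L' : Subgroup G}


/-- `g` normalises `L`. -/
def Nrm (L : Subgroup G) (g : G) : Prop := ∀ l, l ∈ L ↔ g * l * g⁻¹ ∈ L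

/-- `k` centralises `L`. -/
def Cen (L : Subgroup G) (k : G) : Prop := ∀ l ∈ L, k * l = l * k

/-- The consequences of standardness that are used below. -/
structure TE (L : Subgroup G) : Prop where
  key : ∀ k g, Cen L k → k ≠ 1 → k * k = 1 → Cen L (g * k * g⁻¹) → Nrm L g
  fr : Nonempty (Frm L)

/-- `L` and `L'` are conjugate. -/
def Cj (L L' : Subgroup G) : Prop := ∃ g : G, ∀ l, l ∈ L ↔ g * l * g⁻¹ ∈ L'

theorem Cj.refl (L : Subgroup G) : Cj L L := ⟨1, fun l => by simp⟩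

theorem Cj.symm (h : Cj L L') : Cj L' L := by
  obtain ⟨g, hg⟩ := h
  refine ⟨g⁻¹, fun l => ?_⟩
  rw [hg]
  have : g * (g⁻¹ * l * g⁻¹⁻¹) * g⁻¹ = l := by group
  rw [this]

theorem Cj.trans {L'' : Subgroup G} (h : Cj L L') (h' : Cj L' L'') : Cj L L'' := by
  obtain ⟨g, hg⟩ := h
  obtain ⟨g', hg'⟩ := h'
  refine ⟨g' * g, fun l => ?_⟩
  rw [hg, hg']
  have : g' * (g * l * g⁻¹) * g'⁻¹ = g' * g * l * (g' * g)⁻¹ := by group
  rw [this]

theorem Cj.conj (L : Subgroup G) (g : G) : Cj L (L.map (MulAut.conj g).toMonoidHom) := by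
  refine ⟨g, fun l => ?_⟩
  simp only [Subgroup.mem_map, MulEquiv.coe_toMonoidHom, MulAut.conj_apply]
  constructor
  · intro h
    exact ⟨l, h, rfl⟩
  · rintro ⟨x, hx, h⟩
    have : x = l := by
      have h1 : g⁻¹ * (g * x * g⁻¹) * g = g⁻¹ * (g * l * g⁻¹) * g := by rw [h]
      simpa [mul_assoc] using h1
    rwa [← this]

namespace Nrm

theorem one : Nrm L (1 : G) := fun l => by simp

theorem mul {g h : G} (hg : Nrm L g) (hh : Nrm L h) : Nrm L (g * h) := fun l => by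
  rw [hh l, hg (h * l * h⁻¹)]
  have : g * (h * l * h⁻¹) * g⁻¹ = g * h * l * (g * h)⁻¹ := by group
  rw [this]

theorem inv {g : G} (hg : Nrm L g) : Nrm L g⁻¹ := fun l => by
  rw [hg (g⁻¹ * l * g⁻¹⁻¹)]
  have : g * (g⁻¹ * l * g⁻¹⁻¹) * g⁻¹ = l := by group
  rw [this]

theorem of_mem {g : G} (hg : g ∈ L) : Nrm L g := fun l =>
  ⟨fun h => L.mul_mem (L.mul_mem hg h) (L.inv_mem hg), fun h => by
    have h1 := L.mul_mem (L.mul_mem (L.inv_mem hg) h) hg
    have : g⁻¹ * (g * l * g⁻¹) * g = l := by group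
    rwa [this] at h1⟩

theorem of_cen {g : G} (hg : Cen L g) : Nrm L g := fun l => by
  constructor
  · intro h
    rw [hg l h, mul_inv_cancel_right]
    exact h
  · intro h
    have h1 := hg _ h
    have h2 : g * l * g⁻¹ = l := by
      have : g⁻¹ * (g * (g * l * g⁻¹)) * g = g⁻¹ * (g * l * g⁻¹ * g) * g := by rw [h1]
      have h3 : g * l = l * g := by
        calc g * l = g⁻¹ * (g * (g * l * g⁻¹)) * g := by group
          _ = g⁻¹ * (g * l * g⁻¹ * g) * g := by rw [h1]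
          _ = l * g := by group
      rw [h3, mul_inv_cancel_right]
    rwa [h2] at h

theorem mem_normalizer {g : G} : Nrm L g ↔ g ∈ Subgroup.normalizer (L : Set G) := by
  rw [Subgroup.mem_normalizer_iff]
  rfl

end Nrm

namespace Cen

theorem one : Cen L (1 : G) := fun l _ => by simp

theorem mul {g h : G} (hg : Cen L g) (hh : Cen L h) : Cen L (g * h) := fun l hl => by
  rw [mul_assoc, hh l hl, ← mul_assoc, hg l hl, mul_assoc]

theorem inv {g : G} (hg : Cen L g) : Cen L g⁻¹ := fun l hl => by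
  rw [inv_mul_eq_iff_eq_mul, ← mul_assoc, hg l hl, mul_inv_cancel_right]

theorem mem_centralizer {g : G} : Cen L g ↔ g ∈ Subgroup.centralizer (L : Set G) := by
  rw [Subgroup.mem_centralizer_iff]
  exact ⟨fun h l hl => (h l hl).symm, fun h l hl => (h l hl).symm⟩

theorem conj {g : G} (h : ∀ l, l ∈ L ↔ g * l * g⁻¹ ∈ L') {k : G} (hk : Cen L k) :
    Cen L' (g * k * g⁻¹) := by
  intro l hl
  have h1 : g⁻¹ * l * g ∈ L := by
    rw [h]
    have : g * (g⁻¹ * l * g) * g⁻¹ = l := by group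
    rwa [this]
  have h2 := hk _ h1
  calc g * k * g⁻¹ * l = g * (k * (g⁻¹ * l * g)) * g⁻¹ := by group
    _ = g * (g⁻¹ * l * g * k) * g⁻¹ := by rw [h2]
    _ = l * (g * k * g⁻¹) := by group

theorem conj' {g : G} (h : ∀ l, l ∈ L ↔ g * l * g⁻¹ ∈ L') {k : G} (hk : Cen L' k) :
    Cen L (g⁻¹ * k * g) := by
  intro l hl
  have h2 := hk _ ((h l).1 hl)
  calc g⁻¹ * k * g * l = g⁻¹ * (k * (g * l * g⁻¹)) * g := by group
    _ = g⁻¹ * (g * l * g⁻¹ * k) * g := by rw [h2]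
    _ = l * (g⁻¹ * k * g) := by group

theorem conj_nrm {g : G} (h : Nrm L g) {k : G} (hk : Cen L k) : Cen L (g * k * g⁻¹) :=
  conj h hk

end Cen

namespace TE

theorem of_standard [Finite G] (hL : Cfsg.IsStandardSubgroup L) (F : Nonempty (Frm L)) : TE L := by
  refine ⟨fun k g hk h1 h2 hg => ?_, F⟩
  obtain ⟨-, ⟨-, hte⟩, -, hnorm⟩ := hL
  rw [Nrm.mem_normalizer, hnorm]
  by_contra hgn
  have hodd := hte g hgn
  have hmem : g * k * g⁻¹ ∈ Subgroup.centralizer (L : Set G) ⊓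
      (Subgroup.centralizer (L : Set G)).map (MulAut.conj g).toMonoidHom :=
    ⟨Cen.mem_centralizer.1 hg, ⟨k, Cen.mem_centralizer.1 hk, rfl⟩⟩
  have hord : orderOf (g * k * g⁻¹) = 2 := by
    refine orderOf_eq_prime ?_ ?_
    · rw [pow_two]
      calc g * k * g⁻¹ * (g * k * g⁻¹) = g * (k * k) * g⁻¹ := by group
        _ = 1 := by rw [h2]; group
    · intro h3
      apply h1
      have : k = g⁻¹ * (g * k * g⁻¹) * g := by group
      rw [this, h3]; group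
  have hdvd : orderOf (⟨g * k * g⁻¹, hmem⟩ : ↥(Subgroup.centralizer (L : Set G) ⊓
      (Subgroup.centralizer (L : Set G)).map (MulAut.conj g).toMonoidHom)) ∣ _ := orderOf_dvd_natCard _
  rw [Subgroup.orderOf_mk, hord] at hdvd
  exact (Nat.not_even_iff_odd.mpr hodd) (even_iff_two_dvd.mpr hdvd)

theorem of_cj (h : TE L) (hc : Cj L L') : TE L' := by
  obtain ⟨g, hg⟩ := hc
  obtain ⟨F⟩ := h.fr
  refine ⟨fun k x hk h1 h2 hx => ?_, ⟨F.conj g L' hg⟩⟩
  have hk' := Cen.conj' hg hk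
  have hx' := Cen.conj' hg hx
  have h3 : g⁻¹ * k * g ≠ 1 := by
    intro h4
    apply h1
    have : k = g * (g⁻¹ * k * g) * g⁻¹ := by group
    rw [this, h4]; group
  have h4 : (g⁻¹ * k * g) * (g⁻¹ * k * g) = 1 := by
    calc (g⁻¹ * k * g) * (g⁻¹ * k * g) = g⁻¹ * (k * k) * g := by group
      _ = 1 := by rw [h2]; group
  have h5 : (g⁻¹ * x * g) * (g⁻¹ * k * g) * (g⁻¹ * x * g)⁻¹ = g⁻¹ * (x * k * x⁻¹) * g := by group
  have h6 := h.key (g⁻¹ * k * g) (g⁻¹ * x * g) hk' h3 h4 (by rw [h5]; exact hx')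
  intro l
  have e1 : l = g * (g⁻¹ * l * g) * g⁻¹ := by group
  have e2 : x * l * x⁻¹ = g * ((g⁻¹ * x * g) * (g⁻¹ * l * g) * (g⁻¹ * x * g)⁻¹) * g⁻¹ := by group
  rw [e2, ← hg, ← h6, hg, ← e1]

/-- an element commuting with an involution of `C(L)` normalises `L` -/
theorem nrm_of_comm (h : TE L) {k g : G} (hk : Cen L k) (h1 : k ≠ 1) (h2 : k * k = 1)
    (hg : g * k = k * g) : Nrm L g :=
  h.key k g hk h1 h2 (by rw [hg, mul_inv_cancel_right]; exact hk)

/-- conjugates of `L` whose centralisers have an involution in common are equal -/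
theorem eq_of_cen (h : TE L) (hc : Cj L L') {k : G} (h1 : k ≠ 1) (h2 : k * k = 1)
    (hk : Cen L k) (hk' : Cen L' k) : L = L' := by
  obtain ⟨g, hg⟩ := hc
  have h3 : Cen L (g⁻¹ * k * g⁻¹⁻¹) := by
    rw [inv_inv]
    exact Cen.conj' hg hk'
  have h4 := h.key k g⁻¹ hk h1 h2 h3
  ext l
  rw [h4.inv l, inv_inv]
  have e : l = g⁻¹ * (g * l * g⁻¹) * g⁻¹⁻¹ := by group
  constructor
  · intro h5
    have h6 : g⁻¹ * l * g⁻¹⁻¹ ∈ L := (h4 l).1 ((h4.inv l).2 (by rwa [inv_inv]))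
    have h7 := (hg _).1 h6
    have : g * (g⁻¹ * l * g⁻¹⁻¹) * g⁻¹ = l := by group
    rwa [this] at h7
  · intro h5
    have h6 : g⁻¹ * l * g⁻¹⁻¹ ∈ L := by
      rw [hg]
      have : g * (g⁻¹ * l * g⁻¹⁻¹) * g⁻¹ = l := by group
      rwa [this]
    have h7 := (h4 l).2 h6
    exact (h4.inv l).1 h7 |> fun h8 => by rwa [inv_inv] at h8

end TE

/-- The centre of `L`, as a subgroup of `G`. -/
def Z (L : Subgroup G) : Subgroup G where
  carrier := {g | g ∈ L ∧ Cen L g}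
  one_mem' := ⟨L.one_mem, Cen.one⟩
  mul_mem' := fun h h' => ⟨L.mul_mem h.1 h'.1, h.2.mul h'.2⟩
  inv_mem' := fun h => ⟨L.inv_mem h.1, h.2.inv⟩

theorem mem_Z {g : G} : g ∈ Z L ↔ g ∈ L ∧ Cen L g := Iff.rfl

section F
variable (F : Frm L)

theorem mem_Z_iff {g : G} : g ∈ Z L ↔ ∃ s, g = F.d 0 s := by
  constructor
  · rintro ⟨h1, h2⟩
    exact F.cen g h1 h2
  · rintro ⟨s, rfl⟩
    exact ⟨F.d_mem _ _, F.cen_comm s⟩

theorem d0_mem_Z (s : F4) : F.d 0 s ∈ Z L := (mem_Z_iff F).2 ⟨s, rfl⟩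

theorem d_inj {c s c' s' : F4} (h : F.d c s = F.d c' s') : c = c' ∧ s = s' := by
  rw [F.d_eq_t, F.d_eq_t] at h
  exact (F.t_inj h).2.2

theorem t_sq (a b c s : F4) : F.t a b c s * F.t a b c s = F.d (a * b) (a * b ^ 2) := by
  rw [F.t_mul, F.d_eq_t]
  congr 1
  · decide +revert
  · decide +revert
  · clear * - a b c; decide +revert
  · clear * - a b s; decide +revert

theorem t_sq_eq_one {a b c s : F4} (h : F.t a b c s * F.t a b c s = 1) : a = 0 ∨ b = 0 := by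
  rw [t_sq, ← F.d_zero] at h
  exact mul_eq_zero.1 (d_inj F h).1

theorem t_mem_T0 (a b c s : F4) : F.t a b c s ∈ F.T0 := ⟨a, b, c, s, rfl⟩

theorem d_mem_T0 (c s : F4) : F.d c s ∈ F.T0 := ⟨0, 0, c, s, F.d_eq_t c s⟩

theorem T0_le : F.T0 ≤ L := by
  rintro _ ⟨a, b, c, s, rfl⟩
  exact F.t_mem a b c s

theorem t_d_comm (a b c s c' s' : F4) :
    F.t a b c s * F.d c' s' = F.d c' s' * F.t a b c s := by
  rw [F.d_eq_t, F.t_comm_iff]
  simp

theorem T0_d_comm {g : G} (hg : g ∈ F.T0) (c' s' : F4) : g * F.d c' s' = F.d c' s' * g := by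
  obtain ⟨a, b, c, s, rfl⟩ := hg
  exact t_d_comm F _ _ _ _ _ _

/-- `C_L(d c s) = T0` for `c ≠ 0` -/
theorem mem_T0_of_comm {c s : F4} (hc : c ≠ 0) {g : G} (hg : g ∈ L)
    (h : g * F.d c s = F.d c s * g) : g ∈ F.T0 := F.cent_d c s hc g hg h

theorem d_mem_Z_iff {c s : F4} : F.d c s ∈ Z L ↔ c = 0 := by
  rw [mem_Z_iff F]
  constructor
  · rintro ⟨s', h⟩
    exact (d_inj F h).1
  · rintro rfl
    exact ⟨s, rfl⟩

theorem conj_t' (g : G) (M : Subgroup G) (hM : ∀ l, l ∈ L ↔ g * l * g⁻¹ ∈ M) (a b c s : F4) :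
    (F.conj g M hM).t a b c s = g * F.t a b c s * g⁻¹ := by
  rw [F.conj_t]
  rfl

theorem conj_d' (g : G) (M : Subgroup G) (hM : ∀ l, l ∈ L ↔ g * l * g⁻¹ ∈ M) (c s : F4) :
    (F.conj g M hM).d c s = g * F.d c s * g⁻¹ := rfl

theorem mem_conj_T0 (g : G) (M : Subgroup G) (hM : ∀ l, l ∈ L ↔ g * l * g⁻¹ ∈ M) (x : G) :
    g * x * g⁻¹ ∈ (F.conj g M hM).T0 ↔ x ∈ F.T0 := by
  constructor
  · rintro ⟨a, b, c, s, h⟩
    rw [conj_t'] at h
    have : x = F.t a b c s := by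
      have h1 : g⁻¹ * (g * x * g⁻¹) * g = g⁻¹ * (g * F.t a b c s * g⁻¹) * g := by rw [h]
      simpa [mul_assoc] using h1
    rw [this]
    exact t_mem_T0 F _ _ _ _
  · rintro ⟨a, b, c, s, rfl⟩
    rw [← conj_t' F g M hM]
    exact t_mem_T0 _ _ _ _ _

/-- conjugate of a frame by an element normalising `L` -/
def ncj (F : Frm L) (g : G) (hg : Nrm L g) : Frm L := F.conj g L (fun l => hg l)

theorem ncj_t (g : G) (hg : Nrm L g) (a b c s : F4) :
    (ncj F g hg).t a b c s = g * F.t a b c s * g⁻¹ := conj_t' F g L _ a b c s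

theorem ncj_d (g : G) (hg : Nrm L g) (c s : F4) :
    (ncj F g hg).d c s = g * F.d c s * g⁻¹ := rfl

theorem mem_ncj_T0 (g : G) (hg : Nrm L g) (x : G) :
    g * x * g⁻¹ ∈ (ncj F g hg).T0 ↔ x ∈ F.T0 := mem_conj_T0 F g L _ x

theorem card_T0 : Nat.card F.T0 = 256 := by
  have e : (F4 × F4 × F4 × F4) ≃ F.T0 :=
    Equiv.ofBijective (fun p => ⟨F.t p.1 p.2.1 p.2.2.1 p.2.2.2, t_mem_T0 F _ _ _ _⟩) (by
      constructor
      · rintro ⟨a, b, c, s⟩ ⟨a', b', c', s'⟩ h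
        have h1 := F.t_inj (congrArg Subtype.val h)
        obtain ⟨h1, h2, h3, h4⟩ := h1
        simp only at h1 h2 h3 h4
        subst h1 h2 h3 h4
        rfl
      · rintro ⟨_, a, b, c, s, rfl⟩
        exact ⟨(a, b, c, s), rfl⟩)
  rw [← Nat.card_congr e, Nat.card_prod, Nat.card_prod, Nat.card_prod, F4.natCard]

theorem isPGroup_T0 : IsPGroup 2 F.T0 := by
  apply IsPGroup.of_card (n := 8)
  rw [card_T0]; norm_num

/-- An involution of `T0` outside the centre of `L` is some `d c s`, `c ≠ 0`, in another frame. -/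
theorem exists_frame_of_involution_aux {l : G} (hl : l ∈ F.T0) (h2 : l * l = 1) (hz : l ∉ Z L) :
    ∃ F' : Frm L, ∃ c s, c ≠ 0 ∧ l = F'.d c s := by
  obtain ⟨a, b, c, s, rfl⟩ := hl
  have key : ∀ g ∈ L, ∀ c' s' : F4, c' ≠ 0 → g * F.t a b c s * g⁻¹ = F.d c' s' →
      ∃ F' : Frm L, ∃ c0 s0, c0 ≠ 0 ∧ F.t a b c s = F'.d c0 s0 := by
    intro g hg c' s' hc' h
    refine ⟨ncj F g⁻¹ (Nrm.of_mem (L.inv_mem hg)), c', s', hc', ?_⟩
    rw [ncj_d, ← h]; group
  by_cases ha : a = 0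
  · subst ha
    by_cases hb : b = 0
    · subst hb
      rw [← F.d_eq_t] at hz ⊢
      exact ⟨F, c, s, fun h => hz ((d_mem_Z_iff F).2 h), rfl⟩
    · refine key (F.n2 * F.t (b⁻¹ * c) 0 0 0) (L.mul_mem F.n2_mem (F.t_mem _ _ _ _)) b
        (s + b⁻¹ * c * b ^ 2) hb ?_
      have h1 := F.t_conj (b⁻¹ * c) 0 0 0 0 b c s
      have e : c + (b⁻¹ * c * b + 0 * 0) = 0 := by
        have h3 : b⁻¹ * c * b = c := by field_simp
        rw [h3, mul_zero, add_zero]
        exact Frm.f4_add_self c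
      have e2 : s + (b⁻¹ * c * b ^ 2 + 0 * 0 ^ 2) = s + b⁻¹ * c * b ^ 2 := by ring
      rw [e, e2] at h1
      calc F.n2 * F.t (b⁻¹ * c) 0 0 0 * F.t 0 b c s * (F.n2 * F.t (b⁻¹ * c) 0 0 0)⁻¹
          = F.n2 * (F.t (b⁻¹ * c) 0 0 0 * F.t 0 b c s * (F.t (b⁻¹ * c) 0 0 0)⁻¹) * F.n2⁻¹ := by
            group
        _ = _ := by rw [h1, F.n2_yd, F.d_eq_t]
  · have hb : b = 0 := (t_sq_eq_one F h2).resolve_left ha
    subst hb
    refine key (F.n1 * F.t 0 (a⁻¹ * c) 0 0) (L.mul_mem F.n1_mem (F.t_mem _ _ _ _)) a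
      (s + a * (a⁻¹ * c) ^ 2) ha ?_
    have h1 := F.t_conj 0 (a⁻¹ * c) 0 0 a 0 c s
    have e : c + (0 * 0 + a * (a⁻¹ * c)) = 0 := by
      have h3 : a * (a⁻¹ * c) = c := by field_simp
      rw [h3, mul_zero, zero_add]
      exact Frm.f4_add_self c
    have e2 : s + (0 * 0 ^ 2 + a * (a⁻¹ * c) ^ 2) = s + a * (a⁻¹ * c) ^ 2 := by ring
    rw [e, e2] at h1
    calc F.n1 * F.t 0 (a⁻¹ * c) 0 0 * F.t a 0 c s * (F.n1 * F.t 0 (a⁻¹ * c) 0 0)⁻¹
        = F.n1 * (F.t 0 (a⁻¹ * c) 0 0 * F.t a 0 c s * (F.t 0 (a⁻¹ * c) 0 0)⁻¹) * F.n1⁻¹ := by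
          group
      _ = _ := by rw [h1, F.n1_xd, F.d_eq_t]

end F

/-- Every two-group normalising `L` normalises `T0` for some frame. -/
theorem exists_frame_of_isPGroup [Finite G] (F : Frm L) (Q : Subgroup G) (hQ : IsPGroup 2 Q)
    (hn : ∀ q ∈ Q, Nrm L q) :
    ∃ F' : Frm L, ∀ q ∈ Q, ∀ x, x ∈ F'.T0 ↔ q * x * q⁻¹ ∈ F'.T0 := by
  classical
  set N : Subgroup G := Subgroup.normalizer (L : Set G) with hN
  have hNm : ∀ g : G, g ∈ N ↔ Nrm L g := fun g => Nrm.mem_normalizer.symm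
  have hLN : L ≤ N := Subgroup.le_normalizer
  have hQN : Q ≤ N := fun q hq => (hNm q).2 (hn q hq)
  have hTN : F.T0 ≤ N := (T0_le F).trans hLN
  have hLn : (L.subgroupOf N).Normal := Subgroup.normal_in_normalizer
  have hQ' : IsPGroup 2 (Q.subgroupOf N) := hQ.comap_of_injective N.subtype N.subtype_injective
  have hT' : IsPGroup 2 (F.T0.subgroupOf N) :=
    (isPGroup_T0 F).comap_of_injective N.subtype N.subtype_injective
  obtain ⟨S, hS⟩ := hQ'.exists_le_sylow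
  obtain ⟨S1, hS1⟩ := hT'.exists_le_sylow
  obtain ⟨g, hg⟩ := MulAction.exists_smul_eq N S1 S
  have hinf : (S1 : Subgroup N) ⊓ L.subgroupOf N = F.T0.subgroupOf N := by
    symm
    apply Subgroup.eq_of_le_of_card_ge
    · refine le_inf hS1 ?_
      intro x hx
      exact T0_le F hx
    · have h1 : IsPGroup 2 ((S1 : Subgroup N) ⊓ L.subgroupOf N : Subgroup N) :=
        S1.isPGroup'.to_le inf_le_left
      obtain ⟨k, hk⟩ := IsPGroup.iff_card.1 h1
      have h2 : Nat.card ((S1 : Subgroup N) ⊓ L.subgroupOf N : Subgroup N) ∣ Nat.card L := by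
        have h3 := Subgroup.card_dvd_of_le
          (inf_le_right : (S1 : Subgroup N) ⊓ L.subgroupOf N ≤ L.subgroupOf N)
        rwa [Nat.card_congr (Subgroup.subgroupOfEquivOfLe hLN).toEquiv] at h3
      rw [F.card_L, hk] at h2
      rw [hk, Nat.card_congr (Subgroup.subgroupOfEquivOfLe hTN).toEquiv, card_T0]
      have h4 : k ≤ 8 := by
        by_contra h5
        push Not at h5
        have h6 : (2 : ℕ) ^ 9 ∣ 80640 := (pow_dvd_pow 2 h5).trans h2
        revert h6; decide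
      calc 2 ^ k ≤ 2 ^ 8 := Nat.pow_le_pow_right (by norm_num) h4
        _ = 256 := by norm_num
  have hgn : Nrm L (g : G) := (hNm _).1 g.2
  refine ⟨ncj F g hgn, fun q hq x => ?_⟩
  -- membership in the new `T0`
  have hmem : ∀ y : G, y ∈ (ncj F (g : G) hgn).T0 ↔
      ∃ hy : y ∈ N, (⟨y, hy⟩ : N) ∈ (S : Subgroup N) ∧ y ∈ L := by
    intro y
    have e : y = (g : G) * ((g : G)⁻¹ * y * g) * (g : G)⁻¹ := by group
    rw [show (y ∈ (ncj F (g : G) hgn).T0) =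
      ((g : G) * ((g : G)⁻¹ * y * g) * (g : G)⁻¹ ∈ (ncj F (g : G) hgn).T0) from by rw [← e],
      mem_ncj_T0]
    constructor
    · intro h
      have hy : y ∈ N := by
        rw [e]
        exact N.mul_mem (N.mul_mem g.2 (hTN h)) (N.inv_mem g.2)
      refine ⟨hy, ?_, ?_⟩
      · rw [← hg, Sylow.coe_subgroup_smul, Subgroup.mem_pointwise_smul_iff_inv_smul_mem]
        apply hS1
        rw [Subgroup.mem_subgroupOf]
        simpa [MulAut.smul_def, MulAut.conj_apply, mul_assoc] using h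
      · rw [e]
        exact (hgn _).1 (T0_le F h)
    · rintro ⟨hy, h1, h2⟩
      rw [← hg, Sylow.coe_subgroup_smul, Subgroup.mem_pointwise_smul_iff_inv_smul_mem] at h1
      have h3 : (MulAut.conj g)⁻¹ • (⟨y, hy⟩ : N) ∈ L.subgroupOf N := by
        rw [Subgroup.mem_subgroupOf]
        have : (g : G)⁻¹ * y * g ∈ L := by rw [hgn, ← e]; exact h2
        simpa [MulAut.smul_def, MulAut.conj_apply, mul_assoc] using this
      have h4 : (MulAut.conj g)⁻¹ • (⟨y, hy⟩ : N) ∈ F.T0.subgroupOf N := by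
        rw [← hinf]
        exact ⟨h1, h3⟩
      rw [Subgroup.mem_subgroupOf] at h4
      simpa [MulAut.smul_def, MulAut.conj_apply, mul_assoc] using h4
  have hqN := hQN hq
  have hqS : (⟨q, hqN⟩ : N) ∈ (S : Subgroup N) := hS hq
  rw [hmem, hmem]
  constructor
  · rintro ⟨hy, h1, h2⟩
    refine ⟨N.mul_mem (N.mul_mem hqN hy) (N.inv_mem hqN), ?_, (hn q hq x).1 h2⟩
    have := (S : Subgroup N).mul_mem ((S : Subgroup N).mul_mem hqS h1) ((S : Subgroup N).inv_mem hqS)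
    exact this
  · rintro ⟨hy, h1, h2⟩
    have e : x = q⁻¹ * (q * x * q⁻¹) * q := by group
    have hx : x ∈ N := by
      rw [e]
      exact N.mul_mem (N.mul_mem (N.inv_mem hqN) hy) hqN
    refine ⟨hx, ?_, (hn q hq x).2 h2⟩
    have := (S : Subgroup N).mul_mem ((S : Subgroup N).mul_mem ((S : Subgroup N).inv_mem hqS) h1) hqS
    have e2 : (⟨x, hx⟩ : N) = (⟨q, hqN⟩ : N)⁻¹ * ⟨q * x * q⁻¹, hy⟩ * ⟨q, hqN⟩ := by
      apply Subtype.ext
      exact e
    rw [e2]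
    exact this

/-- An involution of `L` outside the centre of `L` is some `d c s`, `c ≠ 0`, in some frame. -/
theorem exists_frame_of_involution [Finite G] (F : Frm L) {l : G} (hl : l ∈ L) (h2 : l * l = 1)
    (hz : l ∉ Z L) : ∃ F' : Frm L, ∃ c s, c ≠ 0 ∧ l = F'.d c s := by
  classical
  have hT' : IsPGroup 2 (F.T0.subgroupOf L) :=
    (isPGroup_T0 F).comap_of_injective L.subtype L.subtype_injective
  have hl1 : l ≠ 1 := by
    rintro rfl
    exact hz (Z L).one_mem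
  have hZ : IsPGroup 2 (Subgroup.zpowers (⟨l, hl⟩ : L)) := by
    apply IsPGroup.of_card (n := 1)
    rw [Nat.card_zpowers, orderOf_eq_prime (p := 2), pow_one]
    · rw [pow_two]; exact Subtype.ext h2
    · intro h
      exact hl1 (congrArg Subtype.val h)
  obtain ⟨S, hS⟩ := hZ.exists_le_sylow
  obtain ⟨S1, hS1⟩ := hT'.exists_le_sylow
  obtain ⟨g, hg⟩ := MulAction.exists_smul_eq L S S1
  have hS1eq : (S1 : Subgroup L) = F.T0.subgroupOf L := by
    symm
    apply Subgroup.eq_of_le_of_card_ge hS1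
    obtain ⟨k, hk⟩ := IsPGroup.iff_card.1 S1.isPGroup'
    have h2 : Nat.card (S1 : Subgroup L) ∣ Nat.card L := Subgroup.card_subgroup_dvd_card _
    rw [F.card_L, hk] at h2
    rw [hk, Nat.card_congr (Subgroup.subgroupOfEquivOfLe (T0_le F)).toEquiv, card_T0]
    have h4 : k ≤ 8 := by
      by_contra h5
      push Not at h5
      have h6 : (2 : ℕ) ^ 9 ∣ 80640 := (pow_dvd_pow 2 h5).trans h2
      revert h6; decide
    calc 2 ^ k ≤ 2 ^ 8 := Nat.pow_le_pow_right (by norm_num) h4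
      _ = 256 := by norm_num
  have h3 : (g : G) * l * (g : G)⁻¹ ∈ F.T0 := by
    have h4 : (MulAut.conj g) • (⟨l, hl⟩ : L) ∈ (S1 : Subgroup L) := by
      rw [← hg, Sylow.coe_subgroup_smul]
      exact Subgroup.smul_mem_pointwise_smul _ _ _ (hS (Subgroup.mem_zpowers _))
    rw [hS1eq, Subgroup.mem_subgroupOf] at h4
    simpa [MulAut.smul_def, MulAut.conj_apply, mul_assoc] using h4
  have hgn : Nrm L ((g : G)⁻¹) := Nrm.of_mem (L.inv_mem g.2)
  refine exists_frame_of_involution_aux (ncj F (g : G)⁻¹ hgn) ?_ h2 hz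
  have e : l = (g : G)⁻¹ * ((g : G) * l * (g : G)⁻¹) * (g : G)⁻¹⁻¹ := by group
  rw [e, mem_ncj_T0]
  exact h3

section Need

theorem need_c1 (F : Frm L) {g : G}
    (hT : ∀ x, x ∈ F.T0 ↔ g * x * g⁻¹ ∈ F.T0) :
    ((∀ x, x ∈ F.E1 ↔ g * x * g⁻¹ ∈ F.E1) ∧ (∀ x, x ∈ F.E2 ↔ g * x * g⁻¹ ∈ F.E2)) ∨
    ((∀ x, x ∈ F.E1 ↔ g * x * g⁻¹ ∈ F.E2) ∧ (∀ x, x ∈ F.E2 ↔ g * x * g⁻¹ ∈ F.E1)) :=
  Act.E_cases F hT

theorem need_c2 (F : Frm L) {g : G}
    (hT : ∀ x, x ∈ F.T0 ↔ g * x * g⁻¹ ∈ F.T0)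
    (h1 : ∀ x, x ∈ F.E1 ↔ g * x * g⁻¹ ∈ F.E1) (h2 : ∀ x, x ∈ F.E2 ↔ g * x * g⁻¹ ∈ F.E2)
    (hV : ∀ s, g * F.d 0 s * g⁻¹ = F.d 0 s) (n : ℕ) (hn : g ^ (2 ^ n) = 1) :
    (∀ a, ∃ c s, g * F.x a * g⁻¹ = F.x a * F.d c s) ∧
    (∀ a, ∃ c s, g * F.y a * g⁻¹ = F.y a * F.d c s) :=
  (ActType.acts_trivial_iff F).1 (ActType.acts_trivial F hT h1 h2 hV
    ⟨n, fun t _ => by rw [hn, one_mul, mul_one]⟩)

theorem need_c3 (F : Frm L) {g : G}
    (hT : ∀ x, x ∈ F.T0 ↔ g * x * g⁻¹ ∈ F.T0)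
    (h1 : ∀ x, x ∈ F.E1 ↔ g * x * g⁻¹ ∈ F.E2) (h2 : ∀ x, x ∈ F.E2 ↔ g * x * g⁻¹ ∈ F.E1)
    (hV : ∀ s, g * F.d 0 s * g⁻¹ = F.d 0 s) :
    ∃ l, l ≠ 0 ∧ ∀ c s, g * F.d c s * g⁻¹ = F.d (l * c ^ 2) s :=
  ActType.unitary' F hT h1 h2 hV

end Need

/-! ### The centre -/

theorem Z_sq (h : TE L) {z : G} (hz : z ∈ Z L) : z * z = 1 := by
  obtain ⟨F⟩ := h.fr
  obtain ⟨s, rfl⟩ := (mem_Z_iff F).1 hz
  exact F.d_mul_self _ _

theorem Z_comm {x y : G} (hx : x ∈ Z L) (hy : y ∈ Z L) : x * y = y * x := hx.2 y hy.1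

/-- the centre of `L` has order four -/
theorem Z_four (h : TE L) {x b b' : G} (hx : x ∈ Z L) (hx1 : x ≠ 1) (hb : b ∈ Z L) (hb1 : b ≠ 1)
    (hbx : b ≠ x) (hb' : b' ∈ Z L) (hb'1 : b' ≠ 1) (hb'x : b' ≠ x) : b' = b ∨ b' = x * b := by
  obtain ⟨F⟩ := h.fr
  obtain ⟨s, rfl⟩ := (mem_Z_iff F).1 hx
  obtain ⟨t, rfl⟩ := (mem_Z_iff F).1 hb
  obtain ⟨t', rfl⟩ := (mem_Z_iff F).1 hb'
  have key : ∀ s t t' : F4, s ≠ 0 → t ≠ 0 → t ≠ s → t' ≠ 0 → t' ≠ s → t' = t ∨ t' = s + t := by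
    decide
  have hs : s ≠ 0 := by rintro rfl; exact hx1 F.d_zero
  have ht : t ≠ 0 := by rintro rfl; exact hb1 F.d_zero
  have ht' : t' ≠ 0 := by rintro rfl; exact hb'1 F.d_zero
  have hts : t ≠ s := by rintro rfl; exact hbx rfl
  have hts' : t' ≠ s := by rintro rfl; exact hb'x rfl
  rcases key s t t' hs ht hts ht' hts' with h | h
  · left; rw [h]
  · right; rw [h, ← F.d_add, add_zero]

/-- two different nontrivial elements of the centre -/
theorem Z_exists (h : TE L) : ∃ x y : G, x ∈ Z L ∧ y ∈ Z L ∧ x ≠ 1 ∧ y ≠ 1 ∧ x ≠ y ∧ x * y ≠ 1 := by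
  obtain ⟨F⟩ := h.fr
  refine ⟨F.d 0 1, F.d 0 F4.w, d0_mem_Z F _, d0_mem_Z F _, ?_, ?_, ?_, ?_⟩
  · intro h
    rw [← F.d_zero] at h
    exact absurd (d_inj F h).2 (by decide)
  · intro h
    rw [← F.d_zero] at h
    exact absurd (d_inj F h).2 (by decide)
  · intro h
    exact absurd (d_inj F h).2 (by decide)
  · intro h
    rw [← F.d_add, ← F.d_zero] at h
    exact absurd (d_inj F h).2 (by decide)

theorem Z_exists_ne (h : TE L) (x : G) : ∃ y ∈ Z L, y ≠ 1 ∧ y ≠ x := by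
  obtain ⟨a, b, ha, hb, ha1, hb1, hab, -⟩ := Z_exists h
  by_cases h1 : a = x
  · exact ⟨b, hb, hb1, fun h2 => hab (h1.trans h2.symm)⟩
  · exact ⟨a, ha, ha1, h1⟩

/-- the centres of different conjugates intersect trivially -/
theorem Z_inf (h : TE L) (hc : Cj L L') (hne : L ≠ L') {z : G} (hz : z ∈ Z L) (hz' : Cen L' z) :
    z = 1 := by
  by_contra h1
  exact hne (h.eq_of_cen hc h1 (Z_sq h hz) hz.2 hz')

theorem Z_conj_nrm {g : G} (hg : Nrm L g) {z : G} (hz : z ∈ Z L) : g * z * g⁻¹ ∈ Z L :=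
  ⟨(hg z).1 hz.1, hz.2.conj_nrm hg⟩

theorem Z_conj {g : G} (hg : ∀ l, l ∈ L ↔ g * l * g⁻¹ ∈ L') {z : G} (hz : z ∈ Z L) :
    g * z * g⁻¹ ∈ Z L' :=
  ⟨(hg z).1 hz.1, hz.2.conj hg⟩

/-- a `2`-element centralising `L` and `L'` is trivial -/
theorem eq_one_of_pow (h : TE L) (hc : Cj L L') (hne : L ≠ L') {w : G} {n : ℕ}
    (hn : w ^ (2 ^ n) = 1) (hw : Cen L w) (hw' : Cen L' w) : w = 1 := by
  induction n with
  | zero => simpa using hn
  | succ n ih =>
    by_contra hw1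
    -- the least power which is an involution
    have h3 : ∀ m : ℕ, w ^ (2 ^ m) = 1 := by
      intro m
      by_contra hm
      -- take a nontrivial power with square one
      have hex : ∃ j, w ^ (2 ^ j) = 1 := ⟨n + 1, hn⟩
      classical
      set j := Nat.find hex with hj
      have hj1 : w ^ (2 ^ j) = 1 := Nat.find_spec hex
      have hj0 : j ≠ 0 := by
        intro h0
        rw [h0] at hj1
        exact hw1 (by simpa using hj1)
      obtain ⟨i, hi⟩ := Nat.exists_eq_succ_of_ne_zero hj0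
      have hi1 : w ^ (2 ^ i) ≠ 1 := Nat.find_min hex (by omega)
      have hi2 : w ^ (2 ^ i) * w ^ (2 ^ i) = 1 := by
        rw [← pow_add, ← two_mul, ← pow_succ']
        rw [hi] at hj1
        exact hj1
      have hc1 : ∀ k : ℕ, Cen L (w ^ k) := by
        intro k
        induction k with
        | zero => simpa using Cen.one
        | succ k ih => rw [pow_succ]; exact ih.mul hw
      have hc2 : ∀ k : ℕ, Cen L' (w ^ k) := by
        intro k
        induction k with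
        | zero => simpa using Cen.one
        | succ k ih => rw [pow_succ]; exact ih.mul hw'
      exact hne (h.eq_of_cen hc hi1 hi2 (hc1 _) (hc2 _))
    exact hw1 (by simpa using h3 0)

/-! ### Commuting centres -/

/-- a nontrivial element of `Z L'` centralising `Z L` forces `[Z L, Z L'] = 1` -/
theorem comm_pair (h : TE L) (h' : TE L') (hc : Cj L L') (hne : L ≠ L') {x : G} (hx : x ∈ Z L')
    (hx1 : x ≠ 1) (hxV : ∀ z ∈ Z L, x * z = z * x) :
    ∀ a ∈ Z L, ∀ b ∈ Z L', a * b = b * a := by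
  have hn' : ∀ a ∈ Z L, Nrm L' a := fun a ha =>
    h'.nrm_of_comm hx.2 hx1 (Z_sq h' hx) (hxV a ha).symm
  -- a nontrivial element of `Z L` centralising a given element of `Z L'`
  have step : ∀ b ∈ Z L', ∃ a0 ∈ Z L, a0 ≠ 1 ∧ a0 * b = b * a0 := by
    intro b hb
    by_cases hb1 : b = 1
    · obtain ⟨a0, ha0, h1, -⟩ := Z_exists_ne h 1
      exact ⟨a0, ha0, h1, by rw [hb1]; simp⟩
    by_cases hbx : b = x
    · obtain ⟨a0, ha0, h1, -⟩ := Z_exists_ne h 1
      exact ⟨a0, ha0, h1, by rw [hbx]; exact (hxV a0 ha0).symm⟩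
    have mv : ∀ a ∈ Z L, a * b * a⁻¹ = b ∨ a * b * a⁻¹ = x * b := by
      intro a ha
      refine Z_four h' hx hx1 hb hb1 hbx (Z_conj_nrm (hn' a ha) hb) ?_ ?_
      · intro h1
        apply hb1
        have : b = a⁻¹ * (a * b * a⁻¹) * a := by group
        rw [this, h1]; group
      · intro h1
        apply hbx
        have : b = a⁻¹ * (a * b * a⁻¹) * a := by group
        rw [this, h1, mul_assoc, hxV a ha]; group
    obtain ⟨a1, a2, h1, h2, h3, h4, h5, h6⟩ := Z_exists h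
    rcases mv a1 h1 with e1 | e1
    · exact ⟨a1, h1, h3, by rwa [mul_inv_eq_iff_eq_mul] at e1⟩
    rcases mv a2 h2 with e2 | e2
    · exact ⟨a2, h2, h4, by rwa [mul_inv_eq_iff_eq_mul] at e2⟩
    refine ⟨a1 * a2, (Z L).mul_mem h1 h2, h6, ?_⟩
    rw [← mul_inv_eq_iff_eq_mul]
    calc a1 * a2 * b * (a1 * a2)⁻¹ = a1 * (a2 * b * a2⁻¹) * a1⁻¹ := by group
      _ = (a1 * x) * b * a1⁻¹ := by rw [e2]; group
      _ = x * (a1 * b * a1⁻¹) := by rw [← hxV a1 h1]; group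
      _ = b := by rw [e1, ← mul_assoc, Z_sq h' hx, one_mul]
  intro a ha b hb
  obtain ⟨a0, ha0, h1, h2⟩ := step b hb
  have hnb : Nrm L b := h.nrm_of_comm ha0.2 h1 (Z_sq h ha0) h2.symm
  -- the commutator lies in both centres
  have h3 : a * b * a⁻¹ * b⁻¹ ∈ Z L' := (Z L').mul_mem (Z_conj_nrm (hn' a ha) hb) ((Z L').inv_mem hb)
  have h4 : a * b * a⁻¹ * b⁻¹ ∈ Z L := by
    have h5 := (Z L).mul_mem ha (Z_conj_nrm hnb ((Z L).inv_mem ha))
    have : a * (b * a⁻¹ * b⁻¹) = a * b * a⁻¹ * b⁻¹ := by group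
    rwa [this] at h5
  have h5 := Z_inf h hc hne h4 h3.2
  rw [mul_inv_eq_one, mul_inv_eq_iff_eq_mul] at h5
  exact h5

/-- A pair of different conjugates whose centres commute. -/
structure Pair (L L' : Subgroup G) : Prop where
  te : TE L
  te' : TE L'
  cj : Cj L L'
  ne : L ≠ L'
  comm : ∀ a ∈ Z L, ∀ b ∈ Z L', a * b = b * a

theorem Pair.symm (h : Pair L L') : Pair L' L :=
  ⟨h.te', h.te, h.cj.symm, h.ne.symm, fun a ha b hb => (h.comm b hb a ha).symm⟩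

theorem Pair.nrm (h : Pair L L') {b : G} (hb : b ∈ Z L') : Nrm L b := by
  obtain ⟨a0, ha0, h1, -⟩ := Z_exists_ne h.te 1
  exact h.te.nrm_of_comm ha0.2 h1 (Z_sq h.te ha0) (h.comm a0 ha0 b hb).symm

/-- an element commuting with a nontrivial element of `Z L'` normalises `L'` -/
theorem nrm_of_comm_Z (h' : TE L') {b g : G} (hb : b ∈ Z L') (hb1 : b ≠ 1) (hg : g * b = b * g) :
    Nrm L' g := h'.nrm_of_comm hb.2 hb1 (Z_sq h' hb) hg

theorem isPGroup_Z (h : TE L) : IsPGroup 2 (Z L) := by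
  intro x
  refine ⟨1, ?_⟩
  apply Subtype.ext
  simpa [pow_two] using Z_sq h x.2

/-- an element of `L ∩ C(L)` -/
theorem mem_Z_of {k : G} (h : k ∈ L) (h2 : Cen L k) : k ∈ Z L := ⟨h, h2⟩

/-- The image of `Z L'` in `L C(L) / C(L)` is the centre of a Sylow `2`-subgroup. -/
theorem Pair.exists_frame [Finite G] (h : Pair L L') :
    ∃ F : Frm L, (∀ b ∈ Z L', ∀ t ∈ F.T0, b * t = t * b) ∧
      ∀ b ∈ Z L', ∃ c s k, Cen L k ∧ b = F.d c s * k := by
  obtain ⟨F0⟩ := h.te.fr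
  obtain ⟨F1, hF1⟩ := exists_frame_of_isPGroup F0 (Z L') (isPGroup_Z h.te')
    (fun q hq => h.nrm hq)
  have hV1 : ∀ b ∈ Z L', ∀ s, b * F1.d 0 s * b⁻¹ = F1.d 0 s := by
    intro b hb s
    rw [mul_inv_eq_iff_eq_mul, h.comm _ (d0_mem_Z F1 s) b hb]
  have hpow : ∀ b ∈ Z L', b ^ (2 ^ 1) = 1 := fun b hb => by
    rw [pow_one, pow_two]; exact Z_sq h.te' hb
  -- a nontrivial element of `Z L'` which is inner
  have hd : ∃ d ∈ Z L', d ≠ 1 ∧ ∃ t ∈ F1.T0, Cen L (t⁻¹ * d) := by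
    have fin : ∀ d ∈ Z L', ((∀ x, x ∈ F1.E1 ↔ d * x * d⁻¹ ∈ F1.E1) ∧
        (∀ x, x ∈ F1.E2 ↔ d * x * d⁻¹ ∈ F1.E2)) → ∃ t ∈ F1.T0, Cen L (t⁻¹ * d) := by
      intro d hd h1
      obtain ⟨hx, hy⟩ := need_c2 F1 (hF1 d hd) h1.1 h1.2 (hV1 d hd) 1 (hpow d hd)
      obtain ⟨a, b, c, s, h2⟩ := F1.out d (h.nrm hd) hx hy
      exact ⟨F1.t a b c s, t_mem_T0 F1 _ _ _ _, fun l hl => by rw [F1.t_def]; exact h2 l hl⟩
    obtain ⟨b1, b2, hb1, hb2, h1, h2, h3, h4⟩ := Z_exists h.te'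
    rcases need_c1 F1 (hF1 b1 hb1) with e1 | e1
    · exact ⟨b1, hb1, h1, fin b1 hb1 e1⟩
    rcases need_c1 F1 (hF1 b2 hb2) with e2 | e2
    · exact ⟨b2, hb2, h2, fin b2 hb2 e2⟩
    refine ⟨b1 * b2, (Z L').mul_mem hb1 hb2, h4, fin _ ((Z L').mul_mem hb1 hb2) ⟨?_, ?_⟩⟩
    · intro x
      have : b1 * b2 * x * (b1 * b2)⁻¹ = b1 * (b2 * x * b2⁻¹) * b1⁻¹ := by group
      rw [this, ← e1.2, ← e2.1]
    · intro x
      have : b1 * b2 * x * (b1 * b2)⁻¹ = b1 * (b2 * x * b2⁻¹) * b1⁻¹ := by group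
      rw [this, ← e1.1, ← e2.2]
  obtain ⟨d, hd, hd1, t, ht, hk⟩ := hd
  obtain ⟨k, hkd⟩ : ∃ k, k = t⁻¹ * d := ⟨_, rfl⟩
  rw [← hkd] at hk
  have hdt : d = t * k := by rw [hkd]; group
  have htL : t ∈ L := T0_le F1 ht
  have htk : t * k = k * t := (hk t htL).symm
  have ht2 : t * t = 1 := by
    have h1 : t * t * (k * k) = 1 := by
      have h2 := Z_sq h.te' hd
      rw [hdt] at h2
      calc t * t * (k * k) = t * (t * k) * k := by group
        _ = t * (k * t) * k := by rw [htk]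
        _ = t * k * (t * k) := by group
        _ = 1 := h2
    have h2 : t * t ∈ Z L := by
      refine ⟨L.mul_mem htL htL, ?_⟩
      have : t * t = (k * k)⁻¹ := eq_inv_of_mul_eq_one_left h1
      rw [this]
      exact (hk.mul hk).inv
    obtain ⟨a, b, c, s, rfl⟩ := ht
    rw [t_sq, d_mem_Z_iff] at h2
    rw [t_sq, h2]
    have : a * b ^ 2 = 0 := by rw [pow_two, ← mul_assoc, h2, zero_mul]
    rw [this]
    exact F1.d_zero
  have htZ : t ∉ Z L := by
    intro h1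
    have h2 : Cen L d := by rw [hdt]; exact h1.2.mul hk
    exact hd1 (Z_inf h.te' h.cj.symm h.ne.symm hd h2)
  obtain ⟨F, c0, s0, hc0, htd⟩ := exists_frame_of_involution F0 htL ht2 htZ
  -- `C_L(d) = T0`
  have hCd : ∀ x, x ∈ F.T0 ↔ x ∈ L ∧ x * d = d * x := by
    intro x
    constructor
    · intro hx
      refine ⟨T0_le F hx, ?_⟩
      have h1 : x * t = t * x := by rw [htd]; exact T0_d_comm F hx _ _
      rw [hdt, ← mul_assoc, h1, mul_assoc, ← hk x (T0_le F hx), mul_assoc]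
    · rintro ⟨hx, h1⟩
      apply mem_T0_of_comm F hc0 hx (s := s0)
      rw [← htd]
      rw [hdt, ← mul_assoc, mul_assoc t k x, hk x hx, ← mul_assoc] at h1
      exact mul_right_cancel h1
  have hT' : ∀ x ∈ F.T0, Nrm L' x := fun x hx => nrm_of_comm_Z h.te' hd hd1 ((hCd x).1 hx).2
  have hbT : ∀ b ∈ Z L', ∀ x, x ∈ F.T0 ↔ b * x * b⁻¹ ∈ F.T0 := by
    intro b hb x
    rw [hCd, hCd]
    have hbd : b * d = d * b := Z_comm hb hd
    have hbd' : b⁻¹ * d = d * b⁻¹ := by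
      rw [inv_mul_eq_iff_eq_mul, ← mul_assoc, hbd, mul_inv_cancel_right]
    constructor
    · rintro ⟨h1, h2⟩
      refine ⟨(h.nrm hb x).1 h1, ?_⟩
      calc b * x * b⁻¹ * d = b * x * (b⁻¹ * d) := by group
        _ = b * (x * d) * b⁻¹ := by rw [hbd']; group
        _ = (b * d) * x * b⁻¹ := by rw [h2]; group
        _ = _ := by rw [hbd]; group
    · rintro ⟨h1, h2⟩
      refine ⟨(h.nrm hb x).2 h1, ?_⟩
      calc x * d = b⁻¹ * (b * x * b⁻¹ * (b * d)) := by group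
        _ = b⁻¹ * (b * x * b⁻¹ * d) * b := by rw [hbd]; group
        _ = (b⁻¹ * d) * b * x := by rw [h2]; group
        _ = d * x := by rw [hbd']; group
  -- commutators
  have hN : ∀ b ∈ Z L', ∀ x ∈ F.T0, x * b * x⁻¹ * b⁻¹ ∈ Z L' ∧ x * b * x⁻¹ * b⁻¹ ∈ F.T0 := by
    intro b hb x hx
    refine ⟨(Z L').mul_mem (Z_conj_nrm (hT' x hx) hb) ((Z L').inv_mem hb), ?_⟩
    have h1 := F.T0.mul_mem hx ((hbT b hb _).1 (F.T0.inv_mem hx))
    have : x * (b * x⁻¹ * b⁻¹) = x * b * x⁻¹ * b⁻¹ := by group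
    rwa [this] at h1
  obtain ⟨F'⟩ := h.te'.fr
  -- four different elements of `Z L'` are all of `Z L'`
  have four : ∀ f : F4 → G, (∀ a, f a ∈ Z L') → Function.Injective f → ∀ b ∈ Z L', ∃ a, b = f a := by
    intro f hf hinj b hb
    choose g hg using fun a => (mem_Z_iff F').1 (hf a)
    have hginj : Function.Injective g := by
      intro a a' haa
      apply hinj
      rw [hg, hg, haa]
    obtain ⟨s, hs⟩ := (mem_Z_iff F').1 hb
    obtain ⟨a, ha⟩ := Finite.surjective_of_injective hginj s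
    exact ⟨a, by rw [hs, hg, ha]⟩
  have four' : ∀ a b : F4, (a ≠ 0 ∨ b ≠ 0) → (∀ a' b', F.d (a * b' + a' * b) (a * b' ^ 2 + a' * b ^ 2) ∈ Z L') →
      ∀ z ∈ Z L', ∃ c s, z = F.d c s := by
    intro a b hab hmem z hz
    rcases hab with ha | hb
    · obtain ⟨b', hb'⟩ := four (fun b' => F.d (a * b') (a * b' ^ 2)) (fun b' => by
        have := hmem 0 b'
        simpa using this) (fun b' b'' h2 => by
          exact mul_left_cancel₀ ha (d_inj F h2).1) z hz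
      exact ⟨_, _, hb'⟩
    · obtain ⟨b', hb'⟩ := four (fun b' => F.d (b' * b) (b' * b ^ 2)) (fun b' => by
        have := hmem b' 0
        simpa using this) (fun b' b'' h2 => by
          exact mul_right_cancel₀ hb (d_inj F h2).1) z hz
      exact ⟨_, _, hb'⟩
  -- Claim A
  have clA : ∀ n ∈ Z L', n ∈ F.T0 → ∃ c s, n = F.d c s := by
    rintro n hn ⟨a, b, c, s, rfl⟩
    by_cases hab : a = 0 ∧ b = 0
    · rw [hab.1, hab.2]
      exact ⟨c, s, (F.d_eq_t c s).symm⟩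
    · refine four' a b (by tauto) (fun a' b' => ?_) _ hn
      have h1 := Z_conj_nrm (hT' _ (t_mem_T0 F a' b' 0 0)) hn
      rw [F.t_conj] at h1
      have h2 := (Z L').mul_mem h1 ((Z L').inv_mem hn)
      rw [F.t_inv, F.t_mul] at h2
      rw [F.d_eq_t]
      have e : F.t (a + a) (b + b) (c + (a' * b + a * b') + (c + a * b) + a * b)
          (s + (a' * b ^ 2 + a * b' ^ 2) + (s + a * b ^ 2) + a * b ^ 2) =
          F.t 0 0 (a * b' + a' * b) (a * b' ^ 2 + a' * b ^ 2) := by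
        congr 1
        · exact Frm.f4_add_self a
        · exact Frm.f4_add_self b
        · have h3 := Frm.f4_add_self c
          have h4 := Frm.f4_add_self (a * b)
          linear_combination h3 + h4
        · have h3 := Frm.f4_add_self s
          have h4 := Frm.f4_add_self (a * b ^ 2)
          linear_combination h3 + h4
      rw [← e]
      exact h2
  -- Claim B
  have clB : ∀ b ∈ Z L', ∃ t1 ∈ F.T0, Cen L (t1⁻¹ * b) := by
    intro b hb
    have tr : ∀ x ∈ F.T0, ∃ c s, b * x * b⁻¹ = x * F.d c s := by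
      intro x hx
      obtain ⟨h1, h2⟩ := hN b hb x⁻¹ (F.T0.inv_mem hx)
      obtain ⟨c, s, h3⟩ := clA _ h1 h2
      refine ⟨c, s, ?_⟩
      rw [← h3]; group
    obtain ⟨a, b', c, s, h2⟩ := F.out b (h.nrm hb)
      (fun a => tr _ ⟨a, 0, 0, 0, F.x_eq_t a⟩) (fun a => tr _ ⟨0, a, 0, 0, F.y_eq_t a⟩)
    exact ⟨F.t a b' c s, t_mem_T0 F _ _ _ _, fun l hl => by rw [F.t_def]; exact h2 l hl⟩
  -- Claim C
  have clC : ∀ b ∈ Z L', ∃ c s k, Cen L k ∧ b = F.d c s * k := by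
    intro b hb
    obtain ⟨t1, ⟨a, b', c, s, rfl⟩, hk1⟩ := clB b hb
    by_cases hab : a = 0 ∧ b' = 0
    · rw [hab.1, hab.2, ← F.d_eq_t] at hk1
      exact ⟨c, s, _, hk1, by group⟩
    · have hz := four' a b' (by tauto) (fun a' b'' => by
        have h1 := (hN b hb _ (t_mem_T0 F a' b'' 0 0)).1
        have h3 : F.t a' b'' 0 0 * b * (F.t a' b'' 0 0)⁻¹ * b⁻¹ =
            F.t a' b'' 0 0 * F.t a b' c s * (F.t a' b'' 0 0)⁻¹ * (F.t a b' c s)⁻¹ := by
          set k1 := (F.t a b' c s)⁻¹ * b with hk1d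
          have e1 : b = F.t a b' c s * k1 := by rw [hk1d]; group
          have e2 : (F.t a' b'' 0 0)⁻¹ * (F.t a b' c s)⁻¹ ∈ L :=
            L.mul_mem (L.inv_mem (F.t_mem _ _ _ _)) (L.inv_mem (F.t_mem _ _ _ _))
          have e3 := hk1 _ (L.inv_mem (F.t_mem a' b'' 0 0))
          rw [e1]
          calc F.t a' b'' 0 0 * (F.t a b' c s * k1) * (F.t a' b'' 0 0)⁻¹ * (F.t a b' c s * k1)⁻¹
              = F.t a' b'' 0 0 * F.t a b' c s * (k1 * (F.t a' b'' 0 0)⁻¹) * k1⁻¹ *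
                (F.t a b' c s)⁻¹ := by group
            _ = _ := by rw [e3]; group
        rw [h3, F.t_conj, F.t_inv, F.t_mul] at h1
        rw [F.d_eq_t]
        have e : F.t (a + a) (b' + b') (c + (a' * b' + a * b'') + (c + a * b') + a * b')
            (s + (a' * b' ^ 2 + a * b'' ^ 2) + (s + a * b' ^ 2) + a * b' ^ 2) =
            F.t 0 0 (a * b'' + a' * b') (a * b'' ^ 2 + a' * b' ^ 2) := by
          congr 1
          · exact Frm.f4_add_self a
          · exact Frm.f4_add_self b'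
          · have h3 := Frm.f4_add_self c
            have h4 := Frm.f4_add_self (a * b')
            linear_combination h3 + h4
          · have h3 := Frm.f4_add_self s
            have h4 := Frm.f4_add_self (a * b' ^ 2)
            linear_combination h3 + h4
        rw [← e]
        exact h1) b hb
      obtain ⟨c1, s1, h1⟩ := hz
      exact ⟨c1, s1, 1, Cen.one, by rw [mul_one]; exact h1⟩
  refine ⟨F, ?_, clC⟩
  intro b hb x hx
  obtain ⟨c, s, k1, hk1, rfl⟩ := clC b hb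
  rw [mul_assoc, hk1 x (T0_le F hx), ← mul_assoc, ← T0_d_comm F hx, mul_assoc]

/-- The frame obtained in `Pair.exists_frame`. -/
structure Good (F : Frm L) (L' : Subgroup G) : Prop where
  comm : ∀ b ∈ Z L', ∀ t ∈ F.T0, b * t = t * b
  form : ∀ b ∈ Z L', ∃ c s k, Cen L k ∧ b = F.d c s * k

/-- all values of `c` occur -/
theorem Good.surj {F : Frm L} (hF : Good F L') (h : Pair L L') (c : F4) :
    ∃ b ∈ Z L', ∃ s k, Cen L k ∧ b = F.d c s * k := by
  obtain ⟨F'⟩ := h.te'.fr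
  choose g s k hk hb using fun a => hF.form (F'.d 0 a) (d0_mem_Z F' a)
  have hinj : Function.Injective g := by
    intro a a' haa
    have h1 : Cen L (F'.d 0 a * (F'.d 0 a')⁻¹) := by
      rw [hb a, hb a', haa]
      have e : F.d (g a') (s a) * k a * (F.d (g a') (s a') * k a')⁻¹ =
          F.d (g a') (s a) * (k a * (k a')⁻¹ * F.d (g a') (s a')) := by
        rw [mul_inv_rev, F.d_inv]; group
      rw [e, ((hk a).mul (hk a').inv) _ (F.d_mem _ _), ← mul_assoc, ← F.d_add, Frm.f4_add_self]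
      exact Cen.mul (F.cen_comm _) ((hk a).mul (hk a').inv)
    have h2 := Z_inf h.te' h.cj.symm h.ne.symm
      ((Z L').mul_mem (d0_mem_Z F' a) ((Z L').inv_mem (d0_mem_Z F' a'))) h1
    rw [mul_inv_eq_one] at h2
    exact (d_inj F' h2).2
  obtain ⟨a, ha⟩ := Finite.surjective_of_injective hinj c
  exact ⟨_, d0_mem_Z F' a, s a, k a, hk a, by rw [← ha]; exact hb a⟩

/-- `T0 = C_L(Z L')` -/
theorem Good.mem_T0 {F : Frm L} (hF : Good F L') (h : Pair L L') (x : G) :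
    x ∈ F.T0 ↔ x ∈ L ∧ ∀ b ∈ Z L', x * b = b * x := by
  constructor
  · intro hx
    exact ⟨T0_le F hx, fun b hb => (hF.comm b hb x hx).symm⟩
  · rintro ⟨hx, h1⟩
    obtain ⟨b, hb, s, k, hk, e⟩ := hF.surj h 1
    have h2 := h1 b hb
    refine mem_T0_of_comm F (c := 1) (s := s) one_ne_zero hx ?_
    rw [e, ← mul_assoc, mul_assoc (F.d 1 s) k x, hk x hx, ← mul_assoc] at h2
    exact mul_right_cancel h2

theorem Pair.nrm_of_comm (h : Pair L L') {x : G} (hx : ∀ a ∈ Z L, x * a = a * x) : Nrm L x := by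
  obtain ⟨a0, ha0, h1, -⟩ := Z_exists_ne h.te 1
  exact nrm_of_comm_Z h.te ha0 h1 (hx a0 ha0)

theorem Good.nrm_T0 {F : Frm L} (hF : Good F L') (h : Pair L L') {x : G}
    (hx : ∀ a ∈ Z L, x * a = a * x) (hx' : ∀ b ∈ Z L', x * b = b * x) (y : G) :
    y ∈ F.T0 ↔ x * y * x⁻¹ ∈ F.T0 := by
  rw [hF.mem_T0 h, hF.mem_T0 h, h.nrm_of_comm hx y]
  have hxi : ∀ b ∈ Z L', x⁻¹ * b = b * x⁻¹ := fun b hb => by
    rw [inv_mul_eq_iff_eq_mul, ← mul_assoc, hx' b hb, mul_inv_cancel_right]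
  constructor
  · rintro ⟨h1, h2⟩
    refine ⟨h1, fun b hb => ?_⟩
    calc x * y * x⁻¹ * b = x * y * (x⁻¹ * b) := by group
      _ = x * (y * b) * x⁻¹ := by rw [hxi b hb]; group
      _ = (x * b) * y * x⁻¹ := by rw [h2 b hb]; group
      _ = _ := by rw [hx' b hb]; group
  · rintro ⟨h1, h2⟩
    refine ⟨h1, fun b hb => ?_⟩
    calc y * b = x⁻¹ * (x * y * x⁻¹ * (x * b)) := by group
      _ = x⁻¹ * (x * y * x⁻¹ * b) * x := by rw [hx' b hb]; group
      _ = (x⁻¹ * b) * x * y := by rw [h2 b hb]; group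
      _ = b * y := by rw [hxi b hb]; group

/-- A two-group centralising `Z L` and `Z L'`. -/
structure CG (S L L' : Subgroup G) : Prop where
  pg : IsPGroup 2 S
  c1 : ∀ x ∈ S, ∀ a ∈ Z L, x * a = a * x
  c2 : ∀ x ∈ S, ∀ a ∈ Z L', x * a = a * x

theorem CG.symm {S : Subgroup G} (h : CG S L L') : CG S L' L := ⟨h.pg, h.c2, h.c1⟩

theorem CG.pow {S : Subgroup G} (h : CG S L L') {x : G} (hx : x ∈ S) : ∃ n, x ^ (2 ^ n) = 1 := by
  obtain ⟨n, hn⟩ := h.pg ⟨x, hx⟩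
  exact ⟨n, congrArg Subtype.val hn⟩

/-- the elements of such a group are products `t k` -/
theorem Good.decomp {F : Frm L} (hF : Good F L') (h : Pair L L') {S : Subgroup G} (hS : CG S L L')
    {x : G} (hx : x ∈ S) : ∃ t ∈ F.T0, Cen L (t⁻¹ * x) := by
  have hn : Nrm L x := h.nrm_of_comm (hS.c1 x hx)
  have hT := hF.nrm_T0 h (hS.c1 x hx) (hS.c2 x hx)
  have hV : ∀ s, x * F.d 0 s * x⁻¹ = F.d 0 s := fun s => by
    rw [mul_inv_eq_iff_eq_mul, hS.c1 x hx _ (d0_mem_Z F s)]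
  rcases need_c1 F hT with ⟨h1, h2⟩ | ⟨h1, h2⟩
  · obtain ⟨n, hn2⟩ := hS.pow hx
    obtain ⟨hx1, hy1⟩ := need_c2 F hT h1 h2 hV n hn2
    obtain ⟨a, b, c, s, h3⟩ := F.out x hn hx1 hy1
    exact ⟨F.t a b c s, t_mem_T0 F _ _ _ _, fun l hl => by rw [F.t_def]; exact h3 l hl⟩
  · exfalso
    obtain ⟨l, hl, h3⟩ := need_c3 F hT h1 h2 hV
    have key : ∀ c, l * c ^ 2 + c = 0 := by
      intro c
      obtain ⟨b, hb, s, k, hk, e⟩ := hF.surj h c
      have h4 := hS.c2 x hx b hb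
      have hk' : Cen L (x * k * x⁻¹) := hk.conj_nrm hn
      have h5 : F.d (l * c ^ 2) s * (x * k * x⁻¹) = F.d c s * k := by
        rw [← h3]
        calc x * F.d c s * x⁻¹ * (x * k * x⁻¹) = x * (F.d c s * k) * x⁻¹ := by group
          _ = x * b * x⁻¹ := by rw [e]
          _ = b := by rw [h4, mul_inv_cancel_right]
          _ = _ := e
      have h6 : F.d (l * c ^ 2 + c) 0 = k * (x * k * x⁻¹)⁻¹ := by
        rw [← Frm.f4_add_self s, F.d_add, eq_mul_inv_iff_mul_eq, F.d_comm, mul_assoc, h5, ← mul_assoc,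
          F.d_mul_self, one_mul]
      have h7 : F.d (l * c ^ 2 + c) 0 ∈ Z L := by
        refine ⟨F.d_mem _ _, ?_⟩
        rw [h6]
        exact hk.mul hk'.inv
      exact (d_mem_Z_iff F).1 h7
    have h8 := key 1
    have h9 := key F4.w
    revert h8 h9
    clear * -
    revert l
    decide

/-- The elements of `S` centralising `L'` lie in `Z L'`. -/
theorem Good.cen_mem {F : Frm L} (hF : Good F L') {F' : Frm L'} (h : Pair L L')
    {S : Subgroup G} (hS : CG S L L') (hT : F.T0 ≤ S) (hT' : F'.T0 ≤ S) {r : G} (hr : r ∈ S)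
    (hrc : Cen L' r) : r ∈ Z L' := by
  -- commutators of elements centralising `L` resp. `L'` are trivial
  have hcomm : ∀ κ ∈ S, Cen L κ → ∀ r ∈ S, Cen L' r → r * κ = κ * r := by
    intro κ hκ hκc r hr hrc
    have h1 : Nrm L r := h.nrm_of_comm (hS.c1 r hr)
    have h2 : Nrm L' κ := h.symm.nrm_of_comm (hS.c2 κ hκ)
    have h3 : Cen L (r * κ * r⁻¹ * κ⁻¹) := (hκc.conj_nrm h1).mul hκc.inv
    have h4 : Cen L' (r * κ * r⁻¹ * κ⁻¹) := by
      have h5 := hrc.mul (hrc.inv.conj_nrm h2)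
      have : r * (κ * r⁻¹ * κ⁻¹) = r * κ * r⁻¹ * κ⁻¹ := by group
      rwa [this] at h5
    obtain ⟨n, hn⟩ := hS.pow (S.mul_mem (S.mul_mem (S.mul_mem hr hκ) (S.inv_mem hr)) (S.inv_mem hκ))
    have h5 := eq_one_of_pow h.te h.cj h.ne hn h3 h4
    rw [mul_inv_eq_one, mul_inv_eq_iff_eq_mul] at h5
    exact h5
  -- every such `r` has the form `d c s * k`
  have form : ∀ r ∈ S, Cen L' r → ∃ c s k, Cen L k ∧ r = F.d c s * k := by
    intro r hr hrc
    obtain ⟨l, hl, hk⟩ := hF.decomp h hS hr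
    obtain ⟨k, hkd⟩ : ∃ k, k = l⁻¹ * r := ⟨_, rfl⟩
    rw [← hkd] at hk
    have hrl : r = l * k := by rw [hkd]; group
    have hkS : k ∈ S := by rw [hkd]; exact S.mul_mem (S.inv_mem (hT hl)) hr
    have hlL : l ∈ L := T0_le F hl
    -- `k` commutes with all `κ`
    have hkκ : ∀ κ ∈ S, Cen L κ → k * κ = κ * k := by
      intro κ hκ hκc
      have h1 := hcomm κ hκ hκc r hr hrc
      rw [hrl, mul_assoc, ← mul_assoc κ, hκc l hlL, mul_assoc l κ] at h1
      exact mul_left_cancel h1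
    -- elements of `T0 L'` have a component commuting with `l`
    have hp : ∀ x ∈ F'.T0, ∃ p ∈ F.T0, ∃ κ, Cen L κ ∧ x = p * κ ∧ p * l = l * p := by
      intro x hx
      obtain ⟨p, hp, hκ⟩ := hF.decomp h hS (hT' hx)
      obtain ⟨κ, hκd⟩ : ∃ κ, κ = p⁻¹ * x := ⟨_, rfl⟩
      rw [← hκd] at hκ
      have hxp : x = p * κ := by rw [hκd]; group
      have hκS : κ ∈ S := by rw [hκd]; exact S.mul_mem (S.inv_mem (hT hp)) (hT' hx)
      refine ⟨p, hp, κ, hκ, hxp, ?_⟩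
      have h1 : x * r = r * x := (hrc x (T0_le F' hx)).symm
      have hpL : p ∈ L := T0_le F hp
      rw [hxp, hrl] at h1
      have h2 : p * κ * (l * k) = p * l * (κ * k) := by
        calc p * κ * (l * k) = p * (κ * l) * k := by group
          _ = _ := by rw [hκ l hlL]; group
      have h3 : l * k * (p * κ) = l * p * (κ * k) := by
        calc l * k * (p * κ) = l * (k * p) * κ := by group
          _ = l * p * (k * κ) := by rw [hk p hpL]; group
          _ = _ := by rw [hkκ κ hκS hκ]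
      rw [h2, h3] at h1
      exact mul_right_cancel h1
    obtain ⟨a, b, c, s, rfl⟩ := hl
    by_cases hab : a = 0 ∧ b = 0
    · refine ⟨c, s, k, hk, ?_⟩
      rw [hrl, hab.1, hab.2, F.d_eq_t]
    · exfalso
      -- the elements of `T0` commuting with `l` commute
      have hab' : ∀ p1 ∈ F.T0, ∀ p2 ∈ F.T0, p1 * F.t a b c s = F.t a b c s * p1 →
          p2 * F.t a b c s = F.t a b c s * p2 → p1 * p2 = p2 * p1 := by
        rintro _ ⟨a1, b1, c1, s1, rfl⟩ _ ⟨a2, b2, c2, s2, rfl⟩ h1 h2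
        rw [F.t_comm_iff] at h1 h2 ⊢
        have key : ∀ a b : F4, ¬ (a = 0 ∧ b = 0) → ∀ a1 b1 : F4, a1 * b = a * b1 →
            a1 * b ^ 2 = a * b1 ^ 2 → ∀ a2 b2 : F4, a2 * b = a * b2 → a2 * b ^ 2 = a * b2 ^ 2 →
            a1 * b2 = a2 * b1 ∧ a1 * b2 ^ 2 = a2 * b1 ^ 2 := by decide
        exact key a b hab a1 b1 h1.1 h1.2 a2 b2 h2.1 h2.2
      obtain ⟨p1, hp1, κ1, hκ1, e1, h1⟩ := hp _ (t_mem_T0 F' 1 1 0 0)
      obtain ⟨p2, hp2, κ2, hκ2, e2, h2⟩ := hp _ (t_mem_T0 F' F4.w F4.w 0 0)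
      have h3 := hab' p1 hp1 p2 hp2 h1 h2
      have h4 : F'.t 1 1 0 0 * F'.t F4.w F4.w 0 0 * (F'.t 1 1 0 0)⁻¹ * (F'.t F4.w F4.w 0 0)⁻¹ =
          F'.d 0 1 := by
        rw [F'.t_conj, F'.t_inv, F'.t_mul, F'.d_eq_t]
        congr 1
      have h5 : Cen L (F'.d 0 1) := by
        rw [← h4, e1, e2]
        have h6 : p1 * κ1 * (p2 * κ2) * (p1 * κ1)⁻¹ * (p2 * κ2)⁻¹ = κ1 * κ2 * κ1⁻¹ * κ2⁻¹ := by
          have q1 := T0_le F hp1
          have q2 := T0_le F hp2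
          have hc1 := hκ1 p2 q2
          have hc2 := hκ2 p1 q1
          have hc2' : κ2 * p1⁻¹ = p1⁻¹ * κ2 := hκ2 _ (L.inv_mem q1)
          have hc1' : κ1⁻¹ * p1⁻¹ = p1⁻¹ * κ1⁻¹ := hκ1.inv _ (L.inv_mem q1)
          have hc1'' : κ1 * p1⁻¹ = p1⁻¹ * κ1 := hκ1 _ (L.inv_mem q1)
          have hall : ∀ κ, Cen L κ → ∀ p ∈ L, κ * p = p * κ := fun κ hκ p hp => hκ p hp
          have hM : Cen L (κ1 * κ2 * κ1⁻¹ * κ2⁻¹) :=
            ((hκ1.mul hκ2).mul hκ1.inv).mul hκ2.inv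
          calc p1 * κ1 * (p2 * κ2) * (p1 * κ1)⁻¹ * (p2 * κ2)⁻¹
              = p1 * (κ1 * p2) * κ2 * κ1⁻¹ * p1⁻¹ * κ2⁻¹ * p2⁻¹ := by group
            _ = p1 * p2 * (κ1 * κ2 * κ1⁻¹ * p1⁻¹) * κ2⁻¹ * p2⁻¹ := by rw [hc1]; group
            _ = p1 * p2 * p1⁻¹ * (κ1 * κ2 * κ1⁻¹ * κ2⁻¹ * p2⁻¹) := by
              rw [((hκ1.mul hκ2).mul hκ1.inv) _ (L.inv_mem q1)]; group
            _ = p1 * p2 * p1⁻¹ * p2⁻¹ * (κ1 * κ2 * κ1⁻¹ * κ2⁻¹) := by
              rw [hM _ (L.inv_mem q2)]; group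
            _ = _ := by rw [h3]; group
        rw [h6]
        exact ((hκ1.mul hκ2).mul hκ1.inv).mul hκ2.inv
      have h6 := Z_inf h.te' h.cj.symm h.ne.symm (d0_mem_Z F' 1) h5
      rw [← F'.d_zero] at h6
      exact absurd (d_inj F' h6).2 (by decide)
  -- conclusion
  obtain ⟨c, s, k, hk, e⟩ := form r hr hrc
  obtain ⟨b, hb, s', k', hk', e'⟩ := hF.surj h c
  have hbS : b ∈ S := by
    obtain ⟨u, rfl⟩ := (mem_Z_iff F').1 hb
    exact hT' (d_mem_T0 F' _ _)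
  have h1 : Cen L (r * b⁻¹) := by
    rw [e, e']
    have e3 : F.d c s * k * (F.d c s' * k')⁻¹ = F.d c s * (k * k'⁻¹ * F.d c s') := by
      rw [mul_inv_rev, F.d_inv]; group
    rw [e3, (hk.mul hk'.inv) _ (F.d_mem _ _), ← mul_assoc, ← F.d_add, Frm.f4_add_self]
    exact Cen.mul (F.cen_comm _) (hk.mul hk'.inv)
  have h2 : Cen L' (r * b⁻¹) := hrc.mul hb.2.inv
  obtain ⟨n, hn⟩ := hS.pow (S.mul_mem hr (S.inv_mem hbS))
  have h3 := eq_one_of_pow h.te h.cj h.ne hn h1 h2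
  rw [mul_inv_eq_one] at h3
  rw [h3]
  exact hb

theorem centralizer_mem {x : G} {A : Subgroup G} (h : ∀ a ∈ A, x * a = a * x) :
    x ∈ Subgroup.centralizer (A : Set G) := by
  rw [Subgroup.mem_centralizer_iff]
  exact fun a ha => (h a ha).symm

/-- The two conjugates have a common Sylow `2`-subgroup `T0`, `Z L' ≤ D0`, and every `2`-element of `C(L)` lies in
`Z L`. -/
theorem Pair.main [Finite G] (h : Pair L L') :
    ∃ (F : Frm L) (F' : Frm L'), Good F L' ∧ Good F' L ∧ F.T0 = F'.T0 ∧ (Z L' ≤ F.D0) ∧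
      ∀ k, Cen L k → (∃ n, k ^ (2 ^ n) = 1) → k ∈ Z L := by
  obtain ⟨F, hFc, hFf⟩ := h.exists_frame
  obtain ⟨F', hFc', hFf'⟩ := h.symm.exists_frame
  have hF : Good F L' := ⟨hFc, hFf⟩
  have hF' : Good F' L := ⟨hFc', hFf'⟩
  -- the group `C`
  set C : Subgroup G := Subgroup.centralizer (Z L : Set G) ⊓ Subgroup.centralizer (Z L' : Set G) with hC
  have hCm : ∀ x, x ∈ C ↔ (∀ a ∈ Z L, x * a = a * x) ∧ (∀ b ∈ Z L', x * b = b * x) := by
    intro x
    rw [hC, Subgroup.mem_inf, Subgroup.mem_centralizer_iff, Subgroup.mem_centralizer_iff]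
    exact ⟨fun h => ⟨fun a ha => (h.1 a ha).symm, fun a ha => (h.2 a ha).symm⟩,
      fun h => ⟨fun a ha => (h.1 a ha).symm, fun a ha => (h.2 a ha).symm⟩⟩
  have hTC : F.T0 ≤ C := fun x hx => (hCm x).2
    ⟨fun a ha => ((ha.2 x (T0_le F hx)).symm), ((hF.mem_T0 h x).1 hx).2⟩
  have hTC' : F'.T0 ≤ C := fun x hx => (hCm x).2
    ⟨((hF'.mem_T0 h.symm x).1 hx).2, fun a ha => ((ha.2 x (T0_le F' hx)).symm)⟩
  have hN : (F.T0.subgroupOf C).Normal := by
    refine ⟨fun n hn g => ?_⟩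
    rw [Subgroup.mem_subgroupOf] at hn ⊢
    have hg := (hCm g).1 g.2
    exact (hF.nrm_T0 h hg.1 hg.2 _).1 hn
  have hN' : (F'.T0.subgroupOf C).Normal := by
    refine ⟨fun n hn g => ?_⟩
    rw [Subgroup.mem_subgroupOf] at hn ⊢
    have hg := (hCm g).1 g.2
    exact (hF'.nrm_T0 h.symm hg.2 hg.1 _).1 hn
  have hp : IsPGroup 2 (F.T0.subgroupOf C) :=
    (isPGroup_T0 F).comap_of_injective C.subtype C.subtype_injective
  have hp' : IsPGroup 2 (F'.T0.subgroupOf C) :=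
    (isPGroup_T0 F').comap_of_injective C.subtype C.subtype_injective
  have sup_le : ∀ (S : Sylow 2 C) (N : Subgroup C), N.Normal → IsPGroup 2 N → N ≤ S := by
    intro S N hN hp
    have h1 : IsPGroup 2 (N ⊔ (S : Subgroup C) : Subgroup C) := hp.to_sup_of_normal_left S.isPGroup'
    have h2 := S.is_maximal' h1 le_sup_right
    rw [← h2]
    exact le_sup_left
  -- a two-group `S` containing both, and containing a given two-element
  have key : ∀ k ∈ C, (∃ n, k ^ (2 ^ n) = 1) → ∃ S : Subgroup G, CG S L L' ∧ F.T0 ≤ S ∧ F'.T0 ≤ S ∧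
      k ∈ S := by
    rintro k hk ⟨n, hn⟩
    have hkp : IsPGroup 2 (Subgroup.zpowers (⟨k, hk⟩ : C)) := by
      rw [IsPGroup.iff_card]
      rw [Nat.card_zpowers]
      have h1 : orderOf (⟨k, hk⟩ : C) ∣ 2 ^ n := orderOf_dvd_of_pow_eq_one (Subtype.ext hn)
      obtain ⟨m, -, hm⟩ := (Nat.dvd_prime_pow Nat.prime_two).1 h1
      exact ⟨m, hm⟩
    obtain ⟨S, hS⟩ := hkp.exists_le_sylow
    refine ⟨(S : Subgroup C).map C.subtype, ⟨S.isPGroup'.map _, ?_, ?_⟩, ?_, ?_, ?_⟩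
    · rintro _ ⟨x, -, rfl⟩
      exact ((hCm x).1 x.2).1
    · rintro _ ⟨x, -, rfl⟩
      exact ((hCm x).1 x.2).2
    · intro x hx
      exact ⟨⟨x, hTC hx⟩, sup_le S _ hN hp (by rw [Subgroup.mem_subgroupOf]; exact hx), rfl⟩
    · intro x hx
      exact ⟨⟨x, hTC' hx⟩, sup_le S _ hN' hp' (by rw [Subgroup.mem_subgroupOf]; exact hx), rfl⟩
    · exact ⟨⟨k, hk⟩, hS (Subgroup.mem_zpowers _), rfl⟩
  -- `S = T0`
  have eqT : ∀ S : Subgroup G, CG S L L' → F.T0 ≤ S → F'.T0 ≤ S → S ≤ F.T0 ∧ S ≤ F'.T0 := by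
    intro S hS h1 h2
    constructor
    · intro x hx
      obtain ⟨t, ht, hk⟩ := hF.decomp h hS hx
      have h3 : t⁻¹ * x ∈ Z L := hF'.cen_mem (F' := F) h.symm hS.symm h2 h1
        (S.mul_mem (S.inv_mem (h1 ht)) hx) hk
      obtain ⟨s, hs⟩ := (mem_Z_iff F).1 h3
      have : x = t * (t⁻¹ * x) := by group
      rw [this, hs]
      exact F.T0.mul_mem ht (d_mem_T0 F _ _)
    · intro x hx
      obtain ⟨t, ht, hk⟩ := hF'.decomp h.symm hS.symm hx
      have h3 : t⁻¹ * x ∈ Z L' := hF.cen_mem (F' := F') h hS h1 h2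
        (S.mul_mem (S.inv_mem (h2 ht)) hx) hk
      obtain ⟨s, hs⟩ := (mem_Z_iff F').1 h3
      have : x = t * (t⁻¹ * x) := by group
      rw [this, hs]
      exact F'.T0.mul_mem ht (d_mem_T0 F' _ _)
  obtain ⟨S, hS, h1, h2, -⟩ := key 1 C.one_mem ⟨0, by simp⟩
  have hTT : F.T0 = F'.T0 := by
    obtain ⟨h3, h4⟩ := eqT S hS h1 h2
    exact le_antisymm (h1.trans h4) (h2.trans h3)
  have hZD : Z L' ≤ F.D0 := by
    intro b hb
    obtain ⟨s, rfl⟩ := (mem_Z_iff F').1 hb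
    have hbT : F'.d 0 s ∈ F.T0 := by rw [hTT]; exact d_mem_T0 F' _ _
    obtain ⟨a, b, c, s', h3⟩ := hbT
    have h4 : ∀ a' b', F.t a b c s' * F.t a' b' 0 0 = F.t a' b' 0 0 * F.t a b c s' := by
      intro a' b'
      rw [← h3]
      exact hb.2 _ (T0_le F' (by rw [← hTT]; exact t_mem_T0 F _ _ _ _))
    have h5 := h4 0 1
    have h6 := h4 1 0
    rw [F.t_comm_iff] at h5 h6
    have ha : a = 0 := by simpa using h5.1
    have hb : b = 0 := by simpa using h6.1.symm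
    rw [h3, ha, hb, ← F.d_eq_t]
    exact ⟨c, s', rfl⟩
  refine ⟨F, F', hF, hF', hTT, hZD, fun k hk hn => ?_⟩
  have hkC : k ∈ C := (hCm k).2 ⟨fun a ha => hk a ha.1, fun b hb => by
    obtain ⟨c, s, rfl⟩ := hZD hb
    exact hk _ (F.d_mem _ _)⟩
  obtain ⟨S, hS, h3, h4, hkS⟩ := key k hkC hn
  exact hF'.cen_mem (F' := F) h.symm hS.symm h4 h3 hkS hk

/-- the Sylow subgroups `T0` of two frames of `L` are conjugate in `L` -/
theorem exists_conj_T0 (F F1 : Frm L) :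
    ∃ l ∈ L, ∀ x, x ∈ F.T0 ↔ l * x * l⁻¹ ∈ F1.T0 := by
  classical
  have hfin : Finite L := Nat.finite_of_card_ne_zero (by rw [F.card_L]; decide)
  have key : ∀ F : Frm L, ∃ S : Sylow 2 L, (S : Subgroup L) = F.T0.subgroupOf L := by
    intro F
    have hT : IsPGroup 2 (F.T0.subgroupOf L) :=
      (isPGroup_T0 F).comap_of_injective L.subtype L.subtype_injective
    obtain ⟨S, hS⟩ := hT.exists_le_sylow
    refine ⟨S, ?_⟩
    symm
    apply Subgroup.eq_of_le_of_card_ge hS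
    obtain ⟨k, hk⟩ := IsPGroup.iff_card.1 S.isPGroup'
    have h2 : Nat.card (S : Subgroup L) ∣ Nat.card L := Subgroup.card_subgroup_dvd_card _
    rw [F.card_L, hk] at h2
    rw [hk, Nat.card_congr (Subgroup.subgroupOfEquivOfLe (T0_le F)).toEquiv, card_T0]
    have h4 : k ≤ 8 := by
      by_contra h5
      push Not at h5
      have h6 : (2 : ℕ) ^ 9 ∣ 80640 := (pow_dvd_pow 2 h5).trans h2
      revert h6; decide
    calc 2 ^ k ≤ 2 ^ 8 := Nat.pow_le_pow_right (by norm_num) h4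
      _ = 256 := by norm_num
  obtain ⟨S, hS⟩ := key F
  obtain ⟨S1, hS1⟩ := key F1
  obtain ⟨g, hg⟩ := MulAction.exists_smul_eq L S S1
  refine ⟨g, g.2, fun x => ?_⟩
  constructor
  · intro hx
    have h1 : (⟨x, T0_le F hx⟩ : L) ∈ (S : Subgroup L) := by
      rw [hS, Subgroup.mem_subgroupOf]; exact hx
    have h2 : (MulAut.conj g) • (⟨x, T0_le F hx⟩ : L) ∈ (S1 : Subgroup L) := by
      rw [← hg, Sylow.coe_subgroup_smul]
      exact Subgroup.smul_mem_pointwise_smul _ _ _ h1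
    rw [hS1, Subgroup.mem_subgroupOf] at h2
    simpa [MulAut.smul_def, MulAut.conj_apply, mul_assoc] using h2
  · intro hx
    have hx' : (g : G) * x * (g : G)⁻¹ ∈ L := T0_le F1 hx
    have hxL : x ∈ L := by
      have h1 := L.mul_mem (L.mul_mem (L.inv_mem g.2) hx') g.2
      have e : (g : G)⁻¹ * ((g : G) * x * (g : G)⁻¹) * g = x := by group
      rwa [e] at h1
    have h2 : (⟨_, hx'⟩ : L) ∈ (S1 : Subgroup L) := by
      rw [hS1, Subgroup.mem_subgroupOf]; exact hx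
    rw [← hg, Sylow.coe_subgroup_smul, Subgroup.mem_pointwise_smul_iff_inv_smul_mem, hS,
      Subgroup.mem_subgroupOf] at h2
    have e : (((MulAut.conj g)⁻¹ • (⟨(g : G) * x * (g : G)⁻¹, hx'⟩ : L) : L) : G) = x := by
      simp [MulAut.smul_def, mul_assoc]
    rwa [e] at h2

section
variable (F : Frm L)

/-- the elements of `D0` which are not squares in `T0` -/
theorem nonsq {c s : F4} (h : ∀ t ∈ F.T0, t * t ≠ F.d c s) : c = 0 ∨ s = 0 := by
  by_contra h1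
  push Not at h1
  obtain ⟨hc, hs⟩ := h1
  have key : ∀ c s : F4, c ≠ 0 → s ≠ 0 → ∃ a b : F4, a * b = c ∧ a * b ^ 2 = s := by decide
  obtain ⟨a, b, h2, h3⟩ := key c s hc hs
  apply h _ (t_mem_T0 F a b 0 0)
  rw [t_sq, h2, h3]

theorem nonsq_V {s : F4} (hs : s ≠ 0) {t : G} (ht : t ∈ F.T0) : t * t ≠ F.d 0 s := by
  obtain ⟨a, b, c, s', rfl⟩ := ht
  rw [t_sq]
  intro h
  obtain ⟨h1, h2⟩ := d_inj F h
  apply hs
  rw [← h2, pow_two, ← mul_assoc, h1, zero_mul]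

theorem nonsq_U {c : F4} (hc : c ≠ 0) {t : G} (ht : t ∈ F.T0) : t * t ≠ F.d c 0 := by
  obtain ⟨a, b, c', s', rfl⟩ := ht
  rw [t_sq]
  intro h
  obtain ⟨h1, h2⟩ := d_inj F h
  apply hc
  rw [← h1]
  rcases mul_eq_zero.1 h2 with h3 | h3
  · rw [h3, zero_mul]
  · rw [pow_eq_zero_iff (by norm_num)] at h3
    rw [h3, mul_zero]

theorem mem_D0_iff {g : G} : g ∈ F.D0 ↔ g ∈ F.T0 ∧ ∀ t ∈ F.T0, g * t = t * g := by
  constructor
  · rintro ⟨c, s, rfl⟩
    exact ⟨d_mem_T0 F _ _, fun t ht => (T0_d_comm F ht _ _).symm⟩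
  · rintro ⟨⟨a, b, c, s, rfl⟩, h⟩
    have h5 := h _ (t_mem_T0 F 0 1 0 0)
    have h6 := h _ (t_mem_T0 F 1 0 0 0)
    rw [F.t_comm_iff] at h5 h6
    have ha : a = 0 := by simpa using h5.1
    have hb : b = 0 := by simpa using h6.1.symm
    rw [ha, hb, ← F.d_eq_t]
    exact ⟨c, s, rfl⟩

/-- an element normalising `T0` normalises `D0` -/
theorem D0_conj {g : G} (hg : ∀ x, x ∈ F.T0 ↔ g * x * g⁻¹ ∈ F.T0) (c s : F4) :
    ∃ c' s', g * F.d c s * g⁻¹ = F.d c' s' := by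
  have h1 : g * F.d c s * g⁻¹ ∈ F.D0 := by
    rw [mem_D0_iff]
    refine ⟨(hg _).1 (d_mem_T0 F _ _), fun t ht => ?_⟩
    have h2 : g⁻¹ * t * g ∈ F.T0 := by
      rw [hg]
      have : g * (g⁻¹ * t * g) * g⁻¹ = t := by group
      rwa [this]
    have h3 := T0_d_comm F h2 c s
    calc g * F.d c s * g⁻¹ * t = g * (F.d c s * (g⁻¹ * t * g)) * g⁻¹ := by group
      _ = g * (g⁻¹ * t * g * F.d c s) * g⁻¹ := by rw [h3]
      _ = _ := by group
  exact h1

/-- an element normalising `T0` permutes the non-squares of `D0` -/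
theorem nonsq_conj {g : G} (hg : ∀ x, x ∈ F.T0 ↔ g * x * g⁻¹ ∈ F.T0) {c s : F4}
    (h : c = 0 ∨ s = 0) : ∃ c' s', g * F.d c s * g⁻¹ = F.d c' s' ∧ (c' = 0 ∨ s' = 0) := by
  obtain ⟨c', s', h1⟩ := D0_conj F hg c s
  refine ⟨c', s', h1, ?_⟩
  by_cases h0 : c = 0 ∧ s = 0
  · rw [h0.1, h0.2, F.d_zero, mul_one, mul_inv_cancel, ← F.d_zero] at h1
    exact Or.inl (d_inj F h1).1.symm
  apply nonsq F
  intro t ht h2
  have h3 : g⁻¹ * t * g ∈ F.T0 := by
    rw [hg]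
    have : g * (g⁻¹ * t * g) * g⁻¹ = t := by group
    rwa [this]
  have h4 : (g⁻¹ * t * g) * (g⁻¹ * t * g) = F.d c s := by
    calc (g⁻¹ * t * g) * (g⁻¹ * t * g) = g⁻¹ * (t * t) * g := by group
      _ = _ := by rw [h2, ← h1]; group
  rcases h with h5 | h5
  · subst h5
    exact nonsq_V F (fun h6 => h0 ⟨rfl, h6⟩) h3 h4
  · subst h5
    exact nonsq_U F (fun h6 => h0 ⟨h6, rfl⟩) h3 h4

end

/-- An element which normalises `T0` but does not normalise `L` interchanges `V` and `U`. -/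
theorem swap_of_not_nrm (h : TE L) (F : Frm L) {g : G} (hg : ∀ x, x ∈ F.T0 ↔ g * x * g⁻¹ ∈ F.T0)
    (hn : ¬ Nrm L g) :
    (∀ s, ∃ c, g * F.d 0 s * g⁻¹ = F.d c 0) ∧ (∀ c, ∃ s, g * F.d c 0 * g⁻¹ = F.d 0 s) := by
  have h1 : ∀ s, ∃ c, g * F.d 0 s * g⁻¹ = F.d c 0 := by
    intro s
    by_cases hs : s = 0
    · exact ⟨0, by rw [hs, F.d_zero]; group⟩
    obtain ⟨c', s', h2, h3 | h3⟩ := nonsq_conj F hg (c := 0) (s := s) (Or.inl rfl)
    · exfalso
      apply hn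
      refine h.key (F.d 0 s) g (F.cen_comm s) ?_ (F.d_mul_self _ _) ?_
      · intro h4
        rw [← F.d_zero] at h4
        exact hs (d_inj F h4).2
      · rw [h2, h3]
        exact F.cen_comm s'
    · exact ⟨c', by rw [h2, h3]⟩
  refine ⟨h1, fun c => ?_⟩
  choose f hf using h1
  have hinj : Function.Injective f := by
    intro a b hab
    have h2 : g * F.d 0 a * g⁻¹ = g * F.d 0 b * g⁻¹ := by rw [hf, hf, hab]
    have h3 := mul_right_cancel h2
    have h4 := mul_left_cancel h3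
    exact (d_inj F h4).2
  obtain ⟨c', s', h2, h3 | h3⟩ := nonsq_conj F hg (c := c) (s := 0) (Or.inr rfl)
  · exact ⟨s', by rw [h2, h3]⟩
  · obtain ⟨s, hs⟩ := Finite.surjective_of_injective hinj c'
    have h4 : g * F.d c 0 * g⁻¹ = g * F.d 0 s * g⁻¹ := by rw [hf, h2, h3, hs]
    have h5 := mul_left_cancel (mul_right_cancel h4)
    refine ⟨0, ?_⟩
    rw [(d_inj F h5).1, F.d_zero]
    group

/-- For every frame of `L` there is an element normalising `T0` but not `L`. -/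
theorem Pair.exists_swap [Finite G] (h : Pair L L') (F1 : Frm L) :
    ∃ g, (∀ x, x ∈ F1.T0 ↔ g * x * g⁻¹ ∈ F1.T0) ∧ ¬ Nrm L g := by
  obtain ⟨F, F', -, -, hT, -⟩ := h.main
  obtain ⟨g0, hg0⟩ := h.cj
  obtain ⟨l', hl', h1⟩ := exists_conj_T0 (F.conj g0 L' hg0) F'
  obtain ⟨l, hl, h2⟩ := exists_conj_T0 F1 F
  have e1 : ∀ x, x ∈ F.T0 ↔ (l' * g0) * x * (l' * g0)⁻¹ ∈ F.T0 := by
    intro x
    rw [← mem_conj_T0 F g0 L' hg0 x, h1, hT]
    have : l' * (g0 * x * g0⁻¹) * l'⁻¹ = (l' * g0) * x * (l' * g0)⁻¹ := by group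
    rw [this]
  have e2 : ¬ Nrm L (l' * g0) := by
    intro hn
    apply h.ne
    ext x
    have h3 : x ∈ L ↔ l' * (g0 * x * g0⁻¹) * l'⁻¹ ∈ L' := by
      rw [hg0 x]
      exact Nrm.of_mem hl' (g0 * x * g0⁻¹)
    have h4 : ∀ y, (l' * g0) * y * (l' * g0)⁻¹ ∈ L ↔ (l' * g0) * y * (l' * g0)⁻¹ ∈ L' := by
      intro y
      rw [← hn y, hg0 y, Nrm.of_mem hl' (g0 * y * g0⁻¹)]
      have : l' * (g0 * y * g0⁻¹) * l'⁻¹ = (l' * g0) * y * (l' * g0)⁻¹ := by group
      rw [this]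
    have h5 := h4 ((l' * g0)⁻¹ * x * (l' * g0))
    have e : (l' * g0) * ((l' * g0)⁻¹ * x * (l' * g0)) * (l' * g0)⁻¹ = x := by group
    rwa [e] at h5
  refine ⟨l⁻¹ * (l' * g0) * l, fun x => ?_, fun hn => e2 ?_⟩
  · rw [h2 x, e1, h2 (l⁻¹ * (l' * g0) * l * x * (l⁻¹ * (l' * g0) * l)⁻¹)]
    have : l * (l⁻¹ * (l' * g0) * l * x * (l⁻¹ * (l' * g0) * l)⁻¹) * l⁻¹ =
      l' * g0 * (l * x * l⁻¹) * (l' * g0)⁻¹ := by group
    rw [this]
  · have h3 := ((Nrm.of_mem hl).mul hn).mul (Nrm.of_mem hl).inv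
    have : l * (l⁻¹ * (l' * g0) * l) * l⁻¹ = l' * g0 := by group
    rwa [this] at h3

/-- An involution `e` normalising `L` and not centralising `Z L` centralises a four-group of `L`, with `e * u`
conjugate to `e` for all elements `u` of that four-group. -/
theorem exists_four [Finite G] (F0 : Frm L) {e : G} (he : e * e = 1) (hn : Nrm L e)
    (hne : ∃ z ∈ Z L, e * z ≠ z * e) :
    ∃ u1 ∈ L, ∃ u2 ∈ L, u1 ≠ 1 ∧ u2 ≠ 1 ∧ u1 * u2 ≠ 1 ∧ u1 * e = e * u1 ∧ u2 * e = e * u2 ∧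
      (∃ l ∈ L, l * e * l⁻¹ = e * u1) ∧ (∃ l ∈ L, l * e * l⁻¹ = e * u2) ∧
      (∃ l ∈ L, l * e * l⁻¹ = e * (u1 * u2)) := by
  have hp : IsPGroup 2 (Subgroup.zpowers e) := by
    rw [IsPGroup.iff_card, Nat.card_zpowers]
    have h1 : orderOf e ∣ 2 ^ 1 := orderOf_dvd_of_pow_eq_one (by rw [pow_one, pow_two]; exact he)
    obtain ⟨m, -, hm⟩ := (Nat.dvd_prime_pow Nat.prime_two).1 h1
    exact ⟨m, hm⟩
  have hq : ∀ q ∈ Subgroup.zpowers e, Nrm L q := by
    intro q hq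
    rw [Nrm.mem_normalizer] at hn ⊢
    exact (Subgroup.zpowers_le.2 hn) hq
  obtain ⟨F1, hF1⟩ := exists_frame_of_isPGroup F0 _ hp hq
  have hT := hF1 e (Subgroup.mem_zpowers e)
  have hV : ∃ s, e * F1.d 0 s * e⁻¹ ≠ F1.d 0 s := by
    obtain ⟨z, hz, h1⟩ := hne
    obtain ⟨s, rfl⟩ := (mem_Z_iff F1).1 hz
    exact ⟨s, fun h2 => h1 (by rwa [mul_inv_eq_iff_eq_mul] at h2)⟩
  obtain ⟨l, m, hl, hm, h1⟩ := ActType.field_or_graph F1 hn hT he hV
  obtain ⟨F, hF⟩ : ∃ F : Frm L, F = F1.scale l m hl hm := ⟨_, rfl⟩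
  rw [← hF] at h1
  clear hF hV hT hF1 F1 hq hp hne hl hm l m
  have hei : e⁻¹ = e := inv_eq_of_mul_eq_one_left he
  have hs : F4.w ^ 2 + F4.w = 1 := by decide
  have hne1 : ∀ c s : F4, c ≠ 0 ∨ s ≠ 0 → F.d c s ≠ 1 := by
    intro c s h h2
    rw [← F.d_zero] at h2
    obtain ⟨h3, h4⟩ := d_inj F h2
    rcases h with h | h
    · exact h h3
    · exact h h4
  rcases h1 with ⟨-, h1⟩ | ⟨hA, h1⟩
  · have hc : ∀ c s, F.d c s * e * (F.d c s)⁻¹ = e * F.d (c ^ 2 + c) (s ^ 2 + s) := by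
      intro c s
      rw [F.d_add, ← h1 c s, F.d_inv, hei]
      calc F.d c s * e * F.d c s = (e * e) * F.d c s * e * F.d c s := by rw [he]; group
        _ = _ := by group
    have hce : ∀ c s, c ^ 2 = c → s ^ 2 = s → F.d c s * e = e * F.d c s := by
      intro c s h2 h3
      have h4 := h1 c s
      rw [h2, h3, mul_inv_eq_iff_eq_mul] at h4
      exact h4.symm
    refine ⟨F.d 0 1, F.d_mem _ _, F.d 1 0, F.d_mem _ _, hne1 _ _ (Or.inr one_ne_zero),
      hne1 _ _ (Or.inl one_ne_zero), ?_, hce _ _ (by decide) (by decide),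
      hce _ _ (by decide) (by decide), ⟨F.d 0 F4.w, F.d_mem _ _, ?_⟩, ⟨F.d F4.w 0, F.d_mem _ _, ?_⟩,
      ⟨F.d F4.w F4.w, F.d_mem _ _, ?_⟩⟩
    · rw [← F.d_add]
      exact hne1 _ _ (Or.inl (by decide))
    · rw [hc, hs]; rfl
    · rw [hc, hs]; rfl
    · rw [hc, hs, ← F.d_add, zero_add, add_zero]
  · have hc : ∀ c s, F.d c s * e * (F.d c s)⁻¹ = e * F.d (c + c) (s ^ 2 + s) := by
      intro c s
      rw [F.d_add, ← h1 c s, F.d_inv, hei]
      calc F.d c s * e * F.d c s = (e * e) * F.d c s * e * F.d c s := by rw [he]; group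
        _ = _ := by group
    have hce : ∀ c s, s ^ 2 = s → F.d c s * e = e * F.d c s := by
      intro c s h3
      have h4 := h1 c s
      rw [h3, mul_inv_eq_iff_eq_mul] at h4
      exact h4.symm
    have h2 : F.d 0 F4.w * e * (F.d 0 F4.w)⁻¹ = e * F.d 0 1 := by
      rw [hc, hs]; rfl
    -- the element `p`
    obtain ⟨c0, s0, h3⟩ := hA.1 1
    rw [Act.sm_false_one] at h3
    obtain ⟨Y, hY⟩ : ∃ Y, Y = e * F.x 1 * e⁻¹ := ⟨_, rfl⟩
    rw [← hY] at h3
    have hYt : Y = F.t 0 1 c0 s0 := by rw [h3, F.yd_eq_t]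
    have hp : ∃ p ∈ L, p * e * p⁻¹ = e * F.d 1 1 := by
      refine ⟨F.x 1 * Y, L.mul_mem (F.x_mem _) (by rw [hYt]; exact F.t_mem _ _ _ _), ?_⟩
      have h4 : e * Y * e = F.x 1 := by
        rw [hY, hei]
        calc e * (e * F.x 1 * e) * e = (e * e) * F.x 1 * (e * e) := by group
          _ = _ := by rw [he]; group
      have h5 : e * F.x 1 * e = Y := by rw [hY, hei]
      have h6 : Y * F.x 1 = F.x 1 * Y * F.d 1 1 := by
        rw [hYt, F.x_eq_t, F.d_eq_t, F.t_mul, F.t_mul, F.t_mul]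
        congr 1
        · clear * - c0; decide +revert
        · clear * - s0; decide +revert
      calc F.x 1 * Y * e * (F.x 1 * Y)⁻¹
          = (e * e) * F.x 1 * (e * e) * Y * e * (F.x 1 * Y)⁻¹ := by rw [he]; group
        _ = e * (e * F.x 1 * e) * (e * Y * e) * (F.x 1 * Y)⁻¹ := by group
        _ = e * (Y * F.x 1) * (F.x 1 * Y)⁻¹ := by rw [h4, h5]; group
        _ = e * (F.x 1 * Y * F.d 1 1 * (F.x 1 * Y)⁻¹) := by rw [h6]; group
        _ = _ := by
          have h7 : F.x 1 * Y = F.t 1 1 c0 s0 := by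
            rw [hYt, F.x_eq_t, F.t_mul]
            congr 1
            · clear * - c0; decide +revert
            · clear * - s0; decide +revert
          rw [h7, t_d_comm, mul_inv_cancel_right]
    obtain ⟨p, hpL, hp⟩ := hp
    refine ⟨F.d 0 1, F.d_mem _ _, F.d 1 1, F.d_mem _ _, hne1 _ _ (Or.inr one_ne_zero),
      hne1 _ _ (Or.inl one_ne_zero), ?_, hce _ _ (by decide),
      hce _ _ (by decide), ⟨F.d 0 F4.w, F.d_mem _ _, h2⟩, ⟨p, hpL, hp⟩,
      ⟨p * F.d 0 F4.w, L.mul_mem hpL (F.d_mem _ _), ?_⟩⟩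
    · rw [← F.d_add]
      exact hne1 _ _ (Or.inl (by decide))
    · calc p * F.d 0 F4.w * e * (p * F.d 0 F4.w)⁻¹ = p * (F.d 0 F4.w * e * (F.d 0 F4.w)⁻¹) * p⁻¹ := by
            group
        _ = p * e * (F.d 0 1 * p⁻¹) := by rw [h2]; group
        _ = p * e * p⁻¹ * F.d 0 1 := by rw [F.cen_comm 1 _ (L.inv_mem hpL)]; group
        _ = e * (F.d 0 1 * F.d 1 1) := by rw [hp, F.d_comm 0 1 1 1]; group

/-- If a nontrivial element `d` of `Z L'` normalises `L ≠ L'`, then `L` belongs to a pair of conjugates with commuting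
centres. -/
theorem exists_pair [Finite G] (h : TE L) (hc : Cj L L') (hne : L ≠ L') {d : G} (hd : d ∈ Z L')
    (hd1 : d ≠ 1) (hn : Nrm L d) : ∃ L'', Pair L L'' := by
  have h' := h.of_cj hc
  by_cases hcomm : ∀ z ∈ Z L, d * z = z * d
  · exact ⟨L', h, h', hc, hne, comm_pair h h' hc hne hd hd1 hcomm⟩
  push Not at hcomm
  obtain ⟨z, hz, hzd⟩ := hcomm
  have hd2 := Z_sq h' hd
  have hz2 := Z_sq h hz
  have hdi : d⁻¹ = d := inv_eq_of_mul_eq_one_left hd2
  have hz' : d * z * d⁻¹ ∈ Z L := Z_conj_nrm hn hz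
  obtain ⟨e, hee⟩ : ∃ e, e = z * (d * z * d⁻¹) := ⟨_, rfl⟩
  have he : e ∈ Z L := by rw [hee]; exact (Z L).mul_mem hz hz'
  have he2 := Z_sq h he
  have hed : d * e = e * d := by
    rw [← mul_inv_eq_iff_eq_mul]
    calc d * e * d⁻¹ = (d * z * d⁻¹) * ((d * d) * z * (d * d)⁻¹) := by rw [hee]; group
      _ = (d * z * d⁻¹) * z := by rw [hd2]; group
      _ = e := by rw [hee]; exact Z_comm hz' hz
  have he1 : e ≠ 1 := by
    intro h1
    apply hzd
    rw [hee, mul_eq_one_iff_eq_inv] at h1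
    rw [h1]
    have h2 : (d * z * d⁻¹)⁻¹ = d * z * d⁻¹ := by
      calc (d * z * d⁻¹)⁻¹ = d * z⁻¹ * d⁻¹ := by group
        _ = _ := by rw [inv_eq_of_mul_eq_one_left hz2]
    rw [h2]
    calc d * (d * z * d⁻¹) = (d * d) * z * d⁻¹ := by group
      _ = z * d⁻¹ := by rw [hd2]; group
      _ = z * d := by rw [hdi]
      _ = (d * z * d⁻¹)⁻¹ * d := by rw [← h1]
      _ = _ := by rw [h2]
  have hz1 : z ≠ 1 := by
    rintro rfl
    exact hzd (by simp)
  have hze : z ≠ e := by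
    intro h1
    apply hzd
    rw [h1, hed]
  have hNe : Nrm L' e := nrm_of_comm_Z h' hd hd1 hed.symm
  have hefour : ∃ z ∈ Z L', e * z ≠ z * e := by
    by_contra h1
    push Not at h1
    have h2 := comm_pair h' h hc.symm hne.symm he he1 h1
    exact hzd (h2 d hd z hz)
  obtain ⟨F'⟩ := h'.fr
  obtain ⟨u1, hu1, u2, hu2, h11, h21, h12, hc1, hc2, hl1, hl2, hl3⟩ := exists_four F' he2 hNe hefour
  -- the fixed points of `d` on `Z L`
  have hfix : ∀ f ∈ Z L, f * d = d * f → f ≠ 1 → f = e := by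
    intro f hf hfd hf1
    by_contra hfe
    rcases Z_four h he he1 hz hz1 hze hf hf1 hfe with h3 | h3
    · rw [h3] at hfd
      exact hzd hfd.symm
    · apply hzd
      have h4 : z = e * f := by rw [h3, ← mul_assoc, he2, one_mul]
      rw [h4, ← mul_assoc, hed, mul_assoc, ← hfd, mul_assoc]
  -- the action of elements of `L'` commuting with `e`
  have hact : ∀ u ∈ L', u * e = e * u → u * z * u⁻¹ = z ∨ u * z * u⁻¹ = e * z := by
    intro u hu hue
    have hNu : Nrm L u := nrm_of_comm_Z h he he1 hue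
    refine Z_four h he he1 hz hz1 hze (Z_conj_nrm hNu hz) ?_ ?_
    · intro h3
      apply hz1
      have : z = u⁻¹ * (u * z * u⁻¹) * u := by group
      rw [this, h3]; group
    · intro h3
      apply hze
      have : z = u⁻¹ * (u * z * u⁻¹) * u := by group
      rw [this, h3, mul_assoc, ← hue]; group
  have hfin : ∀ c ∈ L', c ≠ 1 → c * e = e * c → c * z * c⁻¹ = z → (∃ l ∈ L', l * e * l⁻¹ = e * c) →
      ∃ L'', Pair L L'' := by
    rintro c hc' hc1 hce hcz ⟨l, hl, hle⟩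
    have hcz' : c * z = z * c := by rwa [mul_inv_eq_iff_eq_mul] at hcz
    have hcZ : ∀ f ∈ Z L, c * f = f * c := by
      intro f hf
      by_cases hf1 : f = 1
      · rw [hf1]; simp
      by_cases hfe : f = e
      · rw [hfe]; exact hce
      rcases Z_four h he he1 hz hz1 hze hf hf1 hfe with h3 | h3
      · rw [h3]; exact hcz'
      · rw [h3, ← mul_assoc, hce, mul_assoc, hcz', mul_assoc]
    have hx : e * c ∈ Z (L.map (MulAut.conj l).toMonoidHom) := by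
      rw [← hle]
      refine Z_conj (L := L) (fun x => ?_) he
      simp only [Subgroup.mem_map, MulEquiv.coe_toMonoidHom, MulAut.conj_apply]
      constructor
      · intro h3
        exact ⟨x, h3, rfl⟩
      · rintro ⟨y, hy, h3⟩
        rwa [← mul_left_cancel (mul_right_cancel h3)]
    have hx1 : e * c ≠ 1 := by
      intro h3
      rw [h3] at hle
      apply he1
      have : e = l⁻¹ * (l * e * l⁻¹) * l := by group
      rw [this, hle]; group
    have hne' : L ≠ L.map (MulAut.conj l).toMonoidHom := by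
      intro h3
      rw [← h3] at hx
      have h4 : c ∈ Z L := by
        have h5 := (Z L).mul_mem he hx
        rwa [← mul_assoc, he2, one_mul] at h5
      have h5 := hfix c h4 (hd.2 c hc').symm hc1
      rw [h5] at hx1
      exact hx1 he2
    have hcj := Cj.conj L l
    have h'' := h.of_cj hcj
    exact ⟨_, h, h'', hcj, hne', comm_pair h h'' hcj hne' hx hx1 (fun f hf => by
      rw [mul_assoc, hcZ f hf, ← mul_assoc, Z_comm he hf, mul_assoc])⟩
  rcases hact u1 hu1 hc1 with h3 | h3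
  · exact hfin u1 hu1 h11 hc1 h3 hl1
  rcases hact u2 hu2 hc2 with h4 | h4
  · exact hfin u2 hu2 h21 hc2 h4 hl2
  refine hfin (u1 * u2) (L'.mul_mem hu1 hu2) h12 ?_ ?_ hl3
  · rw [mul_assoc, hc2, ← mul_assoc, hc1, mul_assoc]
  · calc u1 * u2 * z * (u1 * u2)⁻¹ = u1 * (u2 * z * u2⁻¹) * u1⁻¹ := by group
      _ = (u1 * e) * z * u1⁻¹ := by rw [h4]; group
      _ = e * (u1 * z * u1⁻¹) := by rw [hc1]; group
      _ = z := by rw [h3, ← mul_assoc, he2, one_mul]

end Main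

section NoFusion

universe u

variable {G : Type u} [Group G] {L L' : Subgroup G}

/-- No fusion: the conjugates of elements of `Z L` normalising `L` lie in `Z L`. -/
def NF (L : Subgroup G) : Prop :=
  ∀ g : G, ∀ z ∈ Z L, z ≠ 1 → Nrm L (g * z * g⁻¹) → g * z * g⁻¹ ∈ Z L

theorem nrm_of_conj_mem (h : TE L) {g z : G} (hz : z ∈ Z L) (hz1 : z ≠ 1)
    (hg : g * z * g⁻¹ ∈ Z L) : Nrm L g := h.key z g hz.2 hz1 (Z_sq h hz) hg.2

theorem Z_ne_bot (h : TE L) : Z L ≠ ⊥ := by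
  obtain ⟨x, y, hx, -, hx1, -⟩ := Z_exists h
  intro h1
  rw [h1] at hx
  exact hx1 (Subgroup.mem_bot.1 hx)

/-- The Sylow subgroups containing `Z L` normalise `L`. -/
theorem NF.sylow [Finite G] (hf : NF L) (h : TE L) :
    ∃ S : Sylow 2 G, Z L ≤ (S : Subgroup G) ∧ (∀ s ∈ (S : Subgroup G), Nrm L s) ∧
      ∃ z ∈ Z L, z ≠ 1 ∧ ∀ s ∈ S, Commute s z := by
  obtain ⟨S, hS⟩ := (isPGroup_Z h).exists_le_sylow
  have hnil : Group.IsNilpotent (S : Subgroup G) := S.isPGroup'.isNilpotent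
  have hA : ∀ n : (S : Subgroup G), n ∈ Subgroup.normalizer ((Z L).subgroupOf (S : Subgroup G) : Set (S : Subgroup G)) →
      Nrm L (n : G) := by
    intro n hn
    obtain ⟨z, -, hz, -, hz1, -⟩ := Z_exists h
    rw [Subgroup.mem_normalizer_iff] at hn
    have h1 := (hn ⟨z, hS hz⟩).1 (by rw [Subgroup.mem_subgroupOf]; exact hz)
    rw [Subgroup.mem_subgroupOf] at h1
    exact nrm_of_conj_mem h hz hz1 h1
  have htop : Subgroup.normalizer ((Z L).subgroupOf (S : Subgroup G) : Set (S : Subgroup G)) = ⊤ := by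
    by_contra hne
    have hlt := Group.normalizerCondition_of_isNilpotent (G := (S : Subgroup G))
      (Subgroup.normalizer ((Z L).subgroupOf (S : Subgroup G) : Set (S : Subgroup G)))
      (lt_top_iff_ne_top.2 hne)
    obtain ⟨x, hx, hxn⟩ := SetLike.exists_of_lt hlt
    apply hxn
    have key : ∀ x : (S : Subgroup G), x ∈ Subgroup.normalizer
        (Subgroup.normalizer ((Z L).subgroupOf (S : Subgroup G) : Set (S : Subgroup G)) : Set (S : Subgroup G)) →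
        ∀ z : (S : Subgroup G), (z : G) ∈ Z L → ((x * z * x⁻¹ : (S : Subgroup G)) : G) ∈ Z L := by
      intro x hx z hz
      by_cases hz1 : (z : G) = 1
      · have : z = 1 := Subtype.ext hz1
        rw [this, mul_one, mul_inv_cancel]
        exact (Z L).one_mem
      have h1 : z ∈ Subgroup.normalizer ((Z L).subgroupOf (S : Subgroup G) : Set (S : Subgroup G)) :=
        Subgroup.le_normalizer (by rw [Subgroup.mem_subgroupOf]; exact hz)
      rw [Subgroup.mem_normalizer_iff] at hx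
      have h2 := (hx z).1 h1
      exact hf x z hz hz1 (hA _ h2)
    rw [Subgroup.mem_normalizer_iff]
    intro z
    rw [Subgroup.mem_subgroupOf, Subgroup.mem_subgroupOf]
    constructor
    · exact key x hx z
    · intro h1
      have h2 := key x⁻¹ (inv_mem hx) (x * z * x⁻¹) h1
      have e : x⁻¹ * (x * z * x⁻¹) * x⁻¹⁻¹ = z := by group
      rwa [e] at h2
  have hSM : ∀ s ∈ (S : Subgroup G), Nrm L s := fun s hs => hA ⟨s, hs⟩ (by rw [htop]; trivial)
  have hnorm : ((Z L).subgroupOf (S : Subgroup G)).Normal := by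
    rw [← Subgroup.normalizer_eq_top_iff]
    exact htop
  have hne : (Z L).subgroupOf (S : Subgroup G) ≠ ⊥ := by
    intro h1
    obtain ⟨z, -, hz, -, hz1, -⟩ := Z_exists h
    have h2 : (⟨z, hS hz⟩ : (S : Subgroup G)) ∈ (Z L).subgroupOf (S : Subgroup G) := by
      rw [Subgroup.mem_subgroupOf]; exact hz
    rw [h1, Subgroup.mem_bot] at h2
    exact hz1 (congrArg Subtype.val h2)
  obtain ⟨z, hz, hzc, hz1⟩ :=
    Transfer.TausskyTwoGroup.exists_ne_one_mem_inf_center S.isPGroup' _ hne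
  refine ⟨S, hS, hSM, z, hz, fun h1 => hz1 (Subtype.ext h1), fun s hs => ?_⟩
  have h1 := Subgroup.mem_center_iff.1 hzc ⟨s, hs⟩
  exact congrArg Subtype.val h1

/-- The normaliser of `L` is a proper subgroup. -/
theorem normalizer_ne_top [IsSimpleGroup G] (hG : ¬ IsMulCommutative G) (h : TE L) :
    Subgroup.normalizer (L : Set G) ≠ ⊤ := by
  intro htop
  have hn : ∀ g, Nrm L g := fun g => Nrm.mem_normalizer.2 (by rw [htop]; trivial)
  have hZ : (Z L).Normal := ⟨fun z hz g => Z_conj_nrm (hn g) hz⟩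
  rcases hZ.eq_bot_or_eq_top with h1 | h1
  · exact Z_ne_bot h h1
  · apply hG
    refine ⟨⟨fun a b => Z_comm (L := L) ?_ ?_⟩⟩
    · rw [h1]; trivial
    · rw [h1]; trivial

/-- The criterion S1175 for the group `G`. -/
def Crit (G : Type u) [Group G] : Prop :=
  ∀ (M : Subgroup G), M ≠ ⊤ → ∀ z : G, orderOf z = 2 → z ∈ M →
    (∃ S : Sylow 2 G, z ∈ S ∧ ∀ s ∈ S, Commute s z) → (∀ g : G, g * z * g⁻¹ ∈ M → g ∈ M) →
    (∀ g : G, Commute z (g * z * g⁻¹) → g * z * g⁻¹ ≠ z →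
      Subgroup.centralizer ({z * (g * z * g⁻¹)} : Set G) ≤ M) →
    ∃ H : Subgroup G, Cfsg.IsStronglyEmbedded H

/-- Goldschmidt's theorem S1169 for the group `G`. -/
def CritG (G : Type u) [Group G] : Prop :=
  ∀ (S : Sylow 2 G) (A : Subgroup G), A ≠ ⊥ → IsMulCommutative A →
    Cfsg.IsStronglyClosed A (S : Subgroup G) →
    IsMulCommutative (S : Subgroup G) ∨ ∃ H : Subgroup G, Cfsg.IsStronglyEmbedded H

theorem NF.not_strong [Finite G] (hf : NF L) (h : TE L) :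
    ¬ ∃ H : Subgroup G, Cfsg.IsStronglyEmbedded H := by
  rintro ⟨H, hH⟩
  obtain ⟨F⟩ := h.fr
  have h1 : F.d 0 1 ≠ 1 := by
    intro h1
    rw [← F.d_zero] at h1
    exact absurd (d_inj F h1).2 (by decide)
  have h2 : F.d 1 0 ≠ 1 := by
    intro h1
    rw [← F.d_zero] at h1
    exact absurd (d_inj F h1).1 (by decide)
  have h3 := TwoFusion.StronglyEmbeddedBasic.isConj_of_involutions hH (F.d 0 1) (F.d 1 0)
    (TwoFusion.StronglyEmbeddedBasic.orderOf_eq_two_of_mul_self (F.d_mul_self _ _) h1)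
    (TwoFusion.StronglyEmbeddedBasic.orderOf_eq_two_of_mul_self (F.d_mul_self _ _) h2)
  obtain ⟨g, hg⟩ := isConj_iff.1 h3
  have h4 := hf g (F.d 0 1) (d0_mem_Z F 1) h1 (by rw [hg]; exact Nrm.of_mem (F.d_mem _ _))
  rw [hg, d_mem_Z_iff] at h4
  exact absurd h4 (by decide)

theorem NF.false [Finite G] [IsSimpleGroup G] (hG : ¬ IsMulCommutative G) (hf : NF L) (h : TE L)
    (hcrit : Crit G) : False := by
  apply hf.not_strong h
  obtain ⟨S, hS, hSM, z, hz, hz1, hzS⟩ := hf.sylow h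
  have hz2 := Z_sq h hz
  refine hcrit (Subgroup.normalizer (L : Set G)) (normalizer_ne_top hG h) z
    (TwoFusion.StronglyEmbeddedBasic.orderOf_eq_two_of_mul_self hz2 hz1)
    (Nrm.mem_normalizer.1 (Nrm.of_mem hz.1)) ⟨S, hS hz, hzS⟩ ?_ ?_
  · intro g hg
    rw [← Nrm.mem_normalizer] at hg ⊢
    exact nrm_of_conj_mem h hz hz1 (hf g z hz hz1 hg)
  · intro g hg hne x hx
    rw [← Nrm.mem_normalizer]
    have h1 : Nrm L (g * z * g⁻¹) := nrm_of_comm_Z h hz hz1 hg.symm.eq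
    have h2 := hf g z hz hz1 h1
    have h3 : z * (g * z * g⁻¹) ∈ Z L := (Z L).mul_mem hz h2
    have h4 : z * (g * z * g⁻¹) ≠ 1 := by
      intro h5
      apply hne
      rw [mul_eq_one_iff_eq_inv'] at h5
      rw [h5]
      exact inv_eq_of_mul_eq_one_left hz2
    refine nrm_of_comm_Z h h3 h4 ?_
    exact (Subgroup.mem_centralizer_iff.1 hx _ rfl).symm

theorem NF.false' [Finite G] (hf : NF L) (h : TE L) (hcrit : CritG G) : False := by
  obtain ⟨S, hS, hSM, -⟩ := hf.sylow h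
  have h1 : IsMulCommutative (Z L) := ⟨⟨fun a b => Subtype.ext (Z_comm a.2 b.2)⟩⟩
  have h2 : Cfsg.IsStronglyClosed (Z L) (S : Subgroup G) := by
    refine ⟨hS, fun x hx g hg => ?_⟩
    by_cases hx1 : x = 1
    · rw [hx1, mul_one, mul_inv_cancel]
      exact (Z L).one_mem
    · exact hf g x hx hx1 (hSM _ hg)
  rcases hcrit S (Z L) (Z_ne_bot h) h1 h2 with h3 | h3
  · obtain ⟨F⟩ := h.fr
    obtain ⟨S', hS'⟩ := (isPGroup_T0 F).exists_le_sylow
    obtain ⟨g, hg⟩ := MulAction.exists_smul_eq G S' S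
    have h4 : ∀ a b : G, a ∈ (S' : Subgroup G) → b ∈ (S' : Subgroup G) → a * b = b * a := by
      intro a b ha hb
      have h5 : ∀ a ∈ (S' : Subgroup G), g * a * g⁻¹ ∈ (S : Subgroup G) := by
        intro a ha
        rw [← hg, Sylow.coe_subgroup_smul]
        exact Subgroup.smul_mem_pointwise_smul a (MulAut.conj g) _ ha
      have h6 := h3.is_comm.comm ⟨_, h5 a ha⟩ ⟨_, h5 b hb⟩
      have h7 : g * a * g⁻¹ * (g * b * g⁻¹) = g * b * g⁻¹ * (g * a * g⁻¹) :=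
        congrArg Subtype.val h6
      have h8 : g * (a * b) * g⁻¹ = g * (b * a) * g⁻¹ := by
        calc g * (a * b) * g⁻¹ = g * a * g⁻¹ * (g * b * g⁻¹) := by group
          _ = _ := by rw [h7]; group
      exact mul_left_cancel (mul_right_cancel h8)
    have h5 := h4 (F.t 1 0 0 0) (F.t 0 1 0 0) (hS' (t_mem_T0 F _ _ _ _)) (hS' (t_mem_T0 F _ _ _ _))
    rw [F.t_comm_iff] at h5
    exact absurd h5.1 (by decide)
  · exact hf.not_strong h h3

/-- There is a pair of conjugates with commuting centres. -/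
theorem exists_pair' [Finite G] (h : TE L) (hf : ¬ NF L) : ∃ L'', Pair L L'' := by
  unfold NF at hf
  push Not at hf
  obtain ⟨g, z, hz, hz1, h1, h2⟩ := hf
  have hg : ∀ x, x ∈ L ↔ g * x * g⁻¹ ∈ L.map (MulAut.conj g).toMonoidHom := by
    intro x
    simp only [Subgroup.mem_map, MulEquiv.coe_toMonoidHom, MulAut.conj_apply]
    constructor
    · intro h3
      exact ⟨x, h3, rfl⟩
    · rintro ⟨y, hy, h3⟩
      rwa [← mul_left_cancel (mul_right_cancel h3)]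
  have hd := Z_conj hg hz
  refine exists_pair h (Cj.conj L g) ?_ hd ?_ h1
  · intro h3
    rw [← h3] at hd
    exact h2 hd
  · intro h3
    apply hz1
    have : z = g⁻¹ * (g * z * g⁻¹) * g := by group
    rw [this, h3]; group

/-- **Fusion theorem.**  `L` a standard subgroup of the simple group `G`, with a frame `F`. Then every
`2`-element of `C(L)` lies in `Z L = F.V`, and there is an element normalising `F.T0` which interchanges
`F.V = {d 0 s}` and `F.U = {d c 0}`. -/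
theorem fusion [Finite G] [IsSimpleGroup G] (hG : ¬ IsMulCommutative G)
    (hL : Cfsg.IsStandardSubgroup L) (F : Frm L) (hcrit : Crit G ∨ CritG G) :
    (∀ k, (∀ l ∈ L, k * l = l * k) → (∃ n, k ^ (2 ^ n) = 1) → k ∈ F.V) ∧
      ∃ g, (∀ x, x ∈ F.T0 ↔ g * x * g⁻¹ ∈ F.T0) ∧ (∀ s, ∃ c, g * F.d 0 s * g⁻¹ = F.d c 0) ∧
        (∀ c, ∃ s, g * F.d c 0 * g⁻¹ = F.d 0 s) := by
  have h : TE L := TE.of_standard hL ⟨F⟩
  have hnf : ¬ NF L := by
    intro hf
    rcases hcrit with hc | hc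
    · exact hf.false hG h hc
    · exact hf.false' h hc
  obtain ⟨L'', hP⟩ := exists_pair' h hnf
  refine ⟨fun k hk hn => ?_, ?_⟩
  · obtain ⟨-, -, -, -, -, -, h1⟩ := hP.main
    exact (mem_Z_iff F).1 (h1 k hk hn)
  · obtain ⟨g, hg, hgn⟩ := hP.exists_swap F
    exact ⟨g, hg, (swap_of_not_nrm h F hg hgn).1, (swap_of_not_nrm h F hg hgn).2⟩

end NoFusion

end Cfsg.Agent.StandardComponent.HeldType.Basic
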