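import Mathlib
import Cfsg.Agent.StandardComponent.HeldType.ActType
import Cfsg.Agent.StandardComponent.HeldType.Basic

/-!
The situation after the fusion theorem: interface for the last part of the proof.
-/

set_option autoImplicit false

namespace Cfsg.Agent.StandardComponent.HeldType.Ctx

open Cfsg.Agent.Lib.FieldFour Cfsg.Agent.StandardComponent.HeldType.Frame
  Cfsg.Agent.StandardComponent.HeldType.Act Cfsg.Agent.StandardComponent.HeldType.ActType
  Cfsg.Agent.StandardComponent.HeldType.Basic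

variable {G : Type*} [Group G] {L : Subgroup G}

/-- `g` normalises the Sylow subgroup `T0` of the frame -/
def NT (F : Frm L) (g : G) : Prop := ∀ x, x ∈ F.T0 ↔ g * x * g⁻¹ ∈ F.T0

/-- `g` fixes `E1` (hence `E2`) -/
def NE (F : Frm L) (g : G) : Prop :=
  (∀ x, x ∈ F.E1 ↔ g * x * g⁻¹ ∈ F.E1) ∧ (∀ x, x ∈ F.E2 ↔ g * x * g⁻¹ ∈ F.E2)

/-- The conclusions of the fusion theorem. -/
structure Sit (F : Frm L) : Prop where
  te : TE L
  cenK : ∀ k, Cen L k → (∃ n, k ^ (2 ^ n) = 1) → k ∈ F.V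
  swp : ∃ g, NT F g ∧ (∀ s, ∃ c, g * F.d 0 s * g⁻¹ = F.d c 0) ∧
    (∀ c, ∃ s, g * F.d c 0 * g⁻¹ = F.d 0 s)

variable {F : Frm L}

theorem NT.one : NT F (1 : G) := fun x => by simp

theorem NT.mul {g g' : G} (h : NT F g) (h' : NT F g') : NT F (g * g') := fun x => by
  rw [h' x, h (g' * x * g'⁻¹)]
  have : g * (g' * x * g'⁻¹) * g⁻¹ = g * g' * x * (g * g')⁻¹ := by group
  rw [this]

theorem NT.inv {g : G} (h : NT F g) : NT F g⁻¹ := inv_iff F h

theorem NT.of_mem {g : G} (h : g ∈ F.T0) : NT F g := fun x =>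
  ⟨fun hx => F.T0.mul_mem (F.T0.mul_mem h hx) (F.T0.inv_mem h), fun hx => by
    have h1 := F.T0.mul_mem (F.T0.mul_mem (F.T0.inv_mem h) hx) h
    have : g⁻¹ * (g * x * g⁻¹) * g = x := by group
    rwa [this] at h1⟩

theorem NT.of_cen {g : G} (h : Cen L g) : NT F g := fun x => by
  constructor
  · intro hx
    rw [h x (T0.T0_le F hx), mul_inv_cancel_right]; exact hx
  · intro hx
    have h1 : x = g⁻¹ * (g * x * g⁻¹) * g := by group
    have h2 := h _ (T0.T0_le F hx)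
    have h3 : g⁻¹ * (g * x * g⁻¹) * g = g * x * g⁻¹ := by
      rw [mul_assoc, ← h2, inv_mul_cancel_left]
    rw [h1, h3]; exact hx

theorem NT.conj_mem {g : G} (h : NT F g) {x : G} (hx : x ∈ F.T0) : g * x * g⁻¹ ∈ F.T0 := (h x).1 hx

namespace Sit

variable (H : Sit F)
include H

theorem nrm_of_comm_d {g : G} {s : F4} (hs : s ≠ 0) (hg : g * F.d 0 s = F.d 0 s * g) : Nrm L g :=
  H.te.nrm_of_comm (F.cen_comm s)
    (fun h => hs (T0.d_inj F (h.trans F.d_zero.symm)).2) (F.d_mul_self 0 s) hg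

/-- The kernel of the action of `N(T0)` on `T0 / D0`. -/
theorem kernel {g : G} (hA : Acts F g false false 1 1) :
    ∃ t ∈ F.T0, ∃ k, Cen L k ∧ g = t * k := by
  have h1 : g * F.d 0 1 = F.d 0 1 * g := by
    rw [← mul_inv_eq_iff_eq_mul, act_d F hA]
    simp [dact]
  have hn : Nrm L g := H.nrm_of_comm_d one_ne_zero h1
  obtain ⟨h2, h3⟩ := (acts_trivial_iff F).1 hA
  obtain ⟨a, b, c, s, h4⟩ := F.out g hn h2 h3
  exact ⟨F.t a b c s, ⟨a, b, c, s, rfl⟩, (F.t a b c s)⁻¹ * g, h4, by group⟩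

/-- `2`-elements acting trivially on `T0 / D0` lie in `T0` -/
theorem mem_T0_of_acts {g : G} (hA : Acts F g false false 1 1) {n : ℕ} (hn : g ^ 2 ^ n = 1) :
    g ∈ F.T0 := by
  obtain ⟨t, ht, k, hk, rfl⟩ := H.kernel hA
  obtain ⟨m, hm⟩ := (T0.isPGroup_T0 F) ⟨t, ht⟩
  have hm' : t ^ 2 ^ m = 1 := congrArg Subtype.val hm
  have hc : Commute t k := (hk t (T0.T0_le F ht)).symm
  have h1 : k ^ 2 ^ (m + n) = 1 := by
    have h2 : (t * k) ^ 2 ^ (m + n) = 1 := by
      rw [pow_add, mul_comm (2 ^ m), pow_mul, hn, one_pow]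
    have h3 : t ^ 2 ^ (m + n) = 1 := by rw [pow_add, pow_mul, hm', one_pow]
    rw [hc.mul_pow, h3, one_mul] at h2
    exact h2
  exact F.T0.mul_mem ht (T0.V_le F (H.cenK k hk ⟨_, h1⟩))

/-- the centraliser of `T0` -/
theorem cent_T0 {g : G} (hg : ∀ t ∈ F.T0, g * t = t * g) : ∃ d ∈ F.D0, ∃ k, Cen L k ∧ g = d * k := by
  obtain ⟨t, ht, k, hk, rfl⟩ := H.kernel (acts_of_cent F hg)
  refine ⟨t, T0.mem_D0_of_comm F ht fun x hx => ?_, k, hk, rfl⟩
  have h1 := hg x hx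
  have h2 := hk x (T0.T0_le F hx)
  rw [mul_assoc, h2, ← mul_assoc, ← mul_assoc] at h1
  exact mul_right_cancel h1

end Sit

end Cfsg.Agent.StandardComponent.HeldType.Ctx
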