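import Mathlib
import Cfsg.Agent.StandardComponent.HeldType.Ctx
import Cfsg.Agent.Transfer.ThompsonTransfer

/-!
The Sylow `2`-subgroup of `G` does not interchange `E1` and `E2`: Thompson transfer.
-/

set_option autoImplicit false

namespace Cfsg.Agent.StandardComponent.HeldType.NoSwap

open Cfsg.Agent.Lib.FieldFour Cfsg.Agent.StandardComponent.HeldType.Frame
  Cfsg.Agent.StandardComponent.HeldType.Act Cfsg.Agent.StandardComponent.HeldType.ActType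
  Cfsg.Agent.StandardComponent.HeldType.Basic Cfsg.Agent.StandardComponent.HeldType.Ctx

variable {G : Type*} [Group G] {L : Subgroup G} {F : Frm L}

/-! ### Classes of involutions of `T0` -/

theorem conj_E1 {e : G} (he : e ∈ F.E1) : ∃ g c s, g * e * g⁻¹ = F.d c s := by
  obtain ⟨a, c, s, rfl⟩ := he
  by_cases ha : a = 0
  · subst ha
    exact ⟨1, c, s, by rw [← F.d_eq_t]; group⟩
  · refine ⟨F.n1 * F.y (c * a⁻¹), a, s + a * (c * a⁻¹) ^ 2, ?_⟩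
    have h1 := F.t_conj 0 (c * a⁻¹) 0 0 a 0 c s
    rw [← F.y_eq_t] at h1
    have h2 : c + (0 * 0 + a * (c * a⁻¹)) = 0 := by
      have h3 : a * (c * a⁻¹) = c := by field_simp
      rw [zero_mul, zero_add, h3, Frm.f4_add_self]
    rw [h2] at h1
    have h4 : F.n1 * F.y (c * a⁻¹) * F.t a 0 c s * (F.n1 * F.y (c * a⁻¹))⁻¹ =
        F.n1 * (F.y (c * a⁻¹) * F.t a 0 c s * (F.y (c * a⁻¹))⁻¹) * F.n1⁻¹ := by group
    rw [h4, h1, F.n1_xd, F.d_eq_t, zero_mul, zero_add]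

theorem conj_E2 {e : G} (he : e ∈ F.E2) : ∃ g c s, g * e * g⁻¹ = F.d c s := by
  obtain ⟨b, c, s, rfl⟩ := he
  by_cases hb : b = 0
  · subst hb
    exact ⟨1, c, s, by rw [← F.d_eq_t]; group⟩
  · refine ⟨F.n2 * F.x (c * b⁻¹), b, s + (c * b⁻¹) * b ^ 2, ?_⟩
    have h1 := F.t_conj (c * b⁻¹) 0 0 0 0 b c s
    rw [← F.x_eq_t] at h1
    have h2 : c + (c * b⁻¹ * b + 0 * 0) = 0 := by
      have h3 : c * b⁻¹ * b = c := by field_simp
      rw [zero_mul, add_zero, h3, Frm.f4_add_self]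
    rw [h2] at h1
    have h4 : F.n2 * F.x (c * b⁻¹) * F.t 0 b c s * (F.n2 * F.x (c * b⁻¹))⁻¹ =
        F.n2 * (F.x (c * b⁻¹) * F.t 0 b c s * (F.x (c * b⁻¹))⁻¹) * F.n2⁻¹ := by group
    rw [h4, h1, F.n2_yd, F.d_eq_t, zero_mul, add_zero]

/-- all pairs of semilinear maps are realised in `N(T0)` -/
def Full (F : Frm L) : Prop := ∀ (e e' : Bool) (l m : F4), l ≠ 0 → m ≠ 0 →
  ∃ g, NT F g ∧ Acts F g e e' l m

/-- elements `d c s` with `c s ≠ 0` are conjugate -/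
theorem conj_rank_one (hf : Full F) {c s c' s' : F4} (hc : c ≠ 0) (hs : s ≠ 0) (hc' : c' ≠ 0)
    (hs' : s' ≠ 0) : ∃ g, NT F g ∧ g * F.d c s * g⁻¹ = F.d c' s' := by
  have key : ∀ c s c' s' : F4, c ≠ 0 → s ≠ 0 → c' ≠ 0 → s' ≠ 0 →
      ∃ l m, l ≠ 0 ∧ m ≠ 0 ∧ l * m * c = c' ∧ l * m ^ 2 * s = s' := by decide
  obtain ⟨l, m, hl, hm, h1, h2⟩ := key c s c' s' hc hs hc' hs'
  obtain ⟨g, hg, hA⟩ := hf false false l m hl hm
  refine ⟨g, hg, ?_⟩
  rw [act_d F hA]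
  simp only [dact, h1, h2]

/-- Classes of involutions of `T0`. -/
theorem inv_class (H : Sit F) (hf : Full F) {e : G} (he : e ∈ F.T0) (h2 : e * e = 1) (h1 : e ≠ 1)
    {c0 s0 : F4} (hc0 : c0 ≠ 0) (hs0 : s0 ≠ 0) :
    (∃ g s, s ≠ 0 ∧ g * F.d 0 s * g⁻¹ = e) ∨ (∃ g, g * F.d c0 s0 * g⁻¹ = e) := by
  have h3 : ∃ g c s, g * e * g⁻¹ = F.d c s := by
    rcases T0.mem_E1_or_E2 F he h2 with h | h
    · exact conj_E1 h
    · exact conj_E2 h
  obtain ⟨g, c, s, hg⟩ := h3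
  have he' : e = g⁻¹ * F.d c s * g⁻¹⁻¹ := by rw [← hg]; group
  by_cases hc : c = 0
  · subst hc
    left
    refine ⟨g⁻¹, s, ?_, he'.symm⟩
    rintro rfl
    apply h1
    rw [he', F.d_zero]; group
  · by_cases hs : s = 0
    · subst hs
      left
      obtain ⟨x, hx, -, hx2⟩ := H.swp
      obtain ⟨s, hs⟩ := hx2 c
      refine ⟨g⁻¹ * x⁻¹, s, ?_, ?_⟩
      · rintro rfl
        apply h1
        rw [F.d_zero] at hs
        have h4 : F.d c 0 = x⁻¹ * (x * F.d c 0 * x⁻¹) * x := by group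
        rw [he', h4, hs]; group
      · rw [he', ← hs]; group
    · right
      obtain ⟨x, hx, hx2⟩ := conj_rank_one hf hc0 hs0 hc hs
      refine ⟨g⁻¹ * x, ?_⟩
      rw [he', ← hx2]; group

/-- Elements of `L` normalising `T0` fix `E1` and `E2`. -/
theorem NE_of_mem {g : G} (hg : g ∈ L) (hT : NT F g) : NE F g := by
  rcases E_cases F hT with h | h
  · exact h
  · exfalso
    obtain ⟨k, a, b, c, s, h1⟩ := F.norm_T g hg (fun a b c s => by
      obtain ⟨a', b', c', s', h2⟩ := (hT (F.t a b c s)).1 ⟨a, b, c, s, rfl⟩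
      exact ⟨a', b', c', s', h2⟩)
    have h2 : g = F.t a b c s * F.h ^ k := h1
    obtain ⟨e, e', l, m, hl, hm, hS⟩ := exists_actsS F hT h.1 h.2
    have h3 : Acts F g (xor false false) (xor false false) (sm false 1 (F4.w ^ k))
        (sm false 1 (F4.w ^ k)) := by
      rw [h2]
      exact acts_mul F (acts_T0 F ⟨a, b, c, s, rfl⟩) (acts_pow F (acts_h F) k)
    obtain ⟨c1, s1, h4⟩ := hS.1 1
    obtain ⟨c2, s2, h5⟩ := h3.1 1
    rw [h4, F.yd_eq_t, F.xd_eq_t] at h5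
    have h6 := (F.t_inj h5).1
    have h7 : sm (xor false false) (sm false 1 (F4.w ^ k)) 1 ≠ 0 := by
      apply sm_ne_zero
      · exact sm_ne_zero _ _ _ one_ne_zero (pow_ne_zero _ (by decide))
      · exact one_ne_zero
    exact h7 h6.symm

/-- An involution interchanging `E1` and `E2` and centralising `V` is not conjugate into `V`. -/
theorem not_V_type [Finite G] (H : Sit F) {t : G} (hT : NT F t) (hE : ¬ NE F t)
    (hV : ∀ s, t * F.d 0 s = F.d 0 s * t) {g : G} {s : F4} (_hs : s ≠ 0)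
    (hg : g * F.d 0 s * g⁻¹ = t) : False := by
  have hc : Cj L (L.map (MulAut.conj g).toMonoidHom) := Cj.conj L g
  set L' := L.map (MulAut.conj g).toMonoidHom with hL'
  have hgL : ∀ l, l ∈ L ↔ g * l * g⁻¹ ∈ L' := by
    intro l
    rw [hL']
    constructor
    · intro h
      exact ⟨l, h, rfl⟩
    · rintro ⟨x, hx, h⟩
      have h3 : g * x * g⁻¹ = g * l * g⁻¹ := h
      have h4 : x = l := by simpa using h3
      rwa [← h4]
  have htZ : t ∈ Z L' := by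
    rw [← hg]
    exact Z_conj hgL (d0_mem_Z F s)
  have ht1 : t ≠ 1 := by
    rintro rfl
    exact hE ⟨fun x => by simp, fun x => by simp⟩
  have htV : ∀ z ∈ Z L, t * z = z * t := by
    intro z hz
    obtain ⟨s, rfl⟩ := (mem_Z_iff F).1 hz
    exact hV s
  by_cases hne : L = L'
  · rw [← hne] at htZ
    exact hE (NE_of_mem htZ.1 hT)
  · have h' : TE L' := H.te.of_cj hc
    have hP : Pair L L' := ⟨H.te, h', hc, hne, comm_pair H.te h' hc hne htZ ht1 htV⟩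
    obtain ⟨F1, F2, -, -, -, h5, -⟩ := hP.main
    exact hE (NE_of_mem ((T0.D0_le F1).trans (T0.T0_le F1) (h5 htZ)) hT)

/-- the elements of a subgroup of `N(T0)` fixing `E1` and `E2` -/
def plus (F : Frm L) (T : Subgroup G) (_hT : ∀ t ∈ T, NT F t) : Subgroup G where
  carrier := {t | t ∈ T ∧ NE F t}
  one_mem' := ⟨T.one_mem, ⟨fun x => by simp, fun x => by simp⟩⟩
  mul_mem' := by
    rintro a b ⟨ha, ha1, ha2⟩ ⟨hb, hb1, hb2⟩
    have e : ∀ x, a * b * x * (a * b)⁻¹ = a * (b * x * b⁻¹) * a⁻¹ := by intro x; group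
    exact ⟨T.mul_mem ha hb, ⟨fun x => by rw [e, ← ha1, ← hb1], fun x => by rw [e, ← ha2, ← hb2]⟩⟩
  inv_mem' := by
    rintro a ⟨ha, ha1, ha2⟩
    have e : ∀ x, a * (a⁻¹ * x * a⁻¹⁻¹) * a⁻¹ = x := by intro x; group
    exact ⟨T.inv_mem ha, ⟨fun x => by rw [ha1 (a⁻¹ * x * a⁻¹⁻¹), e],
      fun x => by rw [ha2 (a⁻¹ * x * a⁻¹⁻¹), e]⟩⟩

theorem mem_plus {T : Subgroup G} {hT : ∀ t ∈ T, NT F t} {x : G} :
    x ∈ plus F T hT ↔ x ∈ T ∧ NE F x := Iff.rfl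

theorem NE_mul_of_swap {a b : G} (ha : NT F a) (hb : NT F b) (ha' : ¬ NE F a) (hb' : ¬ NE F b) :
    NE F (a * b) := by
  have h1 := (E_cases F ha).resolve_left ha'
  have h2 := (E_cases F hb).resolve_left hb'
  have e : ∀ x, a * b * x * (a * b)⁻¹ = a * (b * x * b⁻¹) * a⁻¹ := by intro x; group
  exact ⟨fun x => by rw [e, ← h1.2, ← h2.1], fun x => by rw [e, ← h1.1, ← h2.2]⟩

theorem relIndex_plus {T : Subgroup G} (hT : ∀ t ∈ T, NT F t) {t : G} (ht : t ∈ T)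
    (hE : ¬ NE F t) : (plus F T hT).relIndex T = 2 := by
  rw [Subgroup.relIndex, Subgroup.index_eq_two_iff]
  refine ⟨⟨t, ht⟩, ?_⟩
  rintro ⟨b, hb⟩
  have key : (b ∈ plus F T hT) ↔ NE F b := ⟨fun h => h.2, fun h => ⟨hb, h⟩⟩
  have key2 : (b * t ∈ plus F T hT) ↔ NE F (b * t) := ⟨fun h => h.2, fun h => ⟨T.mul_mem hb ht, h⟩⟩
  simp only [Subgroup.mem_subgroupOf]
  show Xor (b * t ∈ plus F T hT) (b ∈ plus F T hT)
  rw [key, key2]
  by_cases h : NE F b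
  · right
    refine ⟨h, fun h2 => hE ?_⟩
    have h3 : t = b⁻¹ * (b * t) := by group
    have h4 : b⁻¹ ∈ plus F T hT := (plus F T hT).inv_mem ⟨hb, h⟩
    have h5 : b * t ∈ plus F T hT := ⟨T.mul_mem hb ht, h2⟩
    rw [h3]
    exact ((plus F T hT).mul_mem h4 h5).2
  · left
    exact ⟨NE_mul_of_swap (hT b hb) (hT t ht) h hE, h⟩

/-- **No swap.** -/
theorem no_swap [Finite G] [IsSimpleGroup G] (H : Sit F) (hf : Full F)
    (hA3 : ∀ e, NT F e → NE F e → e * e = 1 → ∃ g, g * e * g⁻¹ ∈ F.T0)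
    (T : Sylow 2 G) (hTN : ∀ x ∈ (T : Subgroup G), NT F x)
    {t : G} (ht : t ∈ (T : Subgroup G)) (hE : ¬ NE F t) (ht2 : t * t = 1)
    (hV : ∀ s, t * F.d 0 s = F.d 0 s * t) {c0 s0 : F4} (hc0 : c0 ≠ 0) (hs0 : s0 ≠ 0)
    (hw : ∀ x ∈ (T : Subgroup G), x * F.d c0 s0 = F.d c0 s0 * x)
    (hbig : ∀ e ∈ (T : Subgroup G), NE F e → e * e = 1 → e ≠ 1 →
      64 ≤ Nat.card ((T : Subgroup G) ⊓ Subgroup.centralizer {e} : Subgroup G))
    (hB2 : ∀ s, s ≠ 0 → ∀ R : Subgroup G, IsPGroup 2 R → (∀ r ∈ R, r * t = t * r) →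
      (∀ r ∈ R, r * F.d 0 s = F.d 0 s * r) → Nat.card R ≤ 32) : False := by
  have ht1 : t ≠ 1 := by
    rintro rfl
    exact hE ⟨fun x => by simp, fun x => by simp⟩
  -- Thompson transfer
  have hconj : ∃ g, g * t * g⁻¹ ∈ plus F T hTN := by
    rcases Cfsg.Agent.Transfer.ThompsonTransfer.thompson_transfer T (plus F T hTN)
      (fun x hx => hx.1) (relIndex_plus hTN ht hE) t (by rw [pow_two]; exact ht2) with h | h
    · exfalso
      obtain ⟨M, hM, hM2, -⟩ := h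
      rcases hM.eq_bot_or_eq_top with h | h
      · rw [h, Subgroup.index_bot] at hM2
        have h3 : Nat.card L ≤ Nat.card G := Subgroup.card_le_card_group L
        rw [F.card_L, hM2] at h3
        omega
      · rw [h, Subgroup.index_top] at hM2
        omega
    · exact h
  obtain ⟨g0, hg0⟩ := hconj
  obtain ⟨g1, hg1⟩ := hA3 _ (hTN _ hg0.1) hg0.2 (by
    calc g0 * t * g0⁻¹ * (g0 * t * g0⁻¹) = g0 * (t * t) * g0⁻¹ := by group
      _ = 1 := by rw [ht2]; group)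
  have e1 : g1 * (g0 * t * g0⁻¹) * g1⁻¹ = (g1 * g0) * t * (g1 * g0)⁻¹ := by group
  rw [e1] at hg1
  have h2 : ((g1 * g0) * t * (g1 * g0)⁻¹) * ((g1 * g0) * t * (g1 * g0)⁻¹) = 1 := by
    calc _ = (g1 * g0) * (t * t) * (g1 * g0)⁻¹ := by group
      _ = 1 := by rw [ht2]; group
  have h3 : (g1 * g0) * t * (g1 * g0)⁻¹ ≠ 1 := by
    intro h
    apply ht1
    have : t = (g1 * g0)⁻¹ * ((g1 * g0) * t * (g1 * g0)⁻¹) * (g1 * g0) := by group
    rw [this, h]; group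
  -- `t` is conjugate to `d c0 s0`
  obtain ⟨g, hg⟩ : ∃ g, g * F.d c0 s0 * g⁻¹ = t := by
    rcases inv_class H hf hg1 h2 h3 hc0 hs0 with ⟨g, s, hs, hg⟩ | ⟨g, hg⟩
    · exfalso
      refine not_V_type H (hTN t ht) hE hV (g := (g1 * g0)⁻¹ * g) hs ?_
      have : (g1 * g0)⁻¹ * g * F.d 0 s * ((g1 * g0)⁻¹ * g)⁻¹ =
        (g1 * g0)⁻¹ * (g * F.d 0 s * g⁻¹) * (g1 * g0) := by group
      rw [this, hg]; group
    · refine ⟨(g1 * g0)⁻¹ * g, ?_⟩
      have : (g1 * g0)⁻¹ * g * F.d c0 s0 * ((g1 * g0)⁻¹ * g)⁻¹ =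
        (g1 * g0)⁻¹ * (g * F.d c0 s0 * g⁻¹) * (g1 * g0) := by group
      rw [this, hg]; group
  -- a conjugate of `V` lies in `C(w0)`
  set w0 := F.d c0 s0 with hw0
  set C := Subgroup.centralizer ({w0} : Set G) with hC
  have hmemC : ∀ x, x ∈ C ↔ x * w0 = w0 * x := by
    intro x
    rw [hC, Subgroup.mem_centralizer_singleton_iff]
  have hTC : (T : Subgroup G) ≤ C := fun x hx => (hmemC x).2 (hw x hx)
  set W := F.V.map (MulAut.conj g⁻¹).toMonoidHom with hW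
  have hWC : W ≤ C := by
    rintro _ ⟨z, ⟨s, rfl⟩, rfl⟩
    rw [hmemC]
    show g⁻¹ * F.d 0 s * g⁻¹⁻¹ * w0 = w0 * (g⁻¹ * F.d 0 s * g⁻¹⁻¹)
    have h4 := hV s
    have h5 : w0 = g⁻¹ * t * g := by rw [← hg]; group
    rw [h5]
    calc g⁻¹ * F.d 0 s * g⁻¹⁻¹ * (g⁻¹ * t * g) = g⁻¹ * (F.d 0 s * t) * g := by group
      _ = g⁻¹ * (t * F.d 0 s) * g := by rw [h4]
      _ = _ := by group
  have hWp : IsPGroup 2 (W.subgroupOf C) := by
    have h6 : IsPGroup 2 W := (T0.isPGroup_V F).map _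
    exact h6.comap_of_injective C.subtype C.subtype_injective
  -- conjugate it into `T`
  let S : Sylow 2 C := T.subtype hTC
  obtain ⟨S', hS'⟩ := hWp.exists_le_sylow
  obtain ⟨c, hc⟩ := MulAction.exists_smul_eq C S' S
  have hWT : ∀ s, (c : G) * (g⁻¹ * F.d 0 s * g) * (c : G)⁻¹ ∈ (T : Subgroup G) := by
    intro s
    have h7 : g⁻¹ * F.d 0 s * g ∈ W := ⟨F.d 0 s, ⟨s, rfl⟩, by simp⟩
    have h8 : (⟨g⁻¹ * F.d 0 s * g, hWC h7⟩ : C) ∈ (S' : Subgroup C) := hS' h7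
    have h9 : c * ⟨g⁻¹ * F.d 0 s * g, hWC h7⟩ * c⁻¹ ∈ ((c • S' : Sylow 2 C) : Subgroup C) := by
      rw [Sylow.coe_subgroup_smul]
      exact Subgroup.smul_mem_pointwise_smul _ (MulAut.conj c) _ h8
    rw [hc] at h9
    exact h9
  -- an element of it fixes `E1`
  obtain ⟨s, hs, hes⟩ : ∃ s, s ≠ 0 ∧ NE F ((c : G) * (g⁻¹ * F.d 0 s * g) * (c : G)⁻¹) := by
    by_cases h1 : NE F ((c : G) * (g⁻¹ * F.d 0 1 * g) * (c : G)⁻¹)
    · exact ⟨1, one_ne_zero, h1⟩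
    by_cases h2 : NE F ((c : G) * (g⁻¹ * F.d 0 F4.w * g) * (c : G)⁻¹)
    · exact ⟨F4.w, by decide, h2⟩
    refine ⟨1 + F4.w, by decide, ?_⟩
    have h5 := NE_mul_of_swap (hTN _ (hWT 1)) (hTN _ (hWT F4.w)) h1 h2
    have h6 : (c : G) * (g⁻¹ * F.d 0 (1 + F4.w) * g) * (c : G)⁻¹ =
        ((c : G) * (g⁻¹ * F.d 0 1 * g) * (c : G)⁻¹) *
          ((c : G) * (g⁻¹ * F.d 0 F4.w * g) * (c : G)⁻¹) := by
      have h7 : F.d 0 (1 + F4.w) = F.d 0 1 * F.d 0 F4.w := by rw [← F.d_add, add_zero]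
      rw [h7]; group
    rw [h6]; exact h5
  set k : G := (c : G) * g⁻¹ with hk
  have hke : (c : G) * (g⁻¹ * F.d 0 s * g) * (c : G)⁻¹ = k * F.d 0 s * k⁻¹ := by
    rw [hk]; group
  have hcw : (c : G) * w0 = w0 * c := (hmemC c).1 c.2
  have hkw : k⁻¹ * w0 * k = t := by
    rw [hk]
    have : ((c : G) * g⁻¹)⁻¹ * w0 * ((c : G) * g⁻¹) = g * ((c : G)⁻¹ * (w0 * c)) * g⁻¹ := by group
    rw [this, ← hcw, inv_mul_cancel_left, hg]
  have h64 := hbig _ (hWT s) hes (by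
      rw [hke]
      calc k * F.d 0 s * k⁻¹ * (k * F.d 0 s * k⁻¹) = k * (F.d 0 s * F.d 0 s) * k⁻¹ := by group
        _ = 1 := by rw [F.d_mul_self]; group) (by
      rw [hke]
      intro h
      apply hs
      have h4 : F.d 0 s = k⁻¹ * (k * F.d 0 s * k⁻¹) * k := by group
      rw [h] at h4
      have h5 : F.d 0 s = F.d 0 0 := by rw [h4, F.d_zero]; group
      exact (T0.d_inj F h5).2)
  rw [hke] at h64
  set R0 := ((T : Subgroup G) ⊓ Subgroup.centralizer {k * F.d 0 s * k⁻¹} : Subgroup G) with hR0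
  set R := R0.map (MulAut.conj k⁻¹).toMonoidHom with hR
  have hRcard : Nat.card R = Nat.card R0 :=
    Subgroup.card_map_of_injective (MulAut.conj k⁻¹).injective
  have hR0p : IsPGroup 2 R0 := T.2.to_le inf_le_left
  have h32 := hB2 s hs R (hR0p.map _) (by
      rintro _ ⟨r, hr, rfl⟩
      show k⁻¹ * r * k⁻¹⁻¹ * t = t * (k⁻¹ * r * k⁻¹⁻¹)
      have h5 := hw r hr.1
      rw [← hkw]
      calc k⁻¹ * r * k⁻¹⁻¹ * (k⁻¹ * w0 * k) = k⁻¹ * (r * w0) * k := by group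
        _ = k⁻¹ * (w0 * r) * k := by rw [h5]
        _ = _ := by group) (by
      rintro _ ⟨r, hr, rfl⟩
      show k⁻¹ * r * k⁻¹⁻¹ * F.d 0 s = F.d 0 s * (k⁻¹ * r * k⁻¹⁻¹)
      have h5 := Subgroup.mem_centralizer_singleton_iff.1 hr.2
      calc k⁻¹ * r * k⁻¹⁻¹ * F.d 0 s = k⁻¹ * (r * (k * F.d 0 s * k⁻¹)) * k := by group
        _ = k⁻¹ * ((k * F.d 0 s * k⁻¹) * r) * k := by rw [h5]
        _ = _ := by group)
  rw [hRcard] at h32
  omega

end Cfsg.Agent.StandardComponent.HeldType.NoSwap
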