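import Mathlib
import Cfsg.Agent.StandardComponent.HeldType.NoSwap

/-!
Involutions of a Sylow subgroup `T` of `N(T0)` fixing `E1` and `E2` have large centralisers in `T`.
-/

set_option autoImplicit false

namespace Cfsg.Agent.StandardComponent.HeldType.Big

open Cfsg.Agent.Lib.FieldFour Cfsg.Agent.StandardComponent.HeldType.Frame
  Cfsg.Agent.StandardComponent.HeldType.Act Cfsg.Agent.StandardComponent.HeldType.ActType
  Cfsg.Agent.StandardComponent.HeldType.Basic Cfsg.Agent.StandardComponent.HeldType.Ctx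
  Cfsg.Agent.StandardComponent.HeldType.NoSwap

variable {G : Type*} [Group G] {L : Subgroup G} {F : Frm L}

theorem two_mul_card_le [Finite G] {A B : Subgroup G} (h : A ≤ B) {b : G} (hb : b ∈ B)
    (hb' : b ∉ A) : 2 * Nat.card A ≤ Nat.card B := by
  have h1 : A.relIndex B * Nat.card A = Nat.card B := by
    rw [mul_comm]
    have h2 := Subgroup.card_mul_index (A.subgroupOf B)
    rw [Nat.card_congr (Subgroup.subgroupOfEquivOfLe h).toEquiv] at h2
    exact h2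
  have h3 : A.relIndex B ≠ 1 := by
    intro h4
    exact hb' ((Subgroup.relIndex_eq_one.1 h4) hb)
  have h5 : A.relIndex B ≠ 0 := by
    intro h4
    rw [h4, zero_mul] at h1
    exact absurd h1.symm (Nat.card_pos (α := B)).ne'
  rw [← h1]
  exact Nat.mul_le_mul_right _ (by omega)

/-- a `2`-element of `N(T0)` acting linearly lies in `T0` -/
theorem mem_T0_of_linear (H : Sit F) {x : G} {l m : F4} (hA : Acts F x false false l m)
    (hl : l ≠ 0) (hm : m ≠ 0) {n : ℕ} (hn : x ^ 2 ^ n = 1) : x ∈ F.T0 := by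
  have h1 := acts_pow F hA (2 ^ n)
  rw [hn] at h1
  obtain ⟨-, -, h2, h3⟩ := acts_unique F h1 (acts_one F) (pow_ne_zero _ hl) (pow_ne_zero _ hm)
  have h4 := eq_one_of_pow_two_pow h2
  have h5 := eq_one_of_pow_two_pow h3
  subst h4 h5
  exact H.mem_T0_of_acts hA hn

/-- the involutory types -/
theorem type_of_inv {e : G} {ε ε' : Bool} {l m : F4} (hA : Acts F e ε ε' l m) (hl : l ≠ 0)
    (hm : m ≠ 0) (h2 : e * e = 1) : (ε = false → l = 1) ∧ (ε' = false → m = 1) := by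
  have h1 := acts_mul F hA hA
  rw [h2] at h1
  obtain ⟨-, -, h3, h4⟩ := acts_unique F h1 (acts_one F) (sm_ne_zero _ _ _ hl hl)
    (sm_ne_zero _ _ _ hm hm)
  constructor
  · rintro rfl
    revert h3; clear h4 h1 hA; revert l; decide
  · rintro rfl
    revert h4; clear h3 h1 hA; revert m; decide

theorem comm_of_conj {e x : G} (h : e * x * e⁻¹ = x) : e * x = x * e := mul_inv_eq_iff_eq_mul.1 h

/-- twisting by an involution: the error term of a fixed element is fixed -/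
theorem err_fixed {e x r : G} (h2 : e * e = 1) (h : e * x * e⁻¹ = x * r) (hr : r * r = 1) :
    e * r * e⁻¹ = r := by
  have h1 : e * (e * x * e⁻¹) * e⁻¹ = x := by
    have : e * (e * x * e⁻¹) * e⁻¹ = (e * e) * x * (e * e)⁻¹ := by group
    rw [this, h2]; group
  have h3 : e * (x * r) * e⁻¹ = (e * x * e⁻¹) * (e * r * e⁻¹) := by group
  rw [h, h3, h, mul_assoc] at h1
  have h4 : r * (e * r * e⁻¹) = 1 := by
    have := congrArg (fun y => x⁻¹ * y) h1
    simpa [mul_assoc] using this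
  have h5 : r⁻¹ = r := inv_eq_of_mul_eq_one_left hr
  rw [← inv_eq_of_mul_eq_one_right h4, h5]

section tf

variable {e : G} {l : F4}

/-- type `(true, false)`: many elements of `T0` commute with `e` -/
theorem comm_tf (hl : l ≠ 0) (hA : Acts F e true false l 1) (h2 : e * e = 1) :
    (∀ b : F4, ∃ p : F4, ∀ s, e * F.t 0 b (p + l * s ^ 2) s = F.t 0 b (p + l * s ^ 2) s * e) ∧
      ∃ a c, a ≠ 0 ∧ e * F.t a 0 c 0 = F.t a 0 c 0 * e := by
  have hfix : ∀ x p q, e * x * e⁻¹ = x * F.d p q → l * q ^ 2 = p ∧ l * p ^ 2 = q := by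
    intro x p q h
    have h3 := err_fixed h2 h (F.d_mul_self p q)
    rw [act_d F hA] at h3
    have h4 := T0.d_inj F h3
    simp only [dact, mul_one, one_pow] at h4
    exact h4
  constructor
  · intro b
    obtain ⟨p, q, h⟩ := hA.2 b
    rw [sm_false_one] at h
    obtain ⟨h3, h4⟩ := hfix _ p q h
    refine ⟨p, fun s => comm_of_conj ?_⟩
    have h5 : e * F.t 0 b (p + l * s ^ 2) s * e⁻¹ =
        (e * F.y b * e⁻¹) * (e * F.d (p + l * s ^ 2) s * e⁻¹) := by
      rw [← F.yd_eq_t]; group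
    rw [h5, h, act_d F hA, mul_assoc, ← F.d_add, F.yd_eq_t]
    simp only [dact]
    have k1 : ∀ l p q s : F4, l ≠ 0 → l * q ^ 2 = p → l * p ^ 2 = q →
        p + l * 1 * s ^ 2 = p + l * s ^ 2 ∧ q + l * 1 ^ 2 * (p + l * s ^ 2) ^ 2 = s := by decide
    obtain ⟨h6, h7⟩ := k1 l p q s hl h3 h4
    rw [h6, h7]
  · have k2 : ∀ l : F4, l ≠ 0 → l⁻¹ ≠ 0 ∧ sm true l l⁻¹ = l⁻¹ := by decide
    obtain ⟨p, q, h⟩ := hA.1 l⁻¹
    rw [(k2 l hl).2] at h
    obtain ⟨h3, h4⟩ := hfix _ p q h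
    refine ⟨l⁻¹, p, (k2 l hl).1, comm_of_conj ?_⟩
    have h5 : e * F.t l⁻¹ 0 p 0 * e⁻¹ = (e * F.x l⁻¹ * e⁻¹) * (e * F.d p 0 * e⁻¹) := by
      rw [← F.xd_eq_t]; group
    rw [h5, h, act_d F hA, mul_assoc, ← F.d_add, F.xd_eq_t]
    simp only [dact]
    have k1 : ∀ l p q : F4, l ≠ 0 → l * q ^ 2 = p → l * p ^ 2 = q →
        p + l * 1 * 0 ^ 2 = p ∧ q + l * 1 ^ 2 * p ^ 2 = 0 := by decide
    obtain ⟨h6, h7⟩ := k1 l p q hl h3 h4
    rw [h6, h7]

/-- type `(false, true)`: many elements of `T0` commute with `e` -/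
theorem comm_ft (hl : l ≠ 0) (hA : Acts F e false true 1 l) (h2 : e * e = 1) :
    (∀ a : F4, ∃ p : F4, ∀ s, e * F.t a 0 (p + l * s) s = F.t a 0 (p + l * s) s * e) ∧
      ∃ b c, b ≠ 0 ∧ e * F.t 0 b c 0 = F.t 0 b c 0 * e := by
  have hfix : ∀ x p q, e * x * e⁻¹ = x * F.d p q → l * q = p ∧ l ^ 2 * p = q := by
    intro x p q h
    have h3 := err_fixed h2 h (F.d_mul_self p q)
    rw [act_d F hA] at h3
    have h4 := T0.d_inj F h3
    simp only [dact, one_mul] at h4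
    exact h4
  constructor
  · intro a
    obtain ⟨p, q, h⟩ := hA.1 a
    rw [sm_false_one] at h
    obtain ⟨h3, h4⟩ := hfix _ p q h
    refine ⟨p, fun s => comm_of_conj ?_⟩
    have h5 : e * F.t a 0 (p + l * s) s * e⁻¹ =
        (e * F.x a * e⁻¹) * (e * F.d (p + l * s) s * e⁻¹) := by
      rw [← F.xd_eq_t]; group
    rw [h5, h, act_d F hA, mul_assoc, ← F.d_add, F.xd_eq_t]
    simp only [dact]
    have k1 : ∀ l p q s : F4, l ≠ 0 → l * q = p → l ^ 2 * p = q →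
        p + 1 * l * s = p + l * s ∧ q + 1 * l ^ 2 * (p + l * s) = s := by decide
    obtain ⟨h6, h7⟩ := k1 l p q s hl h3 h4
    rw [h6, h7]
  · have k2 : ∀ l : F4, l ≠ 0 → l⁻¹ ≠ 0 ∧ sm true l l⁻¹ = l⁻¹ := by decide
    obtain ⟨p, q, h⟩ := hA.2 l⁻¹
    rw [(k2 l hl).2] at h
    obtain ⟨h3, h4⟩ := hfix _ p q h
    refine ⟨l⁻¹, p, (k2 l hl).1, comm_of_conj ?_⟩
    have h5 : e * F.t 0 l⁻¹ p 0 * e⁻¹ = (e * F.y l⁻¹ * e⁻¹) * (e * F.d p 0 * e⁻¹) := by
      rw [← F.yd_eq_t]; group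
    rw [h5, h, act_d F hA, mul_assoc, ← F.d_add, F.yd_eq_t]
    simp only [dact]
    have k1 : ∀ l p q : F4, l ≠ 0 → l * q = p → l ^ 2 * p = q →
        p + 1 * l * 0 = p ∧ q + 1 * l ^ 2 * p = 0 := by decide
    obtain ⟨h6, h7⟩ := k1 l p q hl h3 h4
    rw [h6, h7]

end tf

section tt

variable {e : G} {l m : F4}

/-- type `(true, true)`: fixed vectors -/
theorem fix_tt (hl : l ≠ 0) (hm : m ≠ 0) (hA : Acts F e true true l m) (h2 : e * e = 1) {x : G}
    {p q : F4} (h : e * x * e⁻¹ = x * F.d p q) : ∃ c s, e * (x * F.d c s) * e⁻¹ = x * F.d c s := by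
  have h3 := err_fixed h2 h (F.d_mul_self p q)
  rw [act_d F hA] at h3
  obtain ⟨h4, h5⟩ := T0.d_inj F h3
  have k1 : ∀ l p : F4, l ≠ 0 → l * p ^ 2 = p → ∃ c, p + l * c ^ 2 = c := by decide
  obtain ⟨c, hc⟩ := k1 (l * m) p (mul_ne_zero hl hm) h4
  obtain ⟨s, hs⟩ := k1 (l * m ^ 2) q (mul_ne_zero hl (pow_ne_zero _ hm)) h5
  refine ⟨c, s, ?_⟩
  have h6 : e * (x * F.d c s) * e⁻¹ = (e * x * e⁻¹) * (e * F.d c s * e⁻¹) := by group
  rw [h6, h, act_d F hA, mul_assoc, ← F.d_add]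
  simp only [dact]
  rw [hc, hs]

theorem comm_tt (hl : l ≠ 0) (hm : m ≠ 0) (hA : Acts F e true true l m) (h2 : e * e = 1) :
    (∃ c0 s0, c0 ≠ 0 ∧ s0 ≠ 0 ∧ e * F.d c0 0 = F.d c0 0 * e ∧ e * F.d 0 s0 = F.d 0 s0 * e) ∧
      (∃ a c s, a ≠ 0 ∧ e * F.t a 0 c s = F.t a 0 c s * e) ∧
      ∃ b c s, b ≠ 0 ∧ e * F.t 0 b c s = F.t 0 b c s * e := by
  have k2 : ∀ l : F4, l ≠ 0 → l⁻¹ ≠ 0 ∧ l * l⁻¹ ^ 2 = l⁻¹ := by decide
  have k0 : ∀ l : F4, l ≠ 0 → l⁻¹ ≠ 0 ∧ sm true l l⁻¹ = l⁻¹ := by decide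
  refine ⟨⟨(l * m)⁻¹, (l * m ^ 2)⁻¹, (k2 _ (mul_ne_zero hl hm)).1,
    (k2 _ (mul_ne_zero hl (pow_ne_zero _ hm))).1, comm_of_conj ?_, comm_of_conj ?_⟩, ?_, ?_⟩
  · rw [act_d F hA]
    simp only [dact]
    rw [(k2 _ (mul_ne_zero hl hm)).2]
    congr 1
    ring
  · rw [act_d F hA]
    simp only [dact]
    rw [(k2 _ (mul_ne_zero hl (pow_ne_zero _ hm))).2]
    congr 1
    ring
  · obtain ⟨p, q, h⟩ := hA.1 l⁻¹
    rw [(k0 l hl).2] at h
    obtain ⟨c, s, h3⟩ := fix_tt hl hm hA h2 h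
    refine ⟨l⁻¹, c, s, (k2 l hl).1, comm_of_conj ?_⟩
    rw [← F.xd_eq_t]; exact h3
  · obtain ⟨p, q, h⟩ := hA.2 m⁻¹
    rw [(k0 m hm).2] at h
    obtain ⟨c, s, h3⟩ := fix_tt hl hm hA h2 h
    refine ⟨m⁻¹, c, s, (k2 m hm).1, comm_of_conj ?_⟩
    rw [← F.yd_eq_t]; exact h3

/-- involutions of type `(true, true)` congruent modulo `T0` are conjugate under `T0` -/
theorem trans_tt (hl : l ≠ 0) (hm : m ≠ 0) (hA : Acts F e true true l m) (h2 : e * e = 1)
    {t : G} (ht : t ∈ F.T0) (h3 : (e * t) * (e * t) = 1) :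
    ∃ u ∈ F.T0, u * e * u⁻¹ = e * t := by
  have hei : e⁻¹ = e := inv_eq_of_mul_eq_one_left h2
  obtain ⟨a, b, c, s, rfl⟩ := ht
  -- the action of `e` on `T0`
  have hT : ∀ a b c s, ∃ c' s', e * F.t a b c s * e = F.t (l * a ^ 2) (m * b ^ 2) c' s' := by
    intro a b c s
    obtain ⟨c1, s1, h4⟩ := hA.1 a
    obtain ⟨c2, s2, h5⟩ := hA.2 b
    have h6 := act_d F hA c s
    rw [hei] at h4 h5 h6
    have h7 : e * F.t a b c s * e = (e * F.x a * e) * (e * F.y b * e) * (e * F.d c s * e) := by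
      rw [Frm.t_def]
      calc e * (F.x a * F.y b * F.d c s) * e = e * F.x a * 1 * F.y b * 1 * F.d c s * e := by group
        _ = e * F.x a * (e * e) * F.y b * (e * e) * F.d c s * e := by rw [h2]
        _ = _ := by group
    rw [h7, h4, h5, h6]
    have h8 : F.x (sm true l a) * F.d c1 s1 = F.t (l * a ^ 2) 0 c1 s1 := F.xd_eq_t _ _ _
    have h9 : F.y (sm true m b) * F.d c2 s2 = F.t 0 (m * b ^ 2) c2 s2 := F.yd_eq_t _ _ _
    rw [h8, h9, F.d_eq_t, F.t_mul, F.t_mul, add_zero, zero_add, add_zero, add_zero]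
    exact ⟨_, _, rfl⟩
  -- the involution condition
  obtain ⟨c1, s1, h4⟩ := hT a b c s
  have h5 : e * F.t a b c s * (e * F.t a b c s) = (e * F.t a b c s * e) * F.t a b c s := by group
  rw [h5, h4, F.t_mul, ← F.t_zero] at h3
  obtain ⟨h6, h7, -, -⟩ := F.t_inj h3
  have k1 : ∀ l p : F4, l ≠ 0 → l * p ^ 2 + p = 0 → ∃ c, l * c ^ 2 + c = p := by decide
  obtain ⟨a', ha'⟩ := k1 l a hl h6
  obtain ⟨b', hb'⟩ := k1 m b hm h7
  -- first approximation
  obtain ⟨c2, s2, h8⟩ := hT a' b' 0 0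
  have h9 : ∃ c3 s3, e * F.t a' b' 0 0 * e * (F.t a' b' 0 0)⁻¹ = F.t a b c3 s3 := by
    rw [h8, F.t_inv, F.t_mul, ha', hb']
    exact ⟨_, _, rfl⟩
  obtain ⟨c3, s3, h10⟩ := h9
  set u := F.t a' b' 0 0 with hu
  have hu0 : u ∈ F.T0 := ⟨_, _, _, _, rfl⟩
  have h11 : u * e * u⁻¹ = e * F.t a b c3 s3 := by
    rw [← h10]
    calc u * e * u⁻¹ = 1 * u * e * u⁻¹ := by group
      _ = (e * e) * u * e * u⁻¹ := by rw [h2]
      _ = _ := by group
  -- the error
  set w := u * e * u⁻¹ with hw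
  have hww : w * w = 1 := by
    calc w * w = u * (e * e) * u⁻¹ := by rw [hw]; group
      _ = 1 := by rw [h2]; group
  have h12 : e * F.t a b c s = w * F.d (c + c3) (s + s3) := by
    rw [h11, mul_assoc, F.d_eq_t, F.t_mul]
    have e1 : c3 + (c + c3) + 0 * b = c := by
      have := Frm.f4_add_self c3; linear_combination this
    have e2 : s3 + (s + s3) + 0 * b ^ 2 = s := by
      have := Frm.f4_add_self s3; linear_combination this
    rw [e1, e2, add_zero, add_zero]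
  have hd : ∀ c s, w * F.d c s * w = e * F.d c s * e := by
    intro c s
    have h13 : u⁻¹ * F.d c s * u = F.d c s := by
      have := T0.D0_comm F (F.mem_D0.2 ⟨c, s, rfl⟩) (F.T0.inv_mem hu0)
      rw [← this]; group
    have h13' : ∀ c s, u * F.d c s * u⁻¹ = F.d c s := by
      intro c s
      have := T0.D0_comm F (F.mem_D0.2 ⟨c, s, rfl⟩) hu0
      rw [← this]; group
    have h14 : ∃ c' s', e * F.d c s * e = F.d c' s' := by
      have := act_d F hA c s
      rw [hei] at this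
      exact ⟨_, _, this⟩
    obtain ⟨c', s', h14⟩ := h14
    have hwi : w = u * e * u⁻¹ := hw
    calc w * F.d c s * w = u * e * (u⁻¹ * F.d c s * u) * e * u⁻¹ := by rw [hwi]; group
      _ = u * (e * F.d c s * e) * u⁻¹ := by rw [h13]; group
      _ = F.d c' s' := by rw [h14, h13']
      _ = _ := h14.symm
  have h15 : e * F.d (c + c3) (s + s3) * e = F.d (c + c3) (s + s3) := by
    have h16 : (e * F.t a b c s) * (e * F.t a b c s) = 1 := by rw [h5, h4, F.t_mul, h3, F.t_zero]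
    rw [h12] at h16
    have h17 : w * F.d (c + c3) (s + s3) * (w * F.d (c + c3) (s + s3)) =
        (w * F.d (c + c3) (s + s3) * w) * F.d (c + c3) (s + s3) := by group
    rw [h17, hd] at h16
    rw [eq_inv_of_mul_eq_one_left h16, F.d_inv]
  have h18 := act_d F hA (c + c3) (s + s3)
  rw [hei, h15] at h18
  obtain ⟨h19, h20⟩ := T0.d_inj F h18
  have k3 : ∀ l p : F4, l ≠ 0 → p = l * p ^ 2 → ∃ c, l * c ^ 2 + c = p := by decide
  obtain ⟨c4, hc4⟩ := k3 (l * m) _ (mul_ne_zero hl hm) h19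
  obtain ⟨s4, hs4⟩ := k3 (l * m ^ 2) _ (mul_ne_zero hl (pow_ne_zero _ hm)) h20
  refine ⟨u * F.d c4 s4, F.T0.mul_mem hu0 (T0.D0_le F (F.mem_D0.2 ⟨_, _, rfl⟩)), ?_⟩
  have h21 : F.d c4 s4 * e = e * F.d (c + c3) (s + s3) * F.d c4 s4 := by
    have h22 := act_d F hA c4 s4
    rw [hei] at h22
    simp only [dact] at h22
    have h23 : F.d c4 s4 * e = e * (e * F.d c4 s4 * e) := by
      calc F.d c4 s4 * e = 1 * F.d c4 s4 * e := by group
        _ = (e * e) * F.d c4 s4 * e := by rw [h2]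
        _ = _ := by group
    rw [h23, h22, mul_assoc e, ← F.d_add, ← hc4, ← hs4]
    congr 2
    · have := Frm.f4_add_self c4; linear_combination -this
    · have := Frm.f4_add_self s4; linear_combination -this
  have h24 : ∀ c s, u * F.d c s * u⁻¹ = F.d c s := by
    intro c s
    have := T0.D0_comm F (F.mem_D0.2 ⟨c, s, rfl⟩) hu0
    rw [← this]; group
  calc u * F.d c4 s4 * e * (u * F.d c4 s4)⁻¹ = u * (F.d c4 s4 * e) * (F.d c4 s4)⁻¹ * u⁻¹ := by group
    _ = u * e * F.d (c + c3) (s + s3) * u⁻¹ := by rw [h21]; group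
    _ = (u * e * u⁻¹) * (u * F.d (c + c3) (s + s3) * u⁻¹) := by group
    _ = _ := by rw [h24, ← hw, ← h12]

end tt

theorem actsS_unique {g : G} {e e' e1 e1' : Bool} {l m l1 m1 : F4} (h : ActsS F g e e' l m)
    (h1 : ActsS F g e1 e1' l1 m1) (hl : l ≠ 0) (hm : m ≠ 0) :
    e = e1 ∧ e' = e1' ∧ l = l1 ∧ m = m1 := by
  have h2 : ∀ a, sm e l a = sm e1 l1 a := by
    intro a
    obtain ⟨c, s, h3⟩ := h.1 a
    obtain ⟨c', s', h4⟩ := h1.1 a
    rw [h3, F.yd_eq_t, F.yd_eq_t] at h4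
    exact (F.t_inj h4).2.1
  have h3 : ∀ a, sm e' m a = sm e1' m1 a := by
    intro a
    obtain ⟨c, s, h3⟩ := h.2 a
    obtain ⟨c', s', h4⟩ := h1.2 a
    rw [h3, F.xd_eq_t, F.xd_eq_t] at h4
    exact (F.t_inj h4).1
  obtain ⟨r1, r2⟩ := sm_inj _ _ _ _ hl h2
  obtain ⟨r3, r4⟩ := sm_inj _ _ _ _ hm h3
  exact ⟨r1, r3, r2, r4⟩

theorem NE_mul {a b : G} (ha : NE F a) (hb : NE F b) : NE F (a * b) := by
  have e : ∀ x, a * b * x * (a * b)⁻¹ = a * (b * x * b⁻¹) * a⁻¹ := by intro x; group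
  exact ⟨fun x => by rw [e, ← ha.1, ← hb.1], fun x => by rw [e, ← ha.2, ← hb.2]⟩

theorem NE_inv {a : G} (ha : NE F a) : NE F a⁻¹ := by
  have e : ∀ x, a * (a⁻¹ * x * a⁻¹⁻¹) * a⁻¹ = x := by intro x; group
  exact ⟨fun x => by rw [ha.1 (a⁻¹ * x * a⁻¹⁻¹), e], fun x => by rw [ha.2 (a⁻¹ * x * a⁻¹⁻¹), e]⟩

/-- conjugates of `E1`-fixing elements fix `E1` -/
theorem NE_conj {q e : G} (hq : NT F q) (he : NE F e) (heT : NT F e) : NE F (q * e * q⁻¹) := by
  by_cases h : NE F q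
  · exact NE_mul (NE_mul h he) (NE_inv h)
  · have h2 : ¬ NE F (q * e) := fun h3 => h (by
      have : q = q * e * e⁻¹ := by group
      rw [this]; exact NE_mul h3 (NE_inv he))
    have h3 : ¬ NE F q⁻¹ := fun h3 => h (by
      have := NE_inv h3
      rwa [inv_inv] at this)
    exact NE_mul_of_swap (hq.mul heT) hq.inv h2 h3

theorem NE_of_T0 {t : G} (ht : t ∈ F.T0) : NE F t := by
  rcases E_cases F (NT.of_mem ht) with h | h
  · exact h
  · exfalso
    obtain ⟨e, e', l, m, hl, hm, hS⟩ := exists_actsS F (NT.of_mem ht) h.1 h.2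
    obtain ⟨c1, s1, h4⟩ := hS.1 1
    obtain ⟨c2, s2, h5⟩ := (acts_T0 F ht).1 1
    rw [h4, F.yd_eq_t, F.xd_eq_t] at h5
    exact one_ne_zero (α := F4) (by rw [← sm_false_one 1, ← (F.t_inj h5).1])

/-- elements of a `2`-group inside `N(T0)` of type `(true, true)`: conjugates are congruent -/
theorem conj_cong_tt (H : Sit F) {T : Subgroup G} (hT : IsPGroup 2 T) (hTN : ∀ x ∈ T, NT F x)
    {q e : G} (hq : q ∈ T) (he : e ∈ T) {l m : F4} (hl : l ≠ 0) (hm : m ≠ 0)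
    (hA : Acts F e true true l m) (hqE : ¬ NE F q) : e⁻¹ * (q * e * q⁻¹) ∈ F.T0 := by
  have heE : NE F e := by
    rcases E_cases F (hTN e he) with h | h
    · exact h
    · exfalso
      obtain ⟨e', e'', l', m', hl', hm', hS⟩ := exists_actsS F (hTN e he) h.1 h.2
      obtain ⟨c1, s1, h4⟩ := hS.1 1
      obtain ⟨c2, s2, h5⟩ := hA.1 1
      rw [h4, F.yd_eq_t, F.xd_eq_t] at h5
      exact sm_ne_zero true l 1 hl one_ne_zero (F.t_inj h5).1.symm
  set x := q * e * q⁻¹ with hx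
  have hxT : x ∈ T := T.mul_mem (T.mul_mem hq he) (T.inv_mem hq)
  have hxE : NE F x := NE_conj (hTN q hq) heE (hTN e he)
  obtain ⟨f, f', l1, m1, hl1, hm1, hX⟩ := exists_acts F (hTN x hxT) hxE.1 hxE.2
  have h1 := (E_cases F (hTN q hq)).resolve_left hqE
  obtain ⟨e1, e1', l2, m2, hl2, hm2, hQ⟩ := exists_actsS F (hTN q hq) h1.1 h1.2
  have h2 := actsS_mul F hQ hA
  have h3 := acts_mulS F hX hQ
  have h4 : x * q = q * e := by rw [hx]; group
  rw [h4] at h3
  obtain ⟨h5, h6, -, -⟩ := actsS_unique h2 h3 (sm_ne_zero _ _ _ hl2 hl) (sm_ne_zero _ _ _ hm2 hm)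
  have h7 : f' = true := by revert h5; cases e1 <;> cases f' <;> simp
  have h8 : f = true := by revert h6; cases e1' <;> cases f <;> simp
  subst h7 h8
  have hei : ∀ l m : F4, l ≠ 0 → ∃ l', l' ≠ 0 ∧ sm true l' l = 1 := by decide
  -- `e⁻¹` has type `(true, true)`
  have hy : e⁻¹ * x ∈ T := T.mul_mem (T.inv_mem he) hxT
  have hyE : NE F (e⁻¹ * x) := NE_mul (NE_inv heE) hxE
  obtain ⟨g, g', l3, m3, hl3, hm3, hY⟩ := exists_acts F (hTN _ hy) hyE.1 hyE.2
  have h9 := acts_mul F hA hY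
  have h10 : e * (e⁻¹ * x) = x := by group
  rw [h10] at h9
  obtain ⟨h11, h12, -, -⟩ := acts_unique F h9 hX (sm_ne_zero _ _ _ hl hl3) (sm_ne_zero _ _ _ hm hm3)
  have h13 : g = false := by revert h11; cases g <;> simp
  have h14 : g' = false := by revert h12; cases g' <;> simp
  subst h13 h14
  obtain ⟨n, hn⟩ := hT ⟨_, hy⟩
  exact mem_T0_of_linear H hY hl3 hm3 (congrArg Subtype.val hn)

/-- **hypothesis `hbig` of `no_swap`** -/
theorem big [Finite G] (H : Sit F) {T : Subgroup G} (hT : IsPGroup 2 T) (hTN : ∀ x ∈ T, NT F x)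
    (hT0 : F.T0 ≤ T) {q : G} (hq : q ∈ T) (hqE : ¬ NE F q) {e : G} (he : e ∈ T) (heE : NE F e)
    (h2 : e * e = 1) : 64 ≤ Nat.card (T ⊓ Subgroup.centralizer {e} : Subgroup G) := by
  classical
  have hmem : ∀ x, x ∈ Subgroup.centralizer ({e} : Set G) ↔ x * e = e * x := fun x =>
    Subgroup.mem_centralizer_singleton_iff
  obtain ⟨ε, ε', l, m, hl, hm, hA⟩ := exists_acts F (hTN e he) heE.1 heE.2
  obtain ⟨h3, h4⟩ := type_of_inv hA hl hm h2
  have hcard4 : Nat.card (F4 × F4) = 16 := by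
    rw [Nat.card_eq_fintype_card]; rfl
  by_cases heT : e ∈ F.T0
  · rcases T0.mem_E1_or_E2 F heT h2 with h | h
    · rw [← T0.card_E1 F]
      apply Subgroup.card_le_of_le
      intro x hx
      exact ⟨hT0 (T0.E1_le F hx), (hmem x).2 (T0.E1_comm F hx h)⟩
    · rw [← T0.card_E2 F]
      apply Subgroup.card_le_of_le
      intro x hx
      exact ⟨hT0 (T0.E2_le F hx), (hmem x).2 (T0.E2_comm F hx h)⟩
  · cases ε <;> cases ε'
    · exact absurd (mem_T0_of_linear (n := 1) H hA hl hm (by rw [pow_one, pow_two]; exact h2)) heT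
    · -- type (false, true)
      have hl1 := h3 rfl
      subst hl1
      obtain ⟨h5, b, c, hb, h6⟩ := comm_ft hm hA h2
      choose p hp using h5
      have c1 : 16 ≤ Nat.card (F.E1 ⊓ Subgroup.centralizer {e} : Subgroup G) := by
        rw [← hcard4]
        apply Nat.card_le_card_of_injective (fun x : F4 × F4 =>
          (⟨F.t x.1 0 (p x.1 + m * x.2) x.2, ⟨⟨_, _, _, rfl⟩, (hmem _).2 (hp x.1 x.2).symm⟩⟩ :
            (F.E1 ⊓ Subgroup.centralizer {e} : Subgroup G)))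
        rintro ⟨a, s⟩ ⟨a', s'⟩ h
        obtain ⟨h7, -, -, h8⟩ := F.t_inj (congrArg Subtype.val h)
        exact Prod.ext h7 h8
      have c2 := two_mul_card_le (A := F.E1 ⊓ Subgroup.centralizer {e})
        (B := F.T0 ⊓ Subgroup.centralizer {e}) (inf_le_inf_right _ (T0.E1_le F))
        (b := F.t 0 b c 0) ⟨⟨_, _, _, _, rfl⟩, (hmem _).2 h6.symm⟩ (by
          rintro ⟨⟨a', c', s', h7⟩, -⟩
          exact hb (F.t_inj h7).2.1)
      have c3 := two_mul_card_le (A := F.T0 ⊓ Subgroup.centralizer {e})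
        (B := T ⊓ Subgroup.centralizer {e}) (inf_le_inf_right _ hT0)
        (b := e) ⟨he, (hmem _).2 rfl⟩ (fun h => heT h.1)
      omega
    · -- type (true, false)
      have hl1 := h4 rfl
      subst hl1
      obtain ⟨h5, a, c, ha, h6⟩ := comm_tf hl hA h2
      choose p hp using h5
      have c1 : 16 ≤ Nat.card (F.E2 ⊓ Subgroup.centralizer {e} : Subgroup G) := by
        rw [← hcard4]
        apply Nat.card_le_card_of_injective (fun x : F4 × F4 =>
          (⟨F.t 0 x.1 (p x.1 + l * x.2 ^ 2) x.2, ⟨⟨_, _, _, rfl⟩, (hmem _).2 (hp x.1 x.2).symm⟩⟩ :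
            (F.E2 ⊓ Subgroup.centralizer {e} : Subgroup G)))
        rintro ⟨a, s⟩ ⟨a', s'⟩ h
        obtain ⟨-, h7, -, h8⟩ := F.t_inj (congrArg Subtype.val h)
        exact Prod.ext h7 h8
      have c2 := two_mul_card_le (A := F.E2 ⊓ Subgroup.centralizer {e})
        (B := F.T0 ⊓ Subgroup.centralizer {e}) (inf_le_inf_right _ (T0.E2_le F))
        (b := F.t a 0 c 0) ⟨⟨_, _, _, _, rfl⟩, (hmem _).2 h6.symm⟩ (by
          rintro ⟨⟨a', c', s', h7⟩, -⟩
          exact ha (F.t_inj h7).1)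
      have c3 := two_mul_card_le (A := F.T0 ⊓ Subgroup.centralizer {e})
        (B := T ⊓ Subgroup.centralizer {e}) (inf_le_inf_right _ hT0)
        (b := e) ⟨he, (hmem _).2 rfl⟩ (fun h => heT h.1)
      omega
    · -- type (true, true)
      obtain ⟨⟨c0, s0, hc0, hs0, h5, h6⟩, ⟨a, c, s, ha, h7⟩, ⟨b, c', s', hb, h8⟩⟩ :=
        comm_tt hl hm hA h2
      have c0' : 2 ≤ Nat.card (F.V ⊓ Subgroup.centralizer {e} : Subgroup G) := by
        have := two_mul_card_le (A := (⊥ : Subgroup G))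
          (B := F.V ⊓ Subgroup.centralizer {e}) bot_le
          (b := F.d 0 s0) ⟨⟨_, rfl⟩, (hmem _).2 h6.symm⟩ (by
            intro h9
            rw [Subgroup.mem_bot, ← F.d_zero] at h9
            exact hs0 (T0.d_inj F h9).2)
        simpa using this
      have c1 := two_mul_card_le (A := F.V ⊓ Subgroup.centralizer {e})
          (B := F.D0 ⊓ Subgroup.centralizer {e}) (inf_le_inf_right _ (T0.V_le_D0 F))
          (b := F.d c0 0) ⟨⟨_, _, rfl⟩, (hmem _).2 h5.symm⟩ (by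
            rintro ⟨⟨s, h9⟩, -⟩
            exact hc0 (T0.d_inj F h9).1)
      have c2 := two_mul_card_le (A := F.D0 ⊓ Subgroup.centralizer {e})
          (B := F.E1 ⊓ Subgroup.centralizer {e}) (inf_le_inf_right _ (T0.D0_le_E1 F))
          (b := F.t a 0 c s) ⟨⟨_, _, _, rfl⟩, (hmem _).2 h7.symm⟩ (by
            rintro ⟨⟨c1, s1, h9⟩, -⟩
            rw [F.d_eq_t] at h9
            exact ha (F.t_inj h9).1)
      have c3 := two_mul_card_le (A := F.E1 ⊓ Subgroup.centralizer {e})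
          (B := F.T0 ⊓ Subgroup.centralizer {e}) (inf_le_inf_right _ (T0.E1_le F))
          (b := F.t 0 b c' s') ⟨⟨_, _, _, _, rfl⟩, (hmem _).2 h8.symm⟩ (by
            rintro ⟨⟨a1, c1, s1, h9⟩, -⟩
            exact hb (F.t_inj h9).2.1)
      have c4 := two_mul_card_le (A := F.T0 ⊓ Subgroup.centralizer {e})
          (B := plus F T hTN ⊓ Subgroup.centralizer {e})
          (inf_le_inf_right _ (fun x hx => ⟨hT0 hx, NE_of_T0 hx⟩))
          (b := e) ⟨⟨he, heE⟩, (hmem _).2 rfl⟩ (fun h => heT h.1)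
      -- an element outside
      have h9 := conj_cong_tt H hT hTN hq he hl hm hA hqE
      have h10 : e * (e⁻¹ * (q * e * q⁻¹)) = q * e * q⁻¹ := by group
      obtain ⟨u, hu, h11⟩ := trans_tt hl hm hA h2 h9 (by
        rw [h10]
        calc q * e * q⁻¹ * (q * e * q⁻¹) = q * (e * e) * q⁻¹ := by group
          _ = 1 := by rw [h2]; group)
      rw [h10] at h11
      have h12 : u⁻¹ * q * e = e * (u⁻¹ * q) := by
        calc u⁻¹ * q * e = u⁻¹ * (q * e * q⁻¹) * q := by group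
          _ = u⁻¹ * (u * e * u⁻¹) * q := by rw [h11]
          _ = _ := by group
      have c5 := two_mul_card_le (A := plus F T hTN ⊓ Subgroup.centralizer {e})
          (B := T ⊓ Subgroup.centralizer {e})
          (inf_le_inf_right _ (fun x hx => hx.1))
          (b := u⁻¹ * q) ⟨T.mul_mem (T.inv_mem (hT0 hu)) hq, (hmem _).2 h12⟩ (by
            rintro ⟨⟨-, h13⟩, -⟩
            apply hqE
            have h14 : q = u * (u⁻¹ * q) := by group
            rw [h14]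
            exact NE_mul (NE_of_T0 hu) h13)
      omega

end Cfsg.Agent.StandardComponent.HeldType.Big
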