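import Mathlib
import Cfsg.Agent.StandardComponent.HeldType.Ctx

/-!
Involutions normalising `T0`, `E1` and `E2` are conjugate into `T0`.
-/

set_option autoImplicit false

namespace Cfsg.Agent.StandardComponent.HeldType.InvConj

open Cfsg.Agent.Lib.FieldFour Cfsg.Agent.StandardComponent.HeldType.Frame
  Cfsg.Agent.StandardComponent.HeldType.Act Cfsg.Agent.StandardComponent.HeldType.ActType
  Cfsg.Agent.StandardComponent.HeldType.Basic Cfsg.Agent.StandardComponent.HeldType.Ctx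

variable {G : Type*} [Group G] {L : Subgroup G} {F : Frm L}

/-- `g` normalises `E1` -/
def N1 (F : Frm L) (g : G) : Prop := ∀ x, x ∈ F.E1 ↔ g * x * g⁻¹ ∈ F.E1

/-- conjugates of `V` under elements normalising `E1` are among the six lines of `E1` -/
def L0 (F : Frm L) : Prop := ∀ g, N1 F g →
  (∀ s, ∃ s', g * F.d 0 s * g⁻¹ = F.d 0 s') ∨ (∀ s, ∃ c, g * F.d 0 s * g⁻¹ = F.d c 0) ∨
    ∃ b, ∀ s, ∃ a, g * F.d 0 s * g⁻¹ = F.x a * F.d (a * b) (a * b ^ 2)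

/-- some element of `N(T0)` fixes `E1` and interchanges `V` and `U` -/
def A1 (F : Frm L) : Prop := ∃ f, NT F f ∧ NE F f ∧
  (∀ s, ∃ c, f * F.d 0 s * f⁻¹ = F.d c 0) ∧ (∀ c, ∃ s, f * F.d c 0 * f⁻¹ = F.d 0 s)

theorem N1.mul {g g' : G} (h : N1 F g) (h' : N1 F g') : N1 F (g * g') := fun x => by
  rw [h' x, h (g' * x * g'⁻¹)]
  have : g * (g' * x * g'⁻¹) * g⁻¹ = g * g' * x * (g * g')⁻¹ := by group
  rw [this]

theorem N1.of_maps {g : G} (h : ∀ a c s, g * F.t a 0 c s * g⁻¹ ∈ F.E1)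
    (h' : ∀ a c s, g⁻¹ * F.t a 0 c s * g ∈ F.E1) : N1 F g := fun x => by
  constructor
  · rintro ⟨a, c, s, rfl⟩
    exact h a c s
  · rintro ⟨a, c, s, h1⟩
    have h2 := h' a c s
    rw [← h1] at h2
    have : g⁻¹ * (g * x * g⁻¹) * g = x := by group
    rwa [this] at h2

theorem N1.of_T0 {g : G} (hg : g ∈ F.T0) : N1 F g := by
  have key : ∀ g, g ∈ F.T0 → ∀ a c s, g * F.t a 0 c s * g⁻¹ ∈ F.E1 := by
    rintro _ ⟨a0, b0, c0, s0, rfl⟩ a c s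
    rw [F.t_conj]
    exact ⟨_, _, _, rfl⟩
  refine N1.of_maps (key g hg) fun a c s => ?_
  have := key g⁻¹ (F.T0.inv_mem hg) a c s
  rwa [inv_inv] at this

theorem n1_inv_xd (a c s : F4) : F.n1⁻¹ * F.t a 0 c s * F.n1 = F.t c 0 a s := by
  rw [← F.n1_xd c a s]; group

theorem N1.n1 : N1 F F.n1 := N1.of_maps (fun a c s => by rw [F.n1_xd]; exact ⟨_, _, _, rfl⟩)
  (fun a c s => by rw [n1_inv_xd]; exact ⟨_, _, _, rfl⟩)

theorem N1.inv {g : G} (h : N1 F g) : N1 F g⁻¹ := fun x => by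
  rw [h (g⁻¹ * x * g⁻¹⁻¹)]
  have : g * (g⁻¹ * x * g⁻¹⁻¹) * g⁻¹ = x := by group
  rw [this]

theorem t0_eq_d (c s : F4) : F.t 0 0 c s = F.d c s := (F.d_eq_t c s).symm

/-- `y b` on `E1` -/
theorem y_conj (b a c s : F4) :
    F.y b * F.t a 0 c s * (F.y b)⁻¹ = F.t a 0 (c + a * b) (s + a * b ^ 2) := by
  rw [F.y_eq_t, F.t_conj]
  simp

/-- Case distinction for the image of `V`. -/
theorem L0.line (h0 : L0 F) {g : G} (hg : N1 F g) {s0 a0 c0 s0' : F4} (ha : a0 ≠ 0)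
    (h : g * F.d 0 s0 * g⁻¹ = F.t a0 0 c0 s0') :
    ∃ b, ∀ s, ∃ a, g * F.d 0 s * g⁻¹ = F.t a 0 (a * b) (a * b ^ 2) := by
  rcases h0 g hg with h1 | h1 | h1
  · exfalso
    obtain ⟨s', hs'⟩ := h1 s0
    rw [hs', F.d_eq_t] at h
    exact ha (F.t_inj h).1.symm
  · exfalso
    obtain ⟨s', hs'⟩ := h1 s0
    rw [hs', F.d_eq_t] at h
    exact ha (F.t_inj h).1.symm
  · obtain ⟨b, hb⟩ := h1
    refine ⟨b, fun s => ?_⟩
    obtain ⟨a, ha⟩ := hb s
    exact ⟨a, by rw [ha, F.xd_eq_t]⟩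

section

variable (H : Sit F)
include H

/-- A `2`-element centralising `D0` lies in `T0`: the action. -/
theorem NT_of_cent_D0 {z : G} (hz : ∀ c s, z * F.d c s = F.d c s * z) :
    NT F z ∧ ∃ l m, Acts F z false false l m ∧ l = 1 ∧ m = 1 := by
  have hn : Nrm L z := H.nrm_of_comm_d one_ne_zero (hz 0 1)
  have key : ∀ z : G, (∀ c s, z * F.d c s = F.d c s * z) → Nrm L z → ∀ x ∈ F.T0,
      z * x * z⁻¹ ∈ F.T0 := by
    intro z hz hn x hx
    have h1 : z * x * z⁻¹ ∈ L := (hn x).1 (T0.T0_le F hx)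
    have h2 : x * F.d 1 0 = F.d 1 0 * x := (T0.D0_comm F ⟨1, 0, rfl⟩ hx).symm
    have h3 : z * x * z⁻¹ * F.d 1 0 = F.d 1 0 * (z * x * z⁻¹) := by
      have h4 : z⁻¹ * F.d 1 0 = F.d 1 0 * z⁻¹ := by
        rw [inv_mul_eq_iff_eq_mul, ← mul_assoc, hz, mul_inv_cancel_right]
      calc z * x * z⁻¹ * F.d 1 0 = z * x * (z⁻¹ * F.d 1 0) := by group
        _ = z * (x * F.d 1 0) * z⁻¹ := by rw [h4]; group
        _ = (z * F.d 1 0) * x * z⁻¹ := by rw [h2]; group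
        _ = _ := by rw [hz]; group
    obtain ⟨a, b, c', s', h4⟩ := F.cent_d 1 0 one_ne_zero _ h1 h3
    exact ⟨a, b, c', s', h4⟩
  have hz' : ∀ c s, z⁻¹ * F.d c s = F.d c s * z⁻¹ := by
    intro c s
    rw [inv_mul_eq_iff_eq_mul, ← mul_assoc, hz, mul_inv_cancel_right]
  have hT : NT F z := fun x => ⟨key z hz hn x, fun h => by
    have h1 := key z⁻¹ hz' hn.inv _ h
    have : z⁻¹ * (z * x * z⁻¹) * z⁻¹⁻¹ = x := by group
    rwa [this] at h1⟩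
  refine ⟨hT, ?_⟩
  have hd : ∀ c s, z * F.d c s * z⁻¹ = F.d c s := fun c s => by
    rw [hz, mul_inv_cancel_right]
  rcases act_cases F hT with ⟨e, e', l, m, hl, hm, h⟩ | ⟨e, e', l, m, hl, hm, h⟩
  · have h3 : ∀ c s, dact e e' l m c s = (c, s) := by
      intro c s
      have h4 := act_d F h c s
      rw [hd] at h4
      obtain ⟨h5, h6⟩ := T0.d_inj F h4
      exact (Prod.ext h5 h6).symm
    have key2 : ∀ (e e' : Bool) (l m : F4), l ≠ 0 → m ≠ 0 → (∀ c s, dact e e' l m c s = (c, s)) →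
        e = false ∧ e' = false ∧ l = 1 ∧ m = 1 := by decide
    obtain ⟨rfl, rfl, rfl, rfl⟩ := key2 e e' l m hl hm h3
    exact ⟨1, 1, h, rfl, rfl⟩
  · exfalso
    have h3 : ∀ c s, dactS e e' l m c s = (c, s) := by
      intro c s
      have h4 := actS_d F h c s
      rw [hd] at h4
      obtain ⟨h5, h6⟩ := T0.d_inj F h4
      exact (Prod.ext h5 h6).symm
    have key2 : ∀ (e e' : Bool) (l m : F4), l ≠ 0 → m ≠ 0 → (∀ c s, dactS e e' l m c s = (c, s)) →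
        False := by decide
    exact key2 e e' l m hl hm h3

/-- An element centralising `D0` is the product of an element of `T0` and an element of `C(L)`. -/
theorem decomp_of_cent_D0 {z : G} (hz : ∀ c s, z * F.d c s = F.d c s * z) :
    ∃ t ∈ F.T0, ∃ k, Cen L k ∧ z = t * k := by
  obtain ⟨-, l, m, h, rfl, rfl⟩ := NT_of_cent_D0 H hz
  exact H.kernel h

/-- `2`-elements centralising `D0` lie in `T0`. -/
theorem mem_T0_of_cent_D0 {z : G} (hz : ∀ c s, z * F.d c s = F.d c s * z) {n : ℕ}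
    (hn : z ^ 2 ^ n = 1) : z ∈ F.T0 := by
  obtain ⟨-, l, m, h, rfl, rfl⟩ := NT_of_cent_D0 H hz
  exact H.mem_T0_of_acts h hn

omit H in
/-- involutions of `L` are conjugate into `T0` -/
theorem conj_of_mem_L [Finite G] {e : G} (he : e ∈ L) (h2 : e * e = 1) :
    ∃ g, g * e * g⁻¹ ∈ F.T0 := by
  by_cases hz : e ∈ Z L
  · obtain ⟨s, rfl⟩ := (mem_Z_iff F).1 hz
    exact ⟨1, by simpa using d_mem_T0 F 0 s⟩
  · obtain ⟨F', c, s, -, rfl⟩ := exists_frame_of_involution F he h2 hz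
    obtain ⟨l, -, hl⟩ := exists_conj_T0 F' F
    exact ⟨l, (hl _).1 (d_mem_T0 F' c s)⟩

/-- An involution acting on `E1` as an element of `L` lies in `L`. -/
theorem mem_L_of_action {e l : G} (he : e * e = 1) (hl : l ∈ L)
    (h : ∀ a c s, e * F.t a 0 c s * e⁻¹ = l * F.t a 0 c s * l⁻¹) : e ∈ L := by
  have hz : ∀ c s, (l⁻¹ * e) * F.d c s = F.d c s * (l⁻¹ * e) := by
    intro c s
    have h1 := h 0 c s
    rw [t0_eq_d] at h1
    calc l⁻¹ * e * F.d c s = l⁻¹ * (e * F.d c s * e⁻¹) * e := by group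
      _ = _ := by rw [h1]; group
  obtain ⟨t, ht, k, hk, hk2⟩ := decomp_of_cent_D0 H hz
  have he' : e = l * t * k := by
    calc e = l * (l⁻¹ * e) := by group
      _ = _ := by rw [hk2]; group
  have hlt : l * t ∈ L := L.mul_mem hl (T0.T0_le F ht)
  have hc : k * (l * t) = (l * t) * k := hk _ hlt
  have hkk : (l * t) * (l * t) * (k * k) = 1 := by
    rw [he'] at he
    calc (l * t) * (l * t) * (k * k) = (l * t) * ((l * t) * k) * k := by group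
      _ = (l * t) * (k * (l * t)) * k := by rw [hc]
      _ = (l * t * k) * (l * t * k) := by group
      _ = 1 := he
  have hkL : k * k ∈ L := by
    have h1 : k * k = ((l * t) * (l * t))⁻¹ := (inv_eq_of_mul_eq_one_right hkk).symm
    rw [h1]
    exact L.inv_mem (L.mul_mem hlt hlt)
  have hkc : Cen L (k * k) := hk.mul hk
  obtain ⟨s, hs⟩ := F.cen _ hkL hkc
  have hk4 : k ^ (2 ^ 2) = 1 := by
    have : k ^ (2 ^ 2) = (k * k) * (k * k) := by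
      simp only [show (2 : ℕ) ^ 2 = 4 from rfl, pow_succ, pow_zero, one_mul, mul_assoc]
    rw [this, hs, F.d_mul_self]
  have hkV := H.cenK k hk ⟨2, hk4⟩
  rw [he']
  exact L.mul_mem hlt (T0.T0_le F (T0.V_le F hkV))

/-- Type `(false, true)`. -/
theorem conj_false_true [Finite G] (h0 : L0 F) {e : G} (_hT : NT F e) (hE : NE F e) (h2 : e * e = 1)
    {l m : F4} (hl : l ≠ 0) (hm : m ≠ 0) (hA : Acts F e false true l m) :
    ∃ g, g * e * g⁻¹ ∈ F.T0 := by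
  have hee : Acts F (e * e) false false 1 1 := by rw [h2]; exact acts_one F
  obtain ⟨-, -, h3, -⟩ := acts_unique F (acts_mul F hA hA) hee
    (sm_ne_zero _ _ _ hl hl) (sm_ne_zero _ _ _ hm hm)
  have hl1 : l = 1 := by
    have key : ∀ l : F4, sm false l l = 1 → l = 1 := by decide
    exact key _ h3
  subst hl1
  have hd : ∀ c s, e * F.d c s * e⁻¹ = F.d (m * s) (m ^ 2 * c) := by
    intro c s
    rw [act_d F hA]
    simp only [dact, one_mul]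
  -- the cocycle
  have hline : ∃ b, ∀ a, e * F.x a * e⁻¹ = F.t a 0 (a * b) (a * b ^ 2) := by
    have hN : N1 F (e * F.n1 * e) := (N1.mul hE.1 N1.n1).mul hE.1
    have h4 : ∀ s, (e * F.n1 * e) * F.d 0 s * (e * F.n1 * e)⁻¹ = e * F.x (m * s) * e⁻¹ := by
      intro s
      have h5 := hd 0 s
      rw [mul_zero] at h5
      have h6 := F.n1_d (m * s) 0
      rw [F.d_zero, mul_one] at h6
      calc (e * F.n1 * e) * F.d 0 s * (e * F.n1 * e)⁻¹
          = e * (F.n1 * (e * F.d 0 s * e⁻¹) * F.n1⁻¹) * e⁻¹ := by group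
        _ = _ := by rw [h5, h6]
    obtain ⟨c, s, h5⟩ := hA.1 (m * 1)
    obtain ⟨b, hb⟩ := h0.line hN (s0 := 1) (a0 := m * 1) (by rw [mul_one]; exact hm) (by
      rw [h4, h5, sm_false_one, F.xd_eq_t])
    refine ⟨b, fun a => ?_⟩
    obtain ⟨a', ha'⟩ := hb (m⁻¹ * a)
    rw [h4, mul_inv_cancel_left₀ hm] at ha'
    obtain ⟨c, s, h6⟩ := hA.1 a
    rw [sm_false_one, F.xd_eq_t] at h6
    have h7 : a = a' := (F.t_inj (h6.symm.trans ha')).1
    rw [ha', ← h7]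
  obtain ⟨b, hb⟩ := hline
  have het : ∀ a c s, e * F.t a 0 c s * e⁻¹ =
      F.t a 0 (a * b + m * s) (a * b ^ 2 + m ^ 2 * c) := by
    intro a c s
    have h4 : e * F.t a 0 c s * e⁻¹ = (e * F.x a * e⁻¹) * (e * F.d c s * e⁻¹) := by
      rw [← F.xd_eq_t]; group
    rw [h4, hb, hd, F.d_eq_t, F.t_mul]
    simp
  have hb2 : b = m * b ^ 2 := by
    have h4 := het 1 b (b ^ 2)
    have h5 : e * F.t 1 0 b (b ^ 2) * e⁻¹ = F.x 1 := by
      have h6 := hb 1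
      rw [one_mul, one_mul] at h6
      rw [← h6]
      have h7 : e * (e * F.x 1 * e⁻¹) * e⁻¹ = (e * e) * F.x 1 * (e * e)⁻¹ := by group
      rw [h7, h2]; group
    rw [h5, F.x_eq_t] at h4
    have h6 := (F.t_inj h4).2.2.1
    have key : ∀ m b : F4, 0 = 1 * b + m * b ^ 2 → b = m * b ^ 2 := by decide
    exact key _ _ h6
  obtain ⟨b0, hb0⟩ : ∃ b0, b0 + b + m * b0 ^ 2 = 0 := by
    have key : ∀ m b : F4, m ≠ 0 → b = m * b ^ 2 → ∃ b0, b0 + b + m * b0 ^ 2 = 0 := by decide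
    exact key m b hm hb2
  -- make the cocycle trivial
  set e1 := F.y b0 * e * (F.y b0)⁻¹ with he1
  have hinv : e⁻¹ = e := inv_eq_of_mul_eq_one_left h2
  have h11 : e1 * e1 = 1 := by
    rw [he1]
    calc F.y b0 * e * (F.y b0)⁻¹ * (F.y b0 * e * (F.y b0)⁻¹) = F.y b0 * (e * e) * (F.y b0)⁻¹ := by group
      _ = 1 := by rw [h2]; group
  have he1t : ∀ a c s, e1 * F.t a 0 c s * e1⁻¹ = F.t a 0 (m * s) (m ^ 2 * c) := by
    intro a c s
    have h4 : e1 * F.t a 0 c s * e1⁻¹ =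
        F.y b0 * (e * (F.y b0 * F.t a 0 c s * (F.y b0)⁻¹) * e⁻¹) * (F.y b0)⁻¹ := by
      have h5 : F.y b0 * F.t a 0 c s * (F.y b0)⁻¹ = (F.y b0)⁻¹ * F.t a 0 c s * F.y b0 := by
        rw [F.y_inv]
      rw [h5, he1]; group
    rw [h4, y_conj, het, y_conj]
    have key : ∀ m b b0 a c s : F4, m ≠ 0 → b0 + b + m * b0 ^ 2 = 0 →
        a * b + m * (s + a * b0 ^ 2) + a * b0 = m * s ∧
        a * b ^ 2 + m ^ 2 * (c + a * b0) + a * b0 ^ 2 = m ^ 2 * c := by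
      intro m b b0 a c s hm hb
      have h7 : b = b0 + m * b0 ^ 2 := by
        have key : ∀ x y z : F4, x + y + z = 0 → y = x + z := by decide
        exact key _ _ _ hb
      subst h7
      have k1 : ∀ m b0 a c : F4, m ≠ 0 →
          a * (b0 + m * b0 ^ 2) + m * (a * b0 ^ 2) + a * b0 = 0 ∧
          a * (b0 + m * b0 ^ 2) ^ 2 + m ^ 2 * (a * b0) + a * b0 ^ 2 = 0 := by decide
      obtain ⟨k2, k3⟩ := k1 m b0 a c hm
      exact ⟨by linear_combination k2, by linear_combination k3⟩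
    obtain ⟨k1, k2⟩ := key m b b0 a c s hm hb0
    rw [k1, k2]
  -- conjugate to an element acting as `n1`
  have h12 : e1⁻¹ = e1 := inv_eq_of_mul_eq_one_left h11
  set g := e1 * F.n1 with hg
  have h13 : ∀ a c s, (g * e1 * g⁻¹) * F.t a 0 c s * (g * e1 * g⁻¹)⁻¹ =
      F.n1 * F.t a 0 c s * F.n1⁻¹ := by
    intro a c s
    have h14 : (g * e1 * g⁻¹) * F.t a 0 c s * (g * e1 * g⁻¹)⁻¹ =
        e1 * (F.n1 * (e1 * (F.n1⁻¹ * (e1 * F.t a 0 c s * e1⁻¹) * F.n1) * e1⁻¹) * F.n1⁻¹) * e1⁻¹ := by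
      conv_rhs => rw [show e1 * F.t a 0 c s * e1⁻¹ = e1⁻¹ * F.t a 0 c s * e1 by rw [h12]]
      rw [hg]; group
    rw [h14, he1t, n1_inv_xd, he1t, F.n1_xd, he1t, F.n1_xd]
    have key : ∀ m : F4, m ≠ 0 → m * m ^ 2 = 1 ∧ m ^ 2 * m = 1 := by decide
    obtain ⟨k1, k2⟩ := key m hm
    rw [← mul_assoc, ← mul_assoc, ← mul_assoc, k1, k2, one_mul, one_mul, one_mul]
  have h15 : (g * e1 * g⁻¹) * (g * e1 * g⁻¹) = 1 := by
    calc (g * e1 * g⁻¹) * (g * e1 * g⁻¹) = g * (e1 * e1) * g⁻¹ := by group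
      _ = 1 := by rw [h11]; group
  have h16 := mem_L_of_action H h15 F.n1_mem h13
  obtain ⟨g', hg'⟩ := conj_of_mem_L h16 h15
  refine ⟨g' * g * F.y b0, ?_⟩
  have : g' * g * F.y b0 * e * (g' * g * F.y b0)⁻¹ = g' * (g * e1 * g⁻¹) * g'⁻¹ := by
    rw [he1]; group
  rw [this]
  exact hg'

end

/-! ### Symmetry -/

theorem NT_swap {g : G} : NT F.swap g ↔ NT F g := by
  unfold NT
  rw [swap_T0]

theorem NE_swap {g : G} : NE F.swap g ↔ NE F g := by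
  unfold NE
  rw [swap_E1, swap_E2]
  exact and_comm

theorem swap_d (c s : F4) : F.swap.d c s = F.d c (s ^ 2) := rfl

theorem swap_d_sq (c s : F4) : F.swap.d c (s ^ 2) = F.d c s := by
  have key : ∀ p : F4, (p ^ 2) ^ 2 = p := by decide
  rw [swap_d, key]

theorem acts_swap {g : G} {e e' : Bool} {l m : F4} (h : Acts F g e e' l m) :
    Acts F.swap g e' e m l := by
  constructor
  · intro a
    obtain ⟨c, s, h1⟩ := h.2 a
    exact ⟨c, s ^ 2, by rw [swap_d_sq]; exact h1⟩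
  · intro a
    obtain ⟨c, s, h1⟩ := h.1 a
    exact ⟨c, s ^ 2, by rw [swap_d_sq]; exact h1⟩

theorem Sit_swap (H : Sit F) : Sit F.swap := by
  refine ⟨H.te, fun k hk hn => by rw [swap_V]; exact H.cenK k hk hn, ?_⟩
  obtain ⟨g, h1, h2, h3⟩ := H.swp
  refine ⟨g, NT_swap.2 h1, fun s => ?_, fun c => ?_⟩
  · obtain ⟨c, hc⟩ := h2 (s ^ 2)
    refine ⟨c, ?_⟩
    have : F.swap.d c 0 = F.d c 0 := by rw [swap_d]; simp
    rw [this]; exact hc
  · obtain ⟨s, hs⟩ := h3 c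
    refine ⟨s ^ 2, ?_⟩
    rw [swap_d_sq, ← hs, swap_d]; simp

/-- Types `(false, true)` and `(true, false)`. -/
theorem conj_mixed [Finite G] (H : Sit F) (h0 : L0 F) (h0' : L0 F.swap) {e : G} (hT : NT F e)
    (hE : NE F e) (h2 : e * e = 1) (hVU : ∀ s, ∃ c, e * F.d 0 s * e⁻¹ = F.d c 0) :
    ∃ g, g * e * g⁻¹ ∈ F.T0 := by
  obtain ⟨ε, ε', l, m, hl, hm, hA⟩ := exists_acts F hT hE.1 hE.2
  have h3 : ∀ s, (dact ε ε' l m 0 s).2 = 0 := by
    intro s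
    obtain ⟨c, hc⟩ := hVU s
    rw [act_d F hA] at hc
    exact (T0.d_inj F hc).2
  have key : ∀ (e e' : Bool) (l m : F4), l ≠ 0 → m ≠ 0 → (∀ s, (dact e e' l m 0 s).2 = 0) →
      (e = false ∧ e' = true) ∨ (e = true ∧ e' = false) := by decide
  rcases key ε ε' l m hl hm h3 with ⟨rfl, rfl⟩ | ⟨rfl, rfl⟩
  · exact conj_false_true H h0 hT hE h2 hl hm hA
  · obtain ⟨g, hg⟩ := conj_false_true (Sit_swap H) h0' (NT_swap.2 hT) (NE_swap.2 hE) h2 hm hl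
      (acts_swap hA)
    rw [swap_T0] at hg
    exact ⟨g, hg⟩

/-- Type `(true, true)`. -/
theorem conj_true_true [Finite G] (H : Sit F) (h0 : L0 F) (h0' : L0 F.swap) (hA1 : A1 F) {e : G}
    (_hT : NT F e) (hE : NE F e) (h2 : e * e = 1) {l m : F4} (hl : l ≠ 0) (hm : m ≠ 0)
    (hA : Acts F e true true l m) : ∃ g, g * e * g⁻¹ ∈ F.T0 := by
  obtain ⟨f, hfT, hfE, hfV, hfU⟩ := hA1
  -- the line `A_b` is conjugate to `V`
  have hconj : ∀ b a, ∃ s, (F.y b * F.n1 * f) * F.d 0 s * (F.y b * F.n1 * f)⁻¹ =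
      F.t a 0 (a * b) (a * b ^ 2) := by
    intro b a
    obtain ⟨s, hs⟩ : ∃ s, f * F.d 0 s * f⁻¹ = F.d a 0 := by
      -- surjectivity
      obtain ⟨ε, ε', l', m', hl', hm', hA'⟩ := exists_acts F hfT hfE.1 hfE.2
      have h3 : ∀ s, (dact ε ε' l' m' 0 s).2 = 0 := by
        intro s
        obtain ⟨c, hc⟩ := hfV s
        rw [act_d F hA'] at hc
        exact (T0.d_inj F hc).2
      have key : ∀ (e e' : Bool) (l m : F4), l ≠ 0 → m ≠ 0 → (∀ s, (dact e e' l m 0 s).2 = 0) →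
          ∀ a, ∃ s, dact e e' l m 0 s = (a, 0) := by decide
      obtain ⟨s, hs⟩ := key ε ε' l' m' hl' hm' h3 a
      exact ⟨s, by rw [act_d F hA', hs]⟩
    refine ⟨s, ?_⟩
    have h3 : (F.y b * F.n1 * f) * F.d 0 s * (F.y b * F.n1 * f)⁻¹ =
        F.y b * (F.n1 * (f * F.d 0 s * f⁻¹) * F.n1⁻¹) * (F.y b)⁻¹ := by group
    rw [h3, hs, F.d_eq_t, F.n1_xd, y_conj, zero_add, zero_add]
  have hNb : ∀ b, N1 F (F.y b * F.n1 * f) := fun b =>
    (N1.mul (N1.of_T0 ⟨_, _, _, _, F.y_eq_t b⟩) N1.n1).mul hfE.1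
  -- images of lines `A_b` under elements moving it to a line with non-zero `x`-component
  have hmove : ∀ (g : G), N1 F g → ∀ b : F4, (∃ a a' c s, a' ≠ 0 ∧
      g * F.t a 0 (a * b) (a * b ^ 2) * g⁻¹ = F.t a' 0 c s) →
      ∃ b', ∀ a, ∃ a', g * F.t a 0 (a * b) (a * b ^ 2) * g⁻¹ = F.t a' 0 (a' * b') (a' * b' ^ 2) := by
    rintro g hg b ⟨a, a', c, s, ha', h3⟩
    obtain ⟨s0, hs0⟩ := hconj b a
    obtain ⟨b', hb'⟩ := h0.line (hg.mul (hNb b)) (s0 := s0) ha' (by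
      rw [← h3, ← hs0]; group)
    refine ⟨b', fun a1 => ?_⟩
    obtain ⟨s1, hs1⟩ := hconj b a1
    obtain ⟨a2, ha2⟩ := hb' s1
    refine ⟨a2, ?_⟩
    rw [← ha2, ← hs1]; group
  have hd : ∀ c s, e * F.d c s * e⁻¹ = F.d (l * m * c ^ 2) (l * m ^ 2 * s ^ 2) := by
    intro c s
    rw [act_d F hA]
    simp only [dact]
  -- action of `e` on `x a`
  obtain ⟨β0, hβ0⟩ : ∃ b, ∀ a, e * F.x a * e⁻¹ = F.t (l * a ^ 2) 0 (l * a ^ 2 * b) (l * a ^ 2 * b ^ 2) := by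
    obtain ⟨c1, s1, h3⟩ := hA.1 1
    obtain ⟨b', hb'⟩ := hmove e hE.1 0 ⟨1, l, c1, s1, hl, by
      have h4 : sm true l 1 = l := by
        have key : ∀ l : F4, sm true l 1 = l := by decide
        exact key l
      rw [h4, F.xd_eq_t] at h3
      rw [← h3, F.x_eq_t]; simp⟩
    refine ⟨b', fun a => ?_⟩
    obtain ⟨a', ha'⟩ := hb' a
    obtain ⟨c2, s2, h4⟩ := hA.1 a
    have h5 : F.t a 0 (a * 0) (a * 0 ^ 2) = F.x a := by rw [F.x_eq_t]; simp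
    rw [h5] at ha'
    rw [F.xd_eq_t] at h4
    have h6 := (F.t_inj (h4.symm.trans ha')).1
    have h7 : sm true l a = l * a ^ 2 := rfl
    rw [h7] at h6
    rw [ha', ← h6]
  have het : ∀ a c s, e * F.t a 0 c s * e⁻¹ =
      F.t (l * a ^ 2) 0 (l * a ^ 2 * β0 + l * m * c ^ 2) (l * a ^ 2 * β0 ^ 2 + l * m ^ 2 * s ^ 2) := by
    intro a c s
    have h4 : e * F.t a 0 c s * e⁻¹ = (e * F.x a * e⁻¹) * (e * F.d c s * e⁻¹) := by
      rw [← F.xd_eq_t]; group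
    rw [h4, hβ0, hd, F.d_eq_t, F.t_mul]
    simp
  have hline : ∀ b a, e * F.t a 0 (a * b) (a * b ^ 2) * e⁻¹ =
      F.t (l * a ^ 2) 0 (l * a ^ 2 * (β0 + m * b ^ 2)) (l * a ^ 2 * (β0 + m * b ^ 2) ^ 2) := by
    intro b a
    rw [het]
    congr 1
    · ring
    · rw [f4_sq_add]; ring
  -- a line that is moved
  obtain ⟨β, γ, hβγ, hγ, hγβ⟩ : ∃ β γ : F4, β ≠ γ ∧ γ = β0 + m * β ^ 2 ∧ β = β0 + m * γ ^ 2 := by
    have h3 : β0 + m * β0 ^ 2 = 0 := by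
      have h4 : e * (e * F.x 1 * e⁻¹) * e⁻¹ = F.x 1 := by
        have h7 : e * (e * F.x 1 * e⁻¹) * e⁻¹ = (e * e) * F.x 1 * (e * e)⁻¹ := by group
        rw [h7, h2]; group
      rw [hβ0, hline, F.x_eq_t] at h4
      obtain ⟨h5, -, h6, -⟩ := F.t_inj h4
      have key : ∀ p q : F4, p = 1 → p * q = 0 → q = 0 := by decide
      exact key _ _ h5 h6
    have key : ∀ m b : F4, m ≠ 0 → b + m * b ^ 2 = 0 →
        ∃ β γ : F4, β ≠ γ ∧ γ = b + m * β ^ 2 ∧ β = b + m * γ ^ 2 := by decide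
    exact key m β0 hm h3
  have hswap : ∀ a, ∃ a', e * F.t a 0 (a * β) (a * β ^ 2) * e⁻¹ = F.t a' 0 (a' * γ) (a' * γ ^ 2) := by
    intro a
    exact ⟨_, by rw [hline, ← hγ]⟩
  have hswap' : ∀ a, ∃ a', e * F.t a 0 (a * γ) (a * γ ^ 2) * e⁻¹ = F.t a' 0 (a' * β) (a' * β ^ 2) := by
    intro a
    exact ⟨_, by rw [hline, ← hγβ]⟩
  -- move `A_β` to `V` and `A_γ` to `U`
  have hδ : γ + β ≠ 0 := by
    have key : ∀ p q : F4, p ≠ q → q + p ≠ 0 := by decide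
    exact key _ _ hβγ
  have hn1 : ∀ δ a : F4, δ ≠ 0 → F.n1 * F.t a 0 (a * δ) (a * δ ^ 2) * F.n1⁻¹ =
      F.t (a * δ) 0 (a * δ * δ⁻¹) (a * δ * δ⁻¹ ^ 2) := by
    intro δ a hδ
    have key : ∀ δ a : F4, δ ≠ 0 → a * δ * δ⁻¹ = a ∧ a * δ * δ⁻¹ ^ 2 = a * δ ^ 2 := by decide
    obtain ⟨k1, k2⟩ := key δ a hδ
    rw [F.n1_xd, k1, k2]
  have hUf : ∀ c, ∃ s, f * F.d c 0 * f⁻¹ = F.d 0 s := hfU
  -- `f` moves `A_δ'` to some `A_ε`
  have hfA : ∀ b, b ≠ 0 → ∃ b', ∀ a, ∃ a', f * F.t a 0 (a * b) (a * b ^ 2) * f⁻¹ =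
      F.t a' 0 (a' * b') (a' * b' ^ 2) := by
    intro b _
    obtain ⟨ε, ε', l', m', hl', hm', hA'⟩ := exists_acts F hfT hfE.1 hfE.2
    obtain ⟨c1, s1, h3⟩ := conj_xd F hA' 1 (1 * b) (1 * b ^ 2)
    rw [F.xd_eq_t, F.xd_eq_t] at h3
    exact hmove f hfE.1 b ⟨1, _, c1, s1, sm_ne_zero _ _ _ hl' one_ne_zero, h3⟩
  obtain ⟨ε, hε⟩ := hfA (γ + β)⁻¹ (inv_ne_zero hδ)
  have hyy : ∀ b b' a, F.y b * F.t a 0 (a * b') (a * b' ^ 2) * (F.y b)⁻¹ =
      F.t a 0 (a * (b' + b)) (a * (b' + b) ^ 2) := by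
    intro b b' a
    rw [y_conj]
    congr 1
    · ring
    · rw [f4_sq_add]; ring
  set g := F.n1 * F.y ε * f * F.n1 * F.y β with hg
  have hgN : N1 F g := by
    have k1 : N1 F (F.n1 * F.y ε) := N1.n1.mul (N1.of_T0 ⟨_, _, _, _, F.y_eq_t ε⟩)
    exact ((k1.mul hfE.1).mul N1.n1).mul (N1.of_T0 ⟨_, _, _, _, F.y_eq_t β⟩)
  have hgβ : ∀ a, ∃ s, g * F.t a 0 (a * β) (a * β ^ 2) * g⁻¹ = F.d 0 s := by
    intro a
    obtain ⟨s, hs⟩ := hfU a
    refine ⟨s, ?_⟩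
    have h3 : g * F.t a 0 (a * β) (a * β ^ 2) * g⁻¹ =
        F.n1 * (F.y ε * (f * (F.n1 * (F.y β * F.t a 0 (a * β) (a * β ^ 2) * (F.y β)⁻¹) *
          F.n1⁻¹) * f⁻¹) * (F.y ε)⁻¹) * F.n1⁻¹ := by rw [hg]; group
    rw [h3, hyy, Frm.f4_add_self, mul_zero, zero_pow two_ne_zero, mul_zero, F.n1_xd, t0_eq_d, hs,
      F.d_eq_t, y_conj, F.n1_xd, zero_mul, add_zero, zero_mul, add_zero]
  have hgγ : ∀ a, ∃ c, g * F.t a 0 (a * γ) (a * γ ^ 2) * g⁻¹ = F.d c 0 := by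
    intro a
    obtain ⟨a', ha'⟩ := hε (a * (γ + β))
    refine ⟨a', ?_⟩
    have h3 : g * F.t a 0 (a * γ) (a * γ ^ 2) * g⁻¹ =
        F.n1 * (F.y ε * (f * (F.n1 * (F.y β * F.t a 0 (a * γ) (a * γ ^ 2) * (F.y β)⁻¹) *
          F.n1⁻¹) * f⁻¹) * (F.y ε)⁻¹) * F.n1⁻¹ := by rw [hg]; group
    rw [h3, hyy, hn1 _ _ hδ, ha', hyy, Frm.f4_add_self, mul_zero, zero_pow two_ne_zero, mul_zero,
      F.n1_xd, t0_eq_d]
  have hcj : ∀ x y : G, g * x * g⁻¹ = y → g⁻¹ * y * g = x := by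
    rintro x y rfl; group
  have hgβ' : ∀ s, ∃ a, g⁻¹ * F.d 0 s * g = F.t a 0 (a * β) (a * β ^ 2) := by
    choose S hS using hgβ
    have hinj : Function.Injective S := by
      intro a a' h
      have h3 := hcj _ _ (hS a)
      rw [h, hcj _ _ (hS a')] at h3
      exact (F.t_inj h3).1.symm
    intro s
    obtain ⟨a, rfl⟩ := Finite.surjective_of_injective hinj s
    exact ⟨a, hcj _ _ (hS a)⟩
  have hgγ' : ∀ c, ∃ a, g⁻¹ * F.d c 0 * g = F.t a 0 (a * γ) (a * γ ^ 2) := by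
    choose S hS using hgγ
    have hinj : Function.Injective S := by
      intro a a' h
      have h3 := hcj _ _ (hS a)
      rw [h, hcj _ _ (hS a')] at h3
      exact (F.t_inj h3).1.symm
    intro s
    obtain ⟨a, rfl⟩ := Finite.surjective_of_injective hinj s
    exact ⟨a, hcj _ _ (hS a)⟩
  set e1 := g * e * g⁻¹ with he1
  have h11 : e1 * e1 = 1 := by
    rw [he1]
    calc g * e * g⁻¹ * (g * e * g⁻¹) = g * (e * e) * g⁻¹ := by group
      _ = 1 := by rw [h2]; group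
  have hVU : ∀ s, ∃ c, e1 * F.d 0 s * e1⁻¹ = F.d c 0 := by
    intro s
    obtain ⟨a, ha⟩ := hgβ' s
    obtain ⟨a', ha'⟩ := hswap a
    obtain ⟨c, hc⟩ := hgγ a'
    refine ⟨c, ?_⟩
    rw [← hc, ← ha', ← ha, he1]; group
  have hUV : ∀ c, ∃ s, e1 * F.d c 0 * e1⁻¹ = F.d 0 s := by
    intro c
    obtain ⟨a, ha⟩ := hgγ' c
    obtain ⟨a', ha'⟩ := hswap' a
    obtain ⟨s, hs⟩ := hgβ a'
    refine ⟨s, ?_⟩
    rw [← hs, ← ha', ← ha, he1]; group
  -- `e1` normalises `T0`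
  have hD : ∀ c s, ∃ c' s', e1 * F.d c s * e1⁻¹ = F.d c' s' := by
    intro c s
    obtain ⟨s', hs'⟩ := hUV c
    obtain ⟨c', hc'⟩ := hVU s
    refine ⟨c', s', ?_⟩
    have h3 : e1 * (F.d c 0 * F.d 0 s) * e1⁻¹ =
        (e1 * F.d c 0 * e1⁻¹) * (e1 * F.d 0 s * e1⁻¹) := by group
    rw [F.d_split, h3, hs', hc', F.d_comm, ← F.d_split]
  have hinv : e1⁻¹ = e1 := inv_eq_of_mul_eq_one_left h11
  have hT0 : ∀ x ∈ F.T0, e1 * x * e1⁻¹ ∈ F.T0 := by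
    intro x hx
    obtain ⟨n, hn⟩ := (T0.isPGroup_T0 F) ⟨x, hx⟩
    have hn' : x ^ 2 ^ n = 1 := congrArg Subtype.val hn
    refine mem_T0_of_cent_D0 H (n := n) (fun c s => ?_) (by rw [conj_pow, hn']; group)
    obtain ⟨c', s', h3⟩ := hD c s
    have h4 : e1⁻¹ * F.d c s * e1 = F.d c' s' := by rw [← h3, hinv]
    have h5 := T0.D0_comm F ⟨c', s', rfl⟩ hx
    rw [← h4] at h5
    calc e1 * x * e1⁻¹ * F.d c s = e1 * (x * (e1⁻¹ * F.d c s * e1)) * e1⁻¹ := by group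
      _ = _ := by rw [← h5]; group
  have hT1 : NT F e1 := fun x => ⟨hT0 x, fun h => by
    have h3 := hT0 _ h
    have : e1 * (e1 * x * e1⁻¹) * e1⁻¹ = (e1 * e1) * x * (e1 * e1)⁻¹ := by group
    rw [this, h11] at h3
    simpa using h3⟩
  have hN1 : N1 F e1 := (hgN.mul hE.1).mul hgN.inv
  have hE1 : NE F e1 := by
    rcases E_cases F hT1 with h | h
    · exact h
    · exfalso
      have h3 : F.x 1 ∈ F.E1 := ⟨1, 0, 0, F.x_eq_t 1⟩
      have h4 : e1 * F.x 1 * e1⁻¹ ∈ F.E1 ⊓ F.E2 := ⟨(hN1 _).1 h3, (h.1 _).1 h3⟩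
      rw [T0.E1_inf_E2] at h4
      have h5 := (D0_iff F hT1 _).2 h4
      obtain ⟨c, s, h6⟩ := h5
      rw [F.x_eq_t, F.d_eq_t] at h6
      exact absurd (F.t_inj h6).1 (by decide)
  obtain ⟨g', hg'⟩ := conj_mixed H h0 h0' hT1 hE1 h11 hVU
  refine ⟨g' * g, ?_⟩
  have : g' * g * e * (g' * g)⁻¹ = g' * e1 * g'⁻¹ := by rw [he1]; group
  rw [this]
  exact hg'

/-- **Involutions normalising `T0` and `E1` are conjugate into `T0`.** -/
theorem inv_conj [Finite G] (H : Sit F) (h0 : L0 F) (h0' : L0 F.swap) (hA1 : A1 F) :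
    ∀ e, NT F e → NE F e → e * e = 1 → ∃ g, g * e * g⁻¹ ∈ F.T0 := by
  intro e hT hE h2
  obtain ⟨ε, ε', l, m, hl, hm, hA⟩ := exists_acts F hT hE.1 hE.2
  cases ε <;> cases ε'
  · have hee : Acts F (e * e) false false 1 1 := by rw [h2]; exact acts_one F
    obtain ⟨-, -, h3, h4⟩ := acts_unique F (acts_mul F hA hA) hee
      (sm_ne_zero _ _ _ hl hl) (sm_ne_zero _ _ _ hm hm)
    have key : ∀ l : F4, sm false l l = 1 → l = 1 := by decide
    rw [key _ h3, key _ h4] at hA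
    exact ⟨1, by simpa using H.mem_T0_of_acts hA (n := 1) (by rw [pow_one, pow_two]; exact h2)⟩
  · exact conj_false_true H h0 hT hE h2 hl hm hA
  · obtain ⟨g, hg⟩ := conj_false_true (Sit_swap H) h0' (NT_swap.2 hT) (NE_swap.2 hE) h2 hm hl
      (acts_swap hA)
    rw [swap_T0] at hg
    exact ⟨g, hg⟩
  · exact conj_true_true H h0 h0' hA1 hT hE h2 hl hm hA

/-- `A1` follows from the existence of an element of mixed type. -/
theorem A1_of_acts {f : G} {l m : F4} (hl : l ≠ 0) (_hm : m ≠ 0) (hT : NT F f)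
    (hA : Acts F f false true l m) : A1 F := by
  have hE : NE F f := by
    rcases E_cases F hT with h | h
    · exact h
    · exfalso
      obtain ⟨e, e', l', m', hl', hm', hS⟩ := exists_actsS F hT h.1 h.2
      obtain ⟨c1, s1, h1⟩ := hA.1 1
      obtain ⟨c2, s2, h2⟩ := hS.1 1
      rw [h2, F.yd_eq_t, F.xd_eq_t] at h1
      exact sm_ne_zero false l 1 hl one_ne_zero (F.t_inj h1).1.symm
  refine ⟨f, hT, hE, fun s => ⟨l * m * s, ?_⟩, fun c => ⟨l * m ^ 2 * c, ?_⟩⟩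
  · rw [act_d F hA]; simp [dact]
  · rw [act_d F hA]; simp [dact]

end Cfsg.Agent.StandardComponent.HeldType.InvConj
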