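import Mathlib
import Cfsg.Agent.StandardComponent.HeldType.NoSwap

/-!
The six "lines" of `E1` and the action of `N(E1)` on them: if some element of `N(T0)` fixing `E1` interchanges
`V` and `U`, and the conjugates of `V` in `E1` under `N(E1)` are among the six lines, then all pairs of
semilinear maps are realised in `N(T0)` (`full`).
-/

set_option autoImplicit false

namespace Cfsg.Agent.StandardComponent.HeldType.Lines

open Cfsg.Agent.Lib.FieldFour Cfsg.Agent.StandardComponent.HeldType.Frame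
  Cfsg.Agent.StandardComponent.HeldType.Act Cfsg.Agent.StandardComponent.HeldType.ActType
  Cfsg.Agent.StandardComponent.HeldType.Basic Cfsg.Agent.StandardComponent.HeldType.Ctx
  Cfsg.Agent.StandardComponent.HeldType.NoSwap

variable {G : Type*} [Group G] {L : Subgroup G} {F : Frm L}

/-- the conjugates of `V` under `N(E1)` are lines -/
def L0 (F : Frm L) : Prop := ∀ g, (∀ x, x ∈ F.E1 ↔ g * x * g⁻¹ ∈ F.E1) →
  (∀ s, ∃ s', g * F.d 0 s * g⁻¹ = F.d 0 s') ∨ (∀ s, ∃ c, g * F.d 0 s * g⁻¹ = F.d c 0) ∨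
    ∃ b, ∀ s, ∃ a, g * F.d 0 s * g⁻¹ = F.x a * F.d (a * b) (a * b ^ 2)

/-- some element of `N(T0) ∩ N(E1)` interchanges `V` and `U` -/
def A1 (F : Frm L) : Prop := ∃ g, NT F g ∧ NE F g ∧
  (∀ s, ∃ c, g * F.d 0 s * g⁻¹ = F.d c 0) ∧ (∀ c, ∃ s, g * F.d c 0 * g⁻¹ = F.d 0 s)

/-! ### Lines -/

/-- parametrisation of the six lines -/
def pt (F : Frm L) : Option (Option F4) → F4 → G
  | none, s => F.d 0 s
  | some none, c => F.d c 0
  | some (some b), a => F.t a 0 (a * b) (a * b ^ 2)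

theorem iff_of_param {ι : Type*} {p q : ι → G} {g : G} {f : ι → ι}
    (h : ∀ a, g * p a * g⁻¹ = q (f a)) (hf : ∀ b, ∃ a, f a = b) (x : G) :
    (∃ a, x = p a) ↔ ∃ a, g * x * g⁻¹ = q a := by
  constructor
  · rintro ⟨a, rfl⟩
    exact ⟨f a, h a⟩
  · rintro ⟨b, hb⟩
    obtain ⟨a, rfl⟩ := hf b
    refine ⟨a, ?_⟩
    rw [← h a] at hb
    exact mul_left_cancel (mul_right_cancel hb)

/-- `g` normalises `E1` and permutes the lines according to `f` -/
structure P (F : Frm L) (g : G) (f : Option (Option F4) → Option (Option F4)) : Prop where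
  e : ∀ x, x ∈ F.E1 ↔ g * x * g⁻¹ ∈ F.E1
  l : ∀ i x, (∃ a, x = pt F i a) ↔ ∃ a, g * x * g⁻¹ = pt F (f i) a

theorem P.mul {g g' : G} {f f' : Option (Option F4) → Option (Option F4)} (h : P F g f)
    (h' : P F g' f') : P F (g * g') (f ∘ f') := by
  have e : ∀ x, g * g' * x * (g * g')⁻¹ = g * (g' * x * g'⁻¹) * g⁻¹ := by intro x; group
  refine ⟨fun x => ?_, fun i x => ?_⟩
  · rw [h'.e x, h.e, e]
  · rw [h'.l i x, h.l (f' i), e]; rfl

theorem P.inv {g : G} {f f' : Option (Option F4) → Option (Option F4)} (h : P F g f)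
    (hf : ∀ i, f (f' i) = i) : P F g⁻¹ f' := by
  have e : ∀ x, g * (g⁻¹ * x * g⁻¹⁻¹) * g⁻¹ = x := by intro x; group
  refine ⟨fun x => ?_, fun i x => ?_⟩
  · rw [h.e (g⁻¹ * x * g⁻¹⁻¹), e]
  · rw [h.l (f' i) (g⁻¹ * x * g⁻¹⁻¹), e, hf]

/-- the translation of the lines by `b` -/
def fy (b : F4) : Option (Option F4) → Option (Option F4)
  | none => none
  | some none => some none
  | some (some c) => some (some (c + b))

/-- the action of `n1` on the lines -/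
def fn : Option (Option F4) → Option (Option F4)
  | none => none
  | some none => some (some 0)
  | some (some F4.o) => some none
  | some (some c) => some (some (c * c))

/-- the transposition `(V U)` -/
def fs : Option (Option F4) → Option (Option F4)
  | none => some none
  | some none => none
  | some (some c) => some (some c)

theorem e_of_param {g : G} {f : F4 × F4 × F4 → F4 × F4 × F4}
    (h : ∀ a : F4 × F4 × F4, g * F.t a.1 0 a.2.1 a.2.2 * g⁻¹ = F.t (f a).1 0 (f a).2.1 (f a).2.2)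
    (hf : ∀ b, ∃ a, f a = b) (x : G) : x ∈ F.E1 ↔ g * x * g⁻¹ ∈ F.E1 := by
  have key : ∀ x, x ∈ F.E1 ↔ ∃ a : F4 × F4 × F4, x = F.t a.1 0 a.2.1 a.2.2 := by
    intro x
    constructor
    · rintro ⟨a, c, s, rfl⟩
      exact ⟨(a, c, s), rfl⟩
    · rintro ⟨⟨a, c, s⟩, rfl⟩
      exact ⟨a, c, s, rfl⟩
  rw [key, key]
  exact iff_of_param h hf x

theorem P_y (b : F4) : P F (F.y b) (fy b) := by
  have h1 : ∀ a c s, F.y b * F.t a 0 c s * (F.y b)⁻¹ = F.t a 0 (c + a * b) (s + a * b ^ 2) := by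
    intro a c s
    rw [F.y_eq_t, F.t_conj, zero_mul, zero_mul, zero_add, zero_add]
  refine ⟨e_of_param (f := fun p => (p.1, p.2.1 + p.1 * b, p.2.2 + p.1 * b ^ 2))
    (fun a => h1 _ _ _) ?_, ?_⟩
  · rintro ⟨a, c, s⟩
    refine ⟨(a, c + a * b, s + a * b ^ 2), ?_⟩
    have h3 := Frm.f4_add_self (a * b)
    have h4 := Frm.f4_add_self (a * b ^ 2)
    simp only [Prod.mk.injEq, true_and]
    constructor
    · linear_combination h3
    · linear_combination h4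
  · intro i
    rcases i with _ | _ | c
    · exact iff_of_param (f := id) (fun a => by
        show F.y b * F.d 0 a * (F.y b)⁻¹ = F.d 0 a
        rw [F.y_d, mul_inv_cancel_right]) (fun b => ⟨b, rfl⟩)
    · exact iff_of_param (f := id) (fun a => by
        show F.y b * F.d a 0 * (F.y b)⁻¹ = F.d a 0
        rw [F.y_d, mul_inv_cancel_right]) (fun b => ⟨b, rfl⟩)
    · exact iff_of_param (f := id) (fun a => by
        show F.y b * F.t a 0 (a * c) (a * c ^ 2) * (F.y b)⁻¹ =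
          F.t a 0 (a * (c + b)) (a * (c + b) ^ 2)
        rw [h1]
        congr 1
        · ring
        · rw [f4_sq_add, mul_add]) (fun b => ⟨b, rfl⟩)

theorem P_n1 : P F F.n1 fn := by
  refine ⟨e_of_param (f := fun p => (p.2.1, p.1, p.2.2))
    (fun a => F.n1_xd _ _ _) (fun b => ⟨(b.2.1, b.1, b.2.2), rfl⟩), ?_⟩
  intro i
  rcases i with _ | _ | c
  · exact iff_of_param (f := id) (fun a => by
      show F.n1 * F.d 0 a * F.n1⁻¹ = F.d 0 a
      rw [F.n1_d, F.x_zero, one_mul]) (fun b => ⟨b, rfl⟩)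
  · exact iff_of_param (f := id) (fun a => by
      show F.n1 * F.d a 0 * F.n1⁻¹ = F.t a 0 (a * 0) (a * 0 ^ 2)
      rw [F.d_eq_t, F.n1_xd]
      congr 1
      · ring
      · ring) (fun b => ⟨b, rfl⟩)
  · cases c
    · exact iff_of_param (f := id) (fun a => by
        show F.n1 * F.t a 0 (a * 0) (a * 0 ^ 2) * F.n1⁻¹ = F.d a 0
        rw [F.n1_xd, F.d_eq_t]
        congr 1
        · ring
        · ring) (fun b => ⟨b, rfl⟩)
    · exact iff_of_param (f := fun a => a * 1) (fun a => by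
        show F.n1 * F.t a 0 (a * 1) (a * 1 ^ 2) * F.n1⁻¹ = F.t (a * 1) 0 (a * 1 * (1 * 1))
          (a * 1 * (1 * 1) ^ 2)
        rw [F.n1_xd]
        congr 1
        · ring
        · ring) (by decide)
    · exact iff_of_param (f := fun a => a * F4.w) (fun a => by
        show F.n1 * F.t a 0 (a * F4.w) (a * F4.w ^ 2) * F.n1⁻¹ =
          F.t (a * F4.w) 0 (a * F4.w * (F4.w * F4.w)) (a * F4.w * (F4.w * F4.w) ^ 2)
        rw [F.n1_xd]
        congr 1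
        · revert a; decide
        · revert a; decide) (by decide)
    · exact iff_of_param (f := fun a => a * F4.v) (fun a => by
        show F.n1 * F.t a 0 (a * F4.v) (a * F4.v ^ 2) * F.n1⁻¹ =
          F.t (a * F4.v) 0 (a * F4.v * (F4.v * F4.v)) (a * F4.v * (F4.v * F4.v) ^ 2)
        rw [F.n1_xd]
        congr 1
        · revert a; decide
        · revert a; decide) (by decide)

/-- An element acting as `x a ↦ x (l * a ^ 2)`, `d c s ↦ d (l * s ^ 2) (l * c ^ 2)`. -/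
theorem P_s {g : G} {l : F4} (hl : l ≠ 0) (he : ∀ x, x ∈ F.E1 ↔ g * x * g⁻¹ ∈ F.E1)
    (hx : ∀ a, g * F.x a * g⁻¹ = F.x (l * a ^ 2))
    (hd : ∀ c s, g * F.d c s * g⁻¹ = F.d (l * s ^ 2) (l * c ^ 2)) : P F g fs := by
  have hsurj : ∀ l : F4, l ≠ 0 → ∀ b : F4, ∃ a, l * a ^ 2 = b := by decide
  have key0 : ∀ l : F4, l * 0 ^ 2 = 0 := by decide
  refine ⟨he, fun i => ?_⟩
  rcases i with _ | _ | c
  · exact iff_of_param (f := fun a => l * a ^ 2) (fun a => by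
      show g * F.d 0 a * g⁻¹ = F.d (l * a ^ 2) 0
      rw [hd, key0]) (hsurj l hl)
  · exact iff_of_param (f := fun a => l * a ^ 2) (fun a => by
      show g * F.d a 0 * g⁻¹ = F.d 0 (l * a ^ 2)
      rw [hd, key0]) (hsurj l hl)
  · exact iff_of_param (f := fun a => l * a ^ 2) (fun a => by
      show g * F.t a 0 (a * c) (a * c ^ 2) * g⁻¹ =
        F.t (l * a ^ 2) 0 (l * a ^ 2 * c) (l * a ^ 2 * c ^ 2)
      rw [← F.xd_eq_t, ← F.xd_eq_t]
      have e0 : g * (F.x a * F.d (a * c) (a * c ^ 2)) * g⁻¹ =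
        (g * F.x a * g⁻¹) * (g * F.d (a * c) (a * c ^ 2) * g⁻¹) := by group
      rw [e0, hx, hd]
      congr 2
      · clear * - l a c; revert l a c; decide
      · clear * - l a c; revert l a c; decide) (hsurj l hl)

/-- the transposition `(V A_b)` -/
def ft (b : F4) : Option (Option F4) → Option (Option F4) :=
  (fy b ∘ fn) ∘ fs ∘ (fn ∘ fy b)

theorem P_t {g : G} (h : P F g fs) (b : F4) :
    P F (F.y b * F.n1 * (g * (F.y b * F.n1)⁻¹)) (ft b) := by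
  have h1 : P F (F.y b * F.n1) (fy b ∘ fn) := (P_y b).mul P_n1
  have h2 : P F (F.y b * F.n1)⁻¹ (fn ∘ fy b) := h1.inv (by clear * -; revert b; decide)
  exact h1.mul (h.mul h2)

/-! ### Elements fixing `V` and `U` -/

theorem NT_of_V_U (hTE : TE L) {r : G} (hV : ∀ x, (∃ s, x = F.d 0 s) ↔ ∃ s, r * x * r⁻¹ = F.d 0 s)
    (hU : ∀ x, (∃ c, x = F.d c 0) ↔ ∃ c, r * x * r⁻¹ = F.d c 0) : NT F r := by
  have hN : Nrm L r := by
    refine hTE.key (F.d 0 1) r (F.cen_comm 1) ?_ (F.d_mul_self 0 1) ?_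
    · intro h
      rw [← F.d_zero] at h
      exact absurd (T0.d_inj F h).2 (by decide)
    · obtain ⟨s, hs⟩ := (hV _).1 ⟨1, rfl⟩
      rw [hs]
      exact F.cen_comm s
  have hD : ∀ y, y ∈ F.D0 → ∃ y' ∈ F.D0, r * y' * r⁻¹ = y := by
    rintro _ ⟨c, s, rfl⟩
    obtain ⟨c', hc'⟩ := (hU (r⁻¹ * F.d c 0 * r)).2 ⟨c, by group⟩
    obtain ⟨s', hs'⟩ := (hV (r⁻¹ * F.d 0 s * r)).2 ⟨s, by group⟩
    refine ⟨F.d c' 0 * F.d 0 s', F.D0.mul_mem ⟨_, _, rfl⟩ ⟨_, _, rfl⟩, ?_⟩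
    rw [← hc', ← hs', F.d_split c s]; group
  have hD' : ∀ y, y ∈ F.D0 → r * y * r⁻¹ ∈ F.D0 := by
    rintro _ ⟨c, s, rfl⟩
    obtain ⟨c', hc'⟩ := (hU (F.d c 0)).1 ⟨c, rfl⟩
    obtain ⟨s', hs'⟩ := (hV (F.d 0 s)).1 ⟨s, rfl⟩
    have : r * F.d c s * r⁻¹ = (r * F.d c 0 * r⁻¹) * (r * F.d 0 s * r⁻¹) := by
      rw [F.d_split c s]; group
    rw [this, hc', hs']
    exact F.D0.mul_mem ⟨_, _, rfl⟩ ⟨_, _, rfl⟩
  have hT : ∀ x, x ∈ F.T0 ↔ x ∈ L ∧ ∀ y ∈ F.D0, x * y = y * x := by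
    intro x
    constructor
    · intro hx
      exact ⟨T0.T0_le F hx, fun y hy => (T0.D0_comm F hy hx).symm⟩
    · rintro ⟨h1, h2⟩
      exact F.cent_d 1 0 one_ne_zero x h1 (h2 _ ⟨1, 0, rfl⟩)
  intro x
  rw [hT, hT, ← hN x]
  refine and_congr_right fun hx => ?_
  constructor
  · intro h y hy
    obtain ⟨y', hy', rfl⟩ := hD y hy
    have := h y' hy'
    calc r * x * r⁻¹ * (r * y' * r⁻¹) = r * (x * y') * r⁻¹ := by group
      _ = _ := by rw [this]; group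
  · intro h y hy
    have h1 := h _ (hD' y hy)
    calc x * y = r⁻¹ * ((r * x * r⁻¹) * (r * y * r⁻¹)) * r := by group
      _ = _ := by rw [h1]; group

theorem NE_of_E1 {r : G} (hT : NT F r) (he : ∀ x, x ∈ F.E1 ↔ r * x * r⁻¹ ∈ F.E1) : NE F r := by
  rcases E_cases F hT with h | h
  · exact h
  · exfalso
    have h1 : F.x 1 ∈ F.E1 := ⟨1, 0, 0, F.x_eq_t 1⟩
    have h2 := (he _).1 h1
    have h3 := (h.1 _).1 h1
    have h4 : r * F.x 1 * r⁻¹ ∈ F.D0 := by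
      rw [← T0.E1_inf_E2 F]
      exact ⟨h2, h3⟩
    rw [← D0_iff F hT] at h4
    obtain ⟨c, s, h5⟩ := h4
    rw [F.x_eq_t, F.d_eq_t] at h5
    exact absurd (F.t_inj h5).1 (by decide)

/-- The element realising the transposition `(A_w A_v)` is of type `(true, true, l, 1)`. -/
theorem exists_field (hTE : TE L) {g : G} (h : P F g fs) :
    ∃ r l, l ≠ 0 ∧ NT F r ∧ Acts F r true true l 1 := by
  have h1 := P_t h F4.w
  have h2 := P_t h F4.v
  have h3 := h1.inv (f' := ft F4.w) (by decide)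
  have h4 := h1.mul (h2.mul h3)
  set r := F.y F4.w * F.n1 * (g * (F.y F4.w * F.n1)⁻¹) *
    (F.y F4.v * F.n1 * (g * (F.y F4.v * F.n1)⁻¹) *
      (F.y F4.w * F.n1 * (g * (F.y F4.w * F.n1)⁻¹))⁻¹) with hr
  clear_value r
  have e0 : (ft F4.w ∘ ft F4.v ∘ ft F4.w) none = none := by decide
  have e1 : (ft F4.w ∘ ft F4.v ∘ ft F4.w) (some none) = some none := by decide
  have e2 : (ft F4.w ∘ ft F4.v ∘ ft F4.w) (some (some 0)) = some (some 0) := by decide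
  have e3 : (ft F4.w ∘ ft F4.v ∘ ft F4.w) (some (some 1)) = some (some 1) := by decide
  have e4 : (ft F4.w ∘ ft F4.v ∘ ft F4.w) (some (some F4.w)) = some (some F4.v) := by decide
  have hV := h4.l none
  have hU := h4.l (some none)
  have hA0 := h4.l (some (some 0))
  have hA1 := h4.l (some (some 1))
  have hAw := h4.l (some (some F4.w))
  rw [e0] at hV
  rw [e1] at hU
  rw [e2] at hA0
  rw [e3] at hA1
  rw [e4] at hAw
  have hNT : NT F r := NT_of_V_U hTE hV hU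
  have hNE : NE F r := NE_of_E1 hNT h4.e
  obtain ⟨e, e', l, m, hl, hm, hA⟩ := exists_acts F hNT hNE.1 hNE.2
  -- `x a ↦ x (sm e l a)`
  have hx : ∀ a, r * F.x a * r⁻¹ = F.x (sm e l a) := by
    intro a
    obtain ⟨a', ha'⟩ := (hA0 (F.x a)).1 ⟨a, by
      show F.x a = F.t a 0 (a * 0) (a * 0 ^ 2)
      rw [F.x_eq_t]; congr 1
      · ring
      · ring⟩
    obtain ⟨c, s, h5⟩ := hA.1 a
    have h6 : r * F.x a * r⁻¹ = F.x a' := by
      rw [ha', F.x_eq_t]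
      show F.t a' 0 (a' * 0) (a' * 0 ^ 2) = _
      congr 1
      · ring
      · ring
    rw [h6, F.xd_eq_t, F.x_eq_t] at h5
    rw [h6, (F.t_inj h5).1]
  have hxd : ∀ a c s, r * F.t a 0 c s * r⁻¹ =
      F.t (sm e l a) 0 (dact e e' l m c s).1 (dact e e' l m c s).2 := by
    intro a c s
    rw [← F.xd_eq_t, ← F.xd_eq_t, ← hx, ← act_d F hA]
    group
  have k0 : (dact e e' l m 0 1).1 = 0 := by
    obtain ⟨s, hs⟩ := (hV (F.d 0 1)).1 ⟨1, rfl⟩
    rw [act_d F hA] at hs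
    exact (T0.d_inj F hs).1
  have k1 : (dact e e' l m 1 1).1 = sm e l 1 := by
    obtain ⟨a, ha⟩ := (hA1 (F.t 1 0 1 1)).1 ⟨1, rfl⟩
    rw [hxd] at ha
    obtain ⟨h5, -, h6, h7⟩ := F.t_inj ha
    rw [h6, h5]
    exact mul_one a
  have k2 : (dact e e' l m F4.w (F4.w ^ 2)).1 = sm e l 1 * F4.v := by
    obtain ⟨a, ha⟩ := (hAw (F.t 1 0 F4.w (F4.w ^ 2))).1 ⟨1, rfl⟩
    rw [hxd] at ha
    obtain ⟨h5, -, h6, h7⟩ := F.t_inj ha
    rw [h6, h5]
  have key : ∀ (e e' : Bool) (l m : F4), l ≠ 0 → m ≠ 0 → (dact e e' l m 0 1).1 = 0 →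
      (dact e e' l m 1 1).1 = sm e l 1 → (dact e e' l m F4.w (F4.w ^ 2)).1 = sm e l 1 * F4.v →
      e = true ∧ e' = true ∧ m = 1 := by decide
  obtain ⟨rfl, rfl, rfl⟩ := key e e' l m hl hm k0 k1 k2
  exact ⟨r, l, hl, hNT, hA⟩

/-! ### Generation -/

theorem gen (S : Bool → Bool → F4 → F4 → Prop)
    (hmul : ∀ e e' e1 e1' l m l1 m1, S e e' l m → S e1 e1' l1 m1 →
      S (xor e e1) (xor e' e1') (sm e l l1) (sm e' m m1))
    (hh : S false false F4.w F4.w) {l m l0 : F4} (hl : l ≠ 0) (hm : m ≠ 0) (hl0 : l0 ≠ 0)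
    (ha : S true false l m) (hr : S true true l0 1) :
    ∀ e e' p q, p ≠ 0 → q ≠ 0 → S e e' p q := by
  have h1 := hmul _ _ _ _ _ _ _ _ ha ha
  have h2 := hmul _ _ _ _ _ _ _ _ hh (hmul _ _ _ _ _ _ _ _ ha (hmul _ _ _ _ _ _ _ _ hh ha))
  have h3 : ∃ c : F4, c ≠ 0 ∧ c ≠ 1 ∧ S false false 1 c := by
    have key : ∀ l m : F4, l ≠ 0 → m ≠ 0 →
        (sm true l l = 1 ∧ sm false m m ≠ 0 ∧ sm false m m ≠ 1) ∨
        (sm false F4.w (sm true l (sm false F4.w l)) = 1 ∧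
          sm false F4.w (sm false m (sm false F4.w m)) ≠ 0 ∧
          sm false F4.w (sm false m (sm false F4.w m)) ≠ 1) := by decide
    rcases key l m hl hm with ⟨h4, h5, h6⟩ | ⟨h4, h5, h6⟩
    · exact ⟨_, h5, h6, by rw [h4] at h1; exact h1⟩
    · exact ⟨_, h5, h6, by rw [h4] at h2; exact h2⟩
  obtain ⟨c, hc0, hc1, hc⟩ := h3
  have hcc := hmul _ _ _ _ _ _ _ _ hc hc
  have hccc := hmul _ _ _ _ _ _ _ _ hc hcc
  have h4 : ∀ q, q ≠ 0 → S false false 1 q := by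
    intro q hq
    have key : ∀ c q : F4, c ≠ 0 → c ≠ 1 → q ≠ 0 → q = c ∨ q = sm false c c ∨
      q = sm false c (sm false c c) := by decide
    rcases key c q hc0 hc1 hq with h | h | h
    · rw [h]; exact hc
    · rw [h]; exact hcc
    · rw [h]; exact hccc
  have h5 : ∀ p q, p ≠ 0 → q ≠ 0 → S false false p q := by
    intro p q hp hq
    have key : ∀ p q : F4, p ≠ 0 → q ≠ 0 →
        (p = 1) ∨
        (p = sm false F4.w 1 ∧ ∃ q', q' ≠ 0 ∧ q = sm false F4.w q') ∨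
        (p = sm false F4.w (sm false F4.w 1) ∧ ∃ q', q' ≠ 0 ∧
          q = sm false F4.w (sm false F4.w q')) := by decide
    rcases key p q hp hq with h | ⟨h, q', hq', h'⟩ | ⟨h, q', hq', h'⟩
    · rw [h]; exact h4 q hq
    · rw [h, h']; exact hmul _ _ _ _ _ _ _ _ hh (h4 q' hq')
    · rw [h, h']
      exact hmul _ _ _ _ _ _ _ _ hh (hmul _ _ _ _ _ _ _ _ hh (h4 q' hq'))
  have key : ∀ (e : Bool) (l p : F4), l ≠ 0 → p ≠ 0 → ∃ p', p' ≠ 0 ∧ p = sm e l p' := by decide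
  have h6 : ∀ p q, p ≠ 0 → q ≠ 0 → S true false p q := by
    intro p q hp hq
    obtain ⟨p', hp', h⟩ := key true l p hl hp
    obtain ⟨q', hq', h'⟩ := key false m q hm hq
    rw [h, h']
    exact hmul _ _ _ _ _ _ _ _ ha (h5 p' q' hp' hq')
  have h7 : ∀ p q, p ≠ 0 → q ≠ 0 → S true true p q := by
    intro p q hp hq
    obtain ⟨p', hp', h⟩ := key true l0 p hl0 hp
    obtain ⟨q', hq', h'⟩ := key true 1 q one_ne_zero hq
    rw [h, h']
    exact hmul _ _ _ _ _ _ _ _ hr (h5 p' q' hp' hq')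
  have h8 : ∀ p q, p ≠ 0 → q ≠ 0 → S false true p q := by
    intro p q hp hq
    obtain ⟨p', hp', h⟩ := key true l0 p hl0 hp
    obtain ⟨q', hq', h'⟩ := key true 1 q one_ne_zero hq
    rw [h, h']
    exact hmul _ _ _ _ _ _ _ _ hr (h6 p' q' hp' hq')
  intro e e' p q hp hq
  cases e <;> cases e'
  · exact h5 p q hp hq
  · exact h8 p q hp hq
  · exact h6 p q hp hq
  · exact h7 p q hp hq

theorem NT_h : NT F F.h := by
  have hw3 : ∀ a : F4, F4.w * (F4.w ^ 2 * a) = a := by decide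
  have hv3 : ∀ a : F4, F4.v * (F4.v ^ 2 * a) = a := by decide
  intro x
  constructor
  · rintro ⟨a, b, c, s, rfl⟩
    exact ⟨_, _, _, _, F.h_t a b c s⟩
  · rintro ⟨a, b, c, s, h⟩
    refine ⟨F4.w ^ 2 * a, F4.w ^ 2 * b, F4.v ^ 2 * c, s, ?_⟩
    have h1 := F.h_t (F4.w ^ 2 * a) (F4.w ^ 2 * b) (F4.v ^ 2 * c) s
    rw [hw3, hw3, hv3, ← h] at h1
    exact (mul_left_cancel (mul_right_cancel h1)).symm

/-- The core case: an element of type `(true, false)`. -/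
theorem full_core (hTE : TE L) {g : G} (hT : NT F g) (hE : NE F g) {l m : F4} (hl : l ≠ 0)
    (hm : m ≠ 0) (hA : Acts F g true false l m) (h0 : L0 F) : Full F := by
  have hd := act_d F hA
  simp only [dact] at hd
  -- the image of `A_0`
  obtain ⟨b0, hb0⟩ : ∃ b0, ∀ a, g * F.x a * g⁻¹ =
      F.t (l * a ^ 2) 0 (l * a ^ 2 * b0) (l * a ^ 2 * b0 ^ 2) := by
    have e0 : ∀ s, (g * F.n1 * g) * F.d 0 s * (g * F.n1 * g)⁻¹ = g * F.x (l * m * s ^ 2) * g⁻¹ := by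
      intro s
      have e1 : (g * F.n1 * g) * F.d 0 s * (g * F.n1 * g)⁻¹ =
        g * (F.n1 * (g * F.d 0 s * g⁻¹) * F.n1⁻¹) * g⁻¹ := by group
      rw [e1, hd, F.n1_d]
      have e2 : l * m ^ 2 * (0 : F4) ^ 2 = 0 := by clear * - l m; revert l m; decide
      rw [e2, F.d_zero, mul_one]
    have hEk : ∀ x, x ∈ F.E1 ↔ (g * F.n1 * g) * x * (g * F.n1 * g)⁻¹ ∈ F.E1 := by
      intro x
      have e1 : (g * F.n1 * g) * x * (g * F.n1 * g)⁻¹ =
        g * (F.n1 * (g * x * g⁻¹) * F.n1⁻¹) * g⁻¹ := by group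
      rw [e1, ← hE.1, ← P_n1.e, ← hE.1]
    have hsurj : ∀ l m : F4, l ≠ 0 → m ≠ 0 → ∀ a : F4, ∃ s, a = l * m * s ^ 2 := by decide
    have hne : ∀ a, a ≠ 0 → g * F.x a * g⁻¹ ∉ F.D0 := by
      intro a ha h
      rw [← D0_iff F hT] at h
      obtain ⟨c, s, h5⟩ := h
      rw [F.x_eq_t, F.d_eq_t] at h5
      exact ha (F.t_inj h5).1
    rcases h0 _ hEk with h | h | ⟨b, h⟩
    · exfalso
      obtain ⟨s, hs⟩ := hsurj l m hl hm 1
      obtain ⟨s', hs'⟩ := h s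
      rw [e0, ← hs] at hs'
      exact hne 1 one_ne_zero ⟨_, _, hs'⟩
    · exfalso
      obtain ⟨s, hs⟩ := hsurj l m hl hm 1
      obtain ⟨s', hs'⟩ := h s
      rw [e0, ← hs] at hs'
      exact hne 1 one_ne_zero ⟨_, _, hs'⟩
    · refine ⟨b, fun a => ?_⟩
      obtain ⟨s, hs⟩ := hsurj l m hl hm a
      obtain ⟨a', ha'⟩ := h s
      rw [e0, ← hs, F.xd_eq_t] at ha'
      obtain ⟨c, s', h5⟩ := hA.1 a
      rw [ha', F.xd_eq_t] at h5
      have h6 : a' = l * a ^ 2 := (F.t_inj h5).1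
      rw [ha', h6]
  obtain ⟨k, -, hk⟩ := Frm.exists_v_pow hm
  -- the element `g2`
  set g2 := F.h ^ k * (F.y b0 * g) with hg2
  have hx2 : ∀ a, g2 * F.x a * g2⁻¹ = F.x (F4.w ^ k * l * a ^ 2) := by
    intro a
    have e1 : g2 * F.x a * g2⁻¹ =
      F.h ^ k * (F.y b0 * (g * F.x a * g⁻¹) * (F.y b0)⁻¹) * (F.h ^ k)⁻¹ := by
      rw [hg2]; group
    rw [e1, hb0, F.y_eq_t, F.t_conj]
    have e2 : l * a ^ 2 * b0 + (0 * 0 + l * a ^ 2 * b0) = 0 := by
      have := Frm.f4_add_self (l * a ^ 2 * b0)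
      linear_combination this
    have e3 : l * a ^ 2 * b0 ^ 2 + (0 * 0 ^ 2 + l * a ^ 2 * b0 ^ 2) = 0 := by
      have := Frm.f4_add_self (l * a ^ 2 * b0 ^ 2)
      linear_combination this
    rw [e2, e3, ← F.x_eq_t, F.h_pow_x]
    congr 1
    ring
  have hd2 : ∀ c s, g2 * F.d c s * g2⁻¹ = F.d (F4.w ^ k * l * s ^ 2) (F4.w ^ k * l * c ^ 2) := by
    intro c s
    have e1 : g2 * F.d c s * g2⁻¹ =
      F.h ^ k * (F.y b0 * (g * F.d c s * g⁻¹) * (F.y b0)⁻¹) * (F.h ^ k)⁻¹ := by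
      rw [hg2]; group
    rw [e1, hd, F.y_d, mul_inv_cancel_right, F.h_pow_d]
    have key : ∀ p : F4, p ≠ 0 → F4.w ^ k * m = 1 → F4.v ^ k * m = F4.w ^ k ∧ F4.w ^ k = m ^ 2 := by
      intro p hp hk
      have h3 : F4.v ^ k = (F4.w ^ k) ^ 2 := by
        have : F4.v = F4.w ^ 2 := by decide
        rw [this, ← pow_mul, ← pow_mul, mul_comm]
      have key2 : ∀ q m : F4, q * m = 1 → q ^ 2 * m = q ∧ q = m ^ 2 := by decide
      rw [h3]
      exact key2 _ _ hk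
    obtain ⟨h3, h4⟩ := key l hl hk
    congr 1
    · rw [← h3]; ring
    · rw [h4]; ring
  have he2 : ∀ x, x ∈ F.E1 ↔ g2 * x * g2⁻¹ ∈ F.E1 := by
    have hh : ∀ x, x ∈ F.E1 ↔ F.h ^ k * x * (F.h ^ k)⁻¹ ∈ F.E1 := by
      have key : ∀ (q : F4), q ≠ 0 → ∀ a : F4, q * (q⁻¹ * a) = a := fun q hq a =>
        mul_inv_cancel_left₀ hq a
      have hw : F4.w ^ k ≠ 0 := pow_ne_zero _ (by decide)
      have hv : F4.v ^ k ≠ 0 := pow_ne_zero _ (by decide)
      refine e_of_param (f := fun p => (F4.w ^ k * p.1, F4.v ^ k * p.2.1, p.2.2))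
        (fun a => ?_) ?_
      · rw [F.h_pow_t, mul_zero]
      · rintro ⟨a, c, s⟩
        refine ⟨((F4.w ^ k)⁻¹ * a, (F4.v ^ k)⁻¹ * c, s), ?_⟩
        simp only [key _ hw, key _ hv]
    intro x
    have e1 : g2 * x * g2⁻¹ =
      F.h ^ k * (F.y b0 * (g * x * g⁻¹) * (F.y b0)⁻¹) * (F.h ^ k)⁻¹ := by
      rw [hg2]; group
    rw [e1, ← hh, ← (P_y b0).e, ← hE.1]
  have hP : P F g2 fs :=
    P_s (mul_ne_zero (pow_ne_zero _ (by decide)) hl) he2 hx2 hd2
  obtain ⟨r, l0, hl0, hr, hrA⟩ := exists_field hTE hP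
  refine gen (fun e e' l m => ∃ g, NT F g ∧ Acts F g e e' l m) ?_ ⟨F.h, NT_h, acts_h F⟩ hl hm hl0
    ⟨g, hT, hA⟩ ⟨r, hr, hrA⟩
  rintro e e' e1 e1' l m l1 m1 ⟨g, h1, h2⟩ ⟨g', h1', h2'⟩
  exact ⟨g * g', h1.mul h1', acts_mul F h2 h2'⟩

/-! ### Swapping -/

theorem NT_swap {g : G} : NT F.swap g ↔ NT F g := by
  unfold NT
  rw [swap_T0]

theorem NE_swap {g : G} (h : NE F g) : NE F.swap g := by
  unfold NE at h ⊢
  rw [swap_E1, swap_E2]
  exact ⟨h.2, h.1⟩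

theorem acts_swap {g : G} {e e' : Bool} {l m : F4} (h : Acts F g e e' l m) :
    Acts F.swap g e' e m l := by
  have key : ∀ p : F4, (p ^ 2) ^ 2 = p := by decide
  constructor
  · intro a
    obtain ⟨c, s, h1⟩ := h.2 a
    refine ⟨c, s ^ 2, ?_⟩
    change g * F.y a * g⁻¹ = F.y (sm e' m a) * F.d c ((s ^ 2) ^ 2)
    rw [h1, key]
  · intro a
    obtain ⟨c, s, h1⟩ := h.1 a
    refine ⟨c, s ^ 2, ?_⟩
    change g * F.x a * g⁻¹ = F.x (sm e l a) * F.d c ((s ^ 2) ^ 2)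
    rw [h1, key]

theorem acts_of_swap {g : G} {e e' : Bool} {l m : F4} (h : Acts F.swap g e e' l m) :
    Acts F g e' e m l :=
  ⟨fun a => by
    obtain ⟨c, s, h1⟩ := h.2 a
    exact ⟨c, s ^ 2, h1⟩,
   fun a => by
    obtain ⟨c, s, h1⟩ := h.1 a
    exact ⟨c, s ^ 2, h1⟩⟩

theorem full_of_swap (h : Full F.swap) : Full F := by
  intro e e' l m hl hm
  obtain ⟨g, h1, h2⟩ := h e' e m l hm hl
  exact ⟨g, NT_swap.1 h1, acts_of_swap h2⟩

/-- **(A2)** -/
theorem full (hTE : TE L) (h1 : A1 F) (h0 : L0 F) (h0' : L0 F.swap) : Full F := by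
  obtain ⟨g, hT, hE, hV, -⟩ := h1
  obtain ⟨e, e', l, m, hl, hm, hA⟩ := exists_acts F hT hE.1 hE.2
  have k0 : (dact e e' l m 0 1).2 = 0 := by
    obtain ⟨c, hc⟩ := hV 1
    rw [act_d F hA] at hc
    exact (T0.d_inj F hc).2
  have key : ∀ (e e' : Bool) (l m : F4), l ≠ 0 → m ≠ 0 → (dact e e' l m 0 1).2 = 0 →
      (e = true ∧ e' = false) ∨ (e = false ∧ e' = true) := by decide
  rcases key e e' l m hl hm k0 with ⟨rfl, rfl⟩ | ⟨rfl, rfl⟩
  · exact full_core hTE hT hE hl hm hA h0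
  · exact full_of_swap (full_core hTE (NT_swap.2 hT) (NE_swap hE) hm hl (acts_swap hA) h0')

end Cfsg.Agent.StandardComponent.HeldType.Lines
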