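import Cfsg.Agent.StandardComponent.HeldType.Gamma
import Cfsg.Agent.StandardComponent.HeldType.NoSwap
import Cfsg.Agent.StandardComponent.HeldType.Lines
import Cfsg.Agent.StandardComponent.HeldType.InvConj

/-!
The results of `SixLines`, `Sigma`, `Gamma` in the forms used in `NoSwap`, `Lines`, `InvConj`.
-/

set_option autoImplicit false

namespace Cfsg.Agent.StandardComponent.HeldType.Bridge

open Cfsg.Agent.Lib.FieldFour Cfsg.Agent.StandardComponent.HeldType.Frame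
  Cfsg.Agent.StandardComponent.HeldType.Act Cfsg.Agent.StandardComponent.HeldType.ActType
  Cfsg.Agent.StandardComponent.HeldType.Basic Cfsg.Agent.StandardComponent.HeldType.Ctx
  Cfsg.Agent.StandardComponent.HeldType.SixLines Cfsg.Agent.StandardComponent.HeldType.Sigma
  Cfsg.Agent.StandardComponent.HeldType.Gamma

variable {G : Type*} [Group G] {L : Subgroup G} {F : Frm L}

/-- all types fixing `E1`, `E2` occur in `N(T0)` -/
theorem full [Finite G] (H : Sit F) : NoSwap.Full F := fun e e' _ _ hl hm =>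
  exists_type H e e' hl hm

/-- the conjugates of `V` contained in `E1` are lines -/
theorem l0_aux [Finite G] (H : Sit F) (g : G) (hg : ∀ x, x ∈ F.E1 ↔ g * x * g⁻¹ ∈ F.E1) :
    (∀ s, ∃ s', g * F.d 0 s * g⁻¹ = F.d 0 s') ∨ (∀ s, ∃ c, g * F.d 0 s * g⁻¹ = F.d c 0) ∨
      ∃ b, ∀ s, ∃ a, g * F.d 0 s * g⁻¹ = F.x a * F.d (a * b) (a * b ^ 2) := by
  have h1 : cj g F.V ≤ F.E1 := by
    rw [← cj_eq_iff.2 hg]
    exact cj_mono g V_le_E1
  rcases line_cases H h1 with h | h | ⟨b, h⟩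
  · exact Or.inl fun s => (cj_eq_iff.1 h _).1 ⟨s, rfl⟩
  · exact Or.inr (Or.inl fun s => (cj_eq_iff.1 h _).1 ⟨s, rfl⟩)
  · refine Or.inr (Or.inr ⟨b, fun s => ?_⟩)
    obtain ⟨a, ha⟩ := (cj_eq_iff.1 h _).1 ⟨s, rfl⟩
    exact ⟨a, by rw [ha, F.xd_eq_t]⟩

theorem l0_lines [Finite G] (H : Sit F) : Lines.L0 F := l0_aux H

theorem l0_inv [Finite G] (H : Sit F) : InvConj.L0 F := l0_aux H

theorem l0_lines_swap [Finite G] (H : Sit F) : Lines.L0 F.swap := l0_aux (sit_swap H)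

theorem l0_inv_swap [Finite G] (H : Sit F) : InvConj.L0 F.swap := l0_aux (sit_swap H)

theorem a1_aux [Finite G] (H : Sit F) : ∃ g, NT F g ∧ NE F g ∧
    (∀ s, ∃ c, g * F.d 0 s * g⁻¹ = F.d c 0) ∧ (∀ c, ∃ s, g * F.d c 0 * g⁻¹ = F.d 0 s) := by
  obtain ⟨g, h1, h2, h3, h4⟩ := exists_swapNE H
  exact ⟨g, h1, h2, fun s => (cj_eq_iff.1 h3 _).1 ⟨s, rfl⟩, fun s => (cj_eq_iff.1 h4 _).1 ⟨s, rfl⟩⟩

theorem a1_lines [Finite G] (H : Sit F) : Lines.A1 F := a1_aux H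

theorem a1_inv [Finite G] (H : Sit F) : InvConj.A1 F := a1_aux H

end Cfsg.Agent.StandardComponent.HeldType.Bridge
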