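import Cfsg.Agent.ONType.Nontriv
import Cfsg.Agent.ONType.OuterC
import Cfsg.Agent.StdL34.PslCent
import Cfsg.Agent.StandardComponent.HeldType.Frame

/-!
Existence of frames on perfect central extensions of `PSL(3,4)` by a Klein four-group.
-/

set_option autoImplicit false
set_option linter.constructorNameAsVariable false
set_option linter.unusedVariables false

namespace Cfsg.Agent.StandardComponent.HeldType.Exists

open Cfsg.Agent.ONType.Psl Cfsg.Agent.ONType.Lift Cfsg.Agent.ONType.Comm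
open Cfsg.Agent.StandardComponent.HeldType.Frame

/-- the field of the frames -/
abbrev A4 : Type := Cfsg.Agent.Lib.FieldFour.F4
/-- the field of the library on `PSL(3,4)` -/
abbrev B4 : Type := Cfsg.Agent.SporadicA.FieldFour.F4

/-- the isomorphism between the two copies of the field with four elements -/
def cv : A4 → B4
  | .o => .z
  | .i => .o
  | .w => .w
  | .v => .v

/-- the inverse isomorphism -/
def cvi : B4 → A4
  | .z => .o
  | .o => .i
  | .w => .w
  | .v => .v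

theorem cv_cvi (u : B4) : cv (cvi u) = u := by cases u <;> rfl
theorem cvi_cv (u : A4) : cvi (cv u) = u := by cases u <;> rfl
theorem cv_add (a b : A4) : cv (a + b) = cv a + cv b := by revert a b; decide
theorem cv_mul (a b : A4) : cv (a * b) = cv a * cv b := by revert a b; decide
theorem cv_zero : cv 0 = 0 := rfl
theorem cv_one : cv 1 = 1 := rfl
theorem cv_sq (a : A4) : cv (a ^ 2) = cv a * cv a := by revert a; decide
theorem cv_inj {a b : A4} (h : cv a = cv b) : a = b := by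
  have := congrArg cvi h
  rwa [cvi_cv, cvi_cv] at this

section Klein

variable {M : Type*} [Group M] {π : M →* PSL3} (C : CExt π)
include C

theorem f_one (h2 : ∀ k, π k = 1 → k * k = 1) (s : B4) : C.f s = 1 := by
  have h := C.g_sq (s * s)
  rw [h2 _ (C.g_map _)] at h
  have e : ∀ s : B4, s * s * (s * s) = s := by decide
  rw [e] at h
  exact h.symm

theorem g_add' (h2 : ∀ k, π k = 1 → k * k = 1) (s s' : B4) :
    C.g (s + s') = C.g s * C.g s' := by
  rw [C.g_add, f_one C h2, mul_one]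

theorem g_self (h2 : ∀ k, π k = 1 → k * k = 1) (s : B4) : C.g s * C.g s = 1 :=
  h2 _ (C.g_map s)

/-- the kernel is the image of `g` -/
theorem g_surj [Finite M] (h2 : ∀ k, π k = 1 → k * k = 1) (hperf : commutator M = ⊤)
    (hker : Nat.card π.ker = 4) : ∀ z, π z = 1 → ∃ s, z = C.g s := by
  intro z hz
  by_contra hcon
  have hf := f_one C h2
  let A : Subgroup M :=
    { carrier := {k | ∃ s, k = C.g s}
      mul_mem' := by
        rintro _ _ ⟨s, rfl⟩ ⟨s', rfl⟩
        exact ⟨s + s', (g_add' C h2 s s').symm⟩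
      one_mem' := ⟨0, C.g_zero.symm⟩
      inv_mem' := by
        rintro _ ⟨s, rfl⟩
        exact ⟨s, inv_eq_of_mul_eq_one_left (g_self C h2 s)⟩ }
  have hA : A ≤ π.ker := by
    rintro _ ⟨s, rfl⟩
    exact C.g_map s
  have hzA : z ∉ A := hcon
  have hAne : A ≠ π.ker := fun e => hzA (by rw [e]; exact hz)
  -- a subgroup of order two containing `A` but not `z`
  obtain ⟨B, hAB, hBk, hzB, hcB⟩ : ∃ B : Subgroup M, A ≤ B ∧ B ≤ π.ker ∧ z ∉ B ∧ Nat.card B = 2 := by
    have hdvd : Nat.card A ∣ 4 := hker ▸ Subgroup.card_dvd_of_le hA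
    have hlt : Nat.card A < 4 := by
      rcases Nat.lt_or_ge (Nat.card A) 4 with h | h
      · exact h
      · exact absurd (Subgroup.eq_of_le_of_card_ge hA (by rw [hker]; exact h)) hAne
    have h0 : 0 < Nat.card A := Nat.card_pos
    have h3 : Nat.card A ≠ 3 := by
      intro h; rw [h] at hdvd; exact absurd hdvd (by decide)
    rcases (by omega : Nat.card A = 1 ∨ Nat.card A = 2) with h | h
    · have hA1 : A = ⊥ := Subgroup.card_eq_one.mp h
      have hz1 : z ≠ 1 := fun e => hzA (e ▸ A.one_mem)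
      -- another element of the kernel
      have hex : ∃ y ∈ π.ker, y ≠ 1 ∧ y ≠ z := by
        by_contra hno
        push Not at hno
        have hsub : (π.ker : Set M) ⊆ {1, z} := by
          intro y hy
          by_cases h1 : y = 1
          · exact Or.inl h1
          · exact Or.inr (hno y hy h1)
        have h1 : Nat.card π.ker ≤ 2 := by
          have h2 := Set.ncard_le_ncard hsub (Set.toFinite _)
          have h3 : ({1, z} : Set M).ncard ≤ 2 := Set.ncard_insert_le 1 {z} |>.trans (by simp)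
          exact (Nat.card_coe_set_eq _ ▸ h2).trans h3
        omega
      obtain ⟨y, hy, hy1, hyz⟩ := hex
      have hyy : y * y = 1 := h2 y hy
      refine ⟨Subgroup.zpowers y, by rw [hA1]; exact bot_le, ?_, ?_, ?_⟩
      · rw [Subgroup.zpowers_le]; exact hy
      · intro hmem
        rw [Subgroup.mem_zpowers_iff] at hmem
        obtain ⟨k, hk⟩ := hmem
        rcases Int.even_or_odd' k with ⟨n, hn | hn⟩
        · rw [hn, zpow_mul] at hk
          have : y ^ (2 : ℤ) = 1 := by rw [← hyy]; exact zpow_two y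
          rw [this, one_zpow] at hk
          exact hz1 hk.symm
        · rw [hn, zpow_add, zpow_mul] at hk
          have : y ^ (2 : ℤ) = 1 := by rw [← hyy]; exact zpow_two y
          rw [this, one_zpow, one_mul, zpow_one] at hk
          exact hyz hk
      · rw [Nat.card_zpowers]
        exact orderOf_eq_prime (by rw [pow_two]; exact hyy) hy1
    · exact ⟨A, le_rfl, hA, hzA, h⟩
  have hgB : ∀ s, C.g s ∈ B := fun s => hAB ⟨s, rfl⟩
  have hgK : ∀ s, C.g s ∈ π.ker := fun s => C.g_map s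
  set P := C.W hf π.ker le_rfl hgK with hP
  set Q := C.W hf B hBk hgB with hQ
  have cP : Nat.card P = 256 := by rw [hP, C.card_W, hker]
  have cQ : Nat.card Q = 128 := by rw [hQ, C.card_W, hcB]
  have hQP : Q ≤ P := by
    rintro _ ⟨a, b, c, k, hk, rfl⟩
    exact ⟨a, b, c, k, hBk hk, rfl⟩
  have hidx : P.index = 315 := by
    have h := Subgroup.card_mul_index P
    rw [cP, C.card_M, hker] at h
    omega
  have hrel : (Q.subgroupOf P).index = 2 := by
    have h := Subgroup.card_mul_index (Q.subgroupOf P)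
    have h2 : Nat.card (Q.subgroupOf P) = 128 := by
      rw [← cQ]
      exact Nat.card_congr (Subgroup.subgroupOfEquivOfLe hQP).toEquiv
    rw [h2, cP] at h
    omega
  have hnz : C.nf 0 0 0 z = z := by
    unfold CExt.nf
    rw [C.x_zero 0 1 (by decide), C.x_zero 1 2 (by decide), C.x_zero 0 2 (by decide)]
    group
  have hzP : z ∈ P := ⟨0, 0, 0, z, hz, hnz.symm⟩
  have hzc : z ∈ Subgroup.center M := by
    rw [Subgroup.mem_center_iff]
    intro m
    exact (C.cen z hz m).symm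
  refine Cfsg.Agent.ONType.Transfer.not_mem_commutator_of_index_two P (by rw [hidx]; decide)
    (Q.subgroupOf P) hrel z hzP hzc ?_ (by rw [hperf]; exact Subgroup.mem_top z)
  intro hmem
  rw [Subgroup.mem_subgroupOf] at hmem
  obtain ⟨a, b, c, k, hk, e⟩ := hmem
  have e0 : C.nf 0 0 0 z = C.nf a b c k := by
    rw [hnz]; exact e
  obtain ⟨-, -, -, h4⟩ := C.nf_inj hz (hBk hk) e0
  exact hzB (h4 ▸ hk)

theorem g_inj [Finite M] (h2 : ∀ k, π k = 1 → k * k = 1) (hperf : commutator M = ⊤)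
    (hker : Nat.card π.ker = 4) : Function.Injective C.g := by
  have hs := g_surj C h2 hperf hker
  let φ : B4 → π.ker := fun s => ⟨C.g s, C.g_map s⟩
  have hφ : Function.Surjective φ := by
    rintro ⟨k, hk⟩
    obtain ⟨s, hs⟩ := hs k hk
    exact ⟨s, Subtype.ext hs.symm⟩
  have hb : Function.Bijective φ := by
    refine (Nat.bijective_iff_surjective_and_card φ).2 ⟨hφ, ?_⟩
    rw [hker, Nat.card_eq_fintype_card]; rfl
  intro s s' h
  exact hb.1 (Subtype.ext h)

end Klein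


/-! ### The coordinates -/

section Coord

variable {G : Type*} [Group G] {L : Subgroup G} {π : L →* PSL3} (C : CExt π)

/-- root elements as elements of `G` -/
noncomputable def X (i j : Fin 3) (u : A4) : G := (C.x i j (cv u) : L)

/-- central elements as elements of `G` -/
noncomputable def Z (s : A4) : G := (C.g (cv s) : L)

/-- elements of `D0` -/
noncomputable def dd (c s : A4) : G := X C 0 2 c * Z C s

/-- the order three element -/
noncomputable def hh' : G := ((C.h)⁻¹ : L)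

/-- reflections -/
noncomputable def nn' (i j : Fin 3) : G := (C.n i j : L)

theorem X_mem (i j : Fin 3) (u : A4) : X C i j u ∈ L := (C.x i j (cv u)).2
theorem Z_mem (s : A4) : Z C s ∈ L := (C.g (cv s)).2
theorem dd_mem (c s : A4) : dd C c s ∈ L := L.mul_mem (X_mem C _ _ _) (Z_mem C _)
theorem hh_mem : hh' C ∈ L := ((C.h)⁻¹).2
theorem nn_mem (i j : Fin 3) : nn' C i j ∈ L := (C.n i j).2

theorem X_add (i j : Fin 3) (hij : i ≠ j) (u v : A4) : X C i j (u + v) = X C i j u * X C i j v := by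
  unfold X
  rw [cv_add, ← C.x_add i j hij, Subgroup.coe_mul]

theorem X_zero (i j : Fin 3) (hij : i ≠ j) : X C i j 0 = 1 := by
  unfold X
  rw [cv_zero, C.x_zero i j hij, Subgroup.coe_one]

theorem Z_zero : Z C 0 = 1 := by
  unfold Z
  rw [cv_zero, C.g_zero, Subgroup.coe_one]

theorem Z_comm (s : A4) {l : G} (hl : l ∈ L) : Z C s * l = l * Z C s := by
  have := congrArg (Subtype.val) (C.g_cen (cv s) ⟨l, hl⟩)
  exact this

theorem Z_add (h2 : ∀ k, π k = 1 → k * k = 1) (s s' : A4) : Z C (s + s') = Z C s * Z C s' := by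
  unfold Z
  rw [cv_add, g_add' C h2, Subgroup.coe_mul]

theorem Z_sq (h2 : ∀ k, π k = 1 → k * k = 1) (s : A4) : Z C s * Z C s = 1 := by
  rw [← Z_add C h2]
  have : ∀ s : A4, s + s = 0 := by decide
  rw [this, Z_zero]

theorem dd_add (h2 : ∀ k, π k = 1 → k * k = 1) (c c' s s' : A4) :
    dd C (c + c') (s + s') = dd C c s * dd C c' s' := by
  unfold dd
  rw [X_add C 0 2 (by decide), Z_add C h2]
  have := Z_comm C s (X_mem C 0 2 c')
  calc X C 0 2 c * X C 0 2 c' * (Z C s * Z C s')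
      = X C 0 2 c * (X C 0 2 c' * Z C s) * Z C s' := by group
    _ = _ := by rw [← this]; group

theorem X_comm_row (h2 : ∀ k, π k = 1 → k * k = 1) (u v : A4) :
    X C 0 1 u * X C 0 2 v = X C 0 2 v * X C 0 1 u := by
  have h := C.rel_row 0 1 2 (by decide) (by decide) (by decide) (cv u) (cv v)
  rw [f_one C h2, mul_one] at h
  exact congrArg Subtype.val h

theorem X_comm_col (h2 : ∀ k, π k = 1 → k * k = 1) (u v : A4) :
    X C 1 2 u * X C 0 2 v = X C 0 2 v * X C 1 2 u := by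
  have h := C.rel_col 1 2 0 (by decide) (by decide) (by decide) (cv u) (cv v)
  rw [f_one C h2, mul_one] at h
  exact congrArg Subtype.val h

theorem x_dd (h2 : ∀ k, π k = 1 → k * k = 1) (a c s : A4) :
    X C 0 1 a * dd C c s = dd C c s * X C 0 1 a := by
  unfold dd
  rw [← mul_assoc, X_comm_row C h2, mul_assoc, ← Z_comm C s (X_mem C 0 1 a), mul_assoc]

theorem y_dd (h2 : ∀ k, π k = 1 → k * k = 1) (a c s : A4) :
    X C 1 2 a * dd C c s = dd C c s * X C 1 2 a := by
  unfold dd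
  rw [← mul_assoc, X_comm_col C h2, mul_assoc, ← Z_comm C s (X_mem C 1 2 a), mul_assoc]

theorem y_x' (h2 : ∀ k, π k = 1 → k * k = 1) (a b : A4) :
    X C 1 2 b * X C 0 1 a = X C 0 1 a * X C 1 2 b * dd C (a * b) (a * b ^ 2) := by
  have h := C.mul_swap (f_one C h2) (cv b) (cv a)
  have e1 : cv a * cv b = cv (a * b) := (cv_mul a b).symm
  have e2 : cv a * (cv b * cv b) = cv (a * b ^ 2) := by rw [cv_mul, cv_sq]
  have e3 : (C.g (cv (a * b ^ 2)))⁻¹ = C.g (cv (a * b ^ 2)) :=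
    inv_eq_of_mul_eq_one_left (g_self C h2 _)
  rw [e1, e2, e3] at h
  have h3 := congrArg Subtype.val h
  unfold dd
  rw [← mul_assoc]
  exact h3

/-- the general element -/
noncomputable def tt (a b c s : A4) : G := X C 0 1 a * X C 1 2 b * dd C c s

theorem tt_eq (a b c s : A4) :
    tt C a b c s = (C.nf (cv a) (cv b) (cv c) (C.g (cv s)) : L) := by
  unfold tt dd CExt.nf
  rw [← mul_assoc]; rfl

theorem tt_mem (a b c s : A4) : tt C a b c s ∈ L := by
  rw [tt_eq]; exact (C.nf _ _ _ _).2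

theorem tt_inj (hinj : Function.Injective C.g) {a b c s a' b' c' s' : A4}
    (h : tt C a b c s = tt C a' b' c' s') : a = a' ∧ b = b' ∧ c = c' ∧ s = s' := by
  rw [tt_eq, tt_eq] at h
  obtain ⟨h1, h2, h3, h4⟩ := C.nf_inj (C.g_map _) (C.g_map _) (Subtype.ext h)
  exact ⟨cv_inj h1, cv_inj h2, cv_inj h3, cv_inj (hinj h4)⟩

theorem tt_zero : tt C 0 0 0 0 = 1 := by
  unfold tt dd
  rw [X_zero C 0 1 (by decide), X_zero C 1 2 (by decide), X_zero C 0 2 (by decide), Z_zero]
  group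

/-- characterisation of the elements of the Sylow subgroup -/
theorem mem_tt_iff (hs : ∀ z, π z = 1 → ∃ s, z = C.g s) (g : G) (hg : g ∈ L) :
    (∃ a b c s, g = tt C a b c s) ↔ π ⟨g, hg⟩ * t 0 2 1 = t 0 2 1 * π ⟨g, hg⟩ := by
  rw [Cfsg.Agent.StdL34.PslCent.cent_t02]
  constructor
  · rintro ⟨a, b, c, s, h⟩
    have h1 : (⟨g, hg⟩ : L) = C.nf (cv a) (cv b) (cv c) (C.g (cv s)) :=
      Subtype.ext (h.trans (tt_eq C a b c s))
    exact ⟨cv a, cv b, cv c, by rw [h1, C.map_nf _ _ _ _ (C.g_map _)]⟩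
  · rintro ⟨a, b, c, h⟩
    have h1 : π ((C.nf a b c 1)⁻¹ * ⟨g, hg⟩) = 1 := by
      rw [map_mul, map_inv, C.map_nf _ _ _ _ (map_one π), h, inv_mul_cancel]
    obtain ⟨s, hs'⟩ := hs _ h1
    refine ⟨cvi a, cvi b, cvi c, cvi s, ?_⟩
    rw [tt_eq, cv_cvi, cv_cvi, cv_cvi, cv_cvi]
    rw [inv_mul_eq_iff_eq_mul] at hs'
    have h2 : C.nf a b c 1 * C.g s = C.nf a b c (C.g s) := by unfold CExt.nf; group
    rw [h2] at hs'
    exact congrArg Subtype.val hs'

/-! ### The torus and the reflections -/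

/-- the weights of the torus element -/
def tau (i : Fin 3) : A4 := if i = 0 then 1 else if i = 1 then .w else .v

theorem tau_ne (i : Fin 3) : tau i ≠ 0 := by revert i; decide

theorem kap_eq (i j : Fin 3) (hij : i ≠ j) (u : A4) :
    kap i j * cv u = cv (tau j * (tau i)⁻¹ * u) := by
  revert i j u; decide

theorem hh_X (i j : Fin 3) (hij : i ≠ j) (u : A4) :
    hh' C * X C i j u * (hh' C)⁻¹ = X C i j (tau j * (tau i)⁻¹ * u) := by
  have h := C.h_conj_x i j hij (cv u)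
  rw [kap_eq i j hij] at h
  have h3 := congrArg Subtype.val h
  unfold hh' X
  rw [← h3]
  simp

theorem hh_pow_X (k : ℕ) (i j : Fin 3) (hij : i ≠ j) (u : A4) :
    hh' C ^ k * X C i j u * (hh' C ^ k)⁻¹ = X C i j ((tau j * (tau i)⁻¹) ^ k * u) := by
  induction k with
  | zero => simp
  | succ k ih =>
    rw [pow_succ']
    calc hh' C * hh' C ^ k * X C i j u * (hh' C * hh' C ^ k)⁻¹
        = hh' C * (hh' C ^ k * X C i j u * (hh' C ^ k)⁻¹) * (hh' C)⁻¹ := by group
      _ = _ := by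
        rw [ih, hh_X C i j hij]
        congr 1; ring

theorem hh_pow3 : hh' C ^ 3 = 1 := by
  have h := C.h_pow
  have h3 : ((C.h)⁻¹) ^ 3 = 1 := by rw [inv_pow, h, inv_one]
  exact congrArg Subtype.val h3

theorem nn_X (i j k m : Fin 3) (hij : i ≠ j) (hkm : k ≠ m) (u : A4) :
    nn' C i j * X C k m u * (nn' C i j)⁻¹ = X C (Equiv.swap i j k) (Equiv.swap i j m) u := by
  have h := C.n_conj_x i j k m hij hkm (cv u)
  have h3 := congrArg Subtype.val h
  have h4 := C.n_inv i j hij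
  unfold nn' X
  rw [← h3]
  have h5 : ((C.n i j : L) : G)⁻¹ = ((C.n i j)⁻¹ : L) := rfl
  rw [h5, h4]
  simp only [Subgroup.coe_mul]

theorem nn_h (i j : Fin 3) (hij : i ≠ j) : nn' C i j * hh' C * (nn' C i j)⁻¹ = (hh' C)⁻¹ := by
  have h := C.n_conj_h i j hij
  have h4 := C.n_inv i j hij
  have h6 : C.n i j * (C.h)⁻¹ * (C.n i j)⁻¹ = (C.h)⁻¹⁻¹ := by
    have h8 : (C.n i j)⁻¹ * (C.h)⁻¹ * C.n i j = ((C.n i j)⁻¹ * C.h * C.n i j)⁻¹ := by group
    have h7 : (C.n i j)⁻¹ * (C.h)⁻¹ * C.n i j = (C.h)⁻¹⁻¹ := by rw [h8, h]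
    rw [h4] at h7 ⊢
    exact h7
  exact congrArg Subtype.val h6

/-! ### Automorphisms -/

theorem X01_inj (hinj : Function.Injective C.g) {u v : A4} (h : X C 0 1 u = X C 0 1 v) :
    u = v := by
  have key : ∀ u, X C 0 1 u = tt C u 0 0 0 := by
    intro u
    unfold tt dd
    rw [X_zero C 1 2 (by decide), X_zero C 0 2 (by decide), Z_zero]
    group
  rw [key, key] at h
  exact (tt_inj C hinj h).1

theorem X12_inj (hinj : Function.Injective C.g) {u v : A4} (h : X C 1 2 u = X C 1 2 v) :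
    u = v := by
  have key : ∀ u, X C 1 2 u = tt C 0 u 0 0 := by
    intro u
    unfold tt dd
    rw [X_zero C 0 1 (by decide), X_zero C 0 2 (by decide), Z_zero]
    group
  rw [key, key] at h
  exact (tt_inj C hinj h).2.1

/-- conjugation by an element normalising `L` -/
def autOf (g : G) (hg : ∀ l, l ∈ L ↔ g * l * g⁻¹ ∈ L) : MulAut L where
  toFun l := ⟨g * l * g⁻¹, (hg _).1 l.2⟩
  invFun l := ⟨g⁻¹ * l * g, by
    rw [hg]
    have : g * (g⁻¹ * (l : G) * g) * g⁻¹ = l := by group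
    rw [this]; exact l.2⟩
  left_inv l := by
    apply Subtype.ext
    show g⁻¹ * (g * (l : G) * g⁻¹) * g = l
    group
  right_inv l := by
    apply Subtype.ext
    show g * (g⁻¹ * (l : G) * g) * g⁻¹ = l
    group
  map_mul' l l' := by
    apply Subtype.ext
    show g * ((l : G) * (l' : G)) * g⁻¹ = (g * (l : G) * g⁻¹) * (g * (l' : G) * g⁻¹)
    group

theorem coe_autOf (g : G) (hg : ∀ l, l ∈ L ↔ g * l * g⁻¹ ∈ L) (l : L) :
    ((autOf g hg l : L) : G) = g * l * g⁻¹ := rfl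

open Cfsg.Agent.ONType.OuterL Cfsg.Agent.ONType.OuterM in
/-- exact action of automorphisms -/
theorem exists_std' (hinj : Function.Injective C.g) (hcen : ∀ k : L, (∀ m, k * m = m * k) → π k = 1) (g : G)
    (hg : ∀ l, l ∈ L ↔ g * l * g⁻¹ ∈ L) :
    ∃ (m : G) (e : Bool) (δ : Fin 3 → A4), m ∈ L ∧ (∀ i, δ i ≠ 0) ∧
      (m * g) * hh' C * (m * g)⁻¹ = hm e (hh' C) ∧
      ((∀ i j, i ≠ j → ∀ u, (m * g) * X C i j u * (m * g)⁻¹ = X C i j (δ i * (δ j)⁻¹ * sm e 1 u)) ∨
       (∀ i j, i ≠ j → ∀ u, (m * g) * X C i j u * (m * g)⁻¹ =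
          X C (rv j) (rv i) (δ (rv j) * (δ (rv i))⁻¹ * sm e 1 u))) := by
  obtain ⟨β, hβ⟩ := exists_induced C hcen (autOf g hg)
  obtain ⟨l, d, hd, σ, hσ⟩ := exists_std β
  obtain ⟨m, hm'⟩ := C.surj l
  set γ : MulAut L := MulAut.conj m * autOf g hg with hγ
  have hγG : ∀ y : L, ((γ y : L) : G) = ((m : G) * g) * y * ((m : G) * g)⁻¹ := by
    intro y
    show (m : G) * (g * (y : G) * g⁻¹) * (m : G)⁻¹ = _
    group
  have hind : ∀ y, (MulAut.conj l * β) (π y) = π (γ y) := by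
    intro y
    rw [hγ, MulAut.mul_apply, MulAut.mul_apply, MulAut.conj_apply, MulAut.conj_apply, hβ, map_mul,
      map_mul, map_inv, hm']
  have hσ' : (∀ u, (σ : B4 → B4) u = u) ∨ (∀ u, (σ : B4 → B4) u = u * u) := ringEquiv_eq σ
  have hh1 : γ C.h = C.h ∨ γ C.h = (C.h)⁻¹ := by
    have h1 : (MulAut.conj l * β) hh = hh ∨ (MulAut.conj l * β) hh = hh⁻¹ := by
      rcases hσ with h | h
      · exact map_hh_one _ hσ' h
      · exact map_hh_two _ hσ' h
    have h3 : (γ C.h) ^ 3 = 1 := by rw [← map_pow, C.h_pow, map_one]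
    rw [← C.map_h, hind] at h1
    rcases h1 with h1 | h1
    · left; exact C.eq_of_cube h1 h3 C.h_pow
    · right
      refine C.eq_of_cube (by rw [h1, map_inv]) h3 (by rw [inv_pow, C.h_pow, inv_one])
  -- the type of `σ`
  obtain ⟨e, he⟩ : ∃ e : Bool, ∀ u : A4, (σ : B4 → B4) (cv u) = cv (sm e 1 u) := by
    rcases hσ' with h | h
    · refine ⟨false, fun u => ?_⟩
      have e1 : ∀ u : A4, cv (sm false 1 u) = cv u := by decide
      rw [h, e1]
    · refine ⟨true, fun u => ?_⟩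
      have e1 : ∀ u : A4, cv (sm true 1 u) = cv u * cv u := by decide
      rw [h, e1]
  have hdel : ∀ i j : Fin 3, ∀ u : A4,
      Cfsg.Agent.ONType.OuterL.dd d i * (Cfsg.Agent.ONType.OuterL.dd d j)⁻¹ * cv u =
        cv ((if i = 0 then cvi d else 1) * (if j = 0 then cvi d else 1)⁻¹ * u) := by
    clear * -
    revert d; decide
  have hne : ∀ i : Fin 3, (if i = 0 then cvi d else (1 : A4)) ≠ 0 := by
    intro i
    have key : ∀ d : B4, d ≠ 0 → cvi d ≠ 0 := by decide
    split_ifs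
    · exact key d hd
    · exact one_ne_zero
  -- the action on the root elements
  have hx : (∀ i j, i ≠ j → ∀ u, ((m : G) * g) * X C i j u * ((m : G) * g)⁻¹ =
        X C i j ((if i = 0 then cvi d else 1) * (if j = 0 then cvi d else 1)⁻¹ * sm e 1 u)) ∨
       (∀ i j, i ≠ j → ∀ u, ((m : G) * g) * X C i j u * ((m : G) * g)⁻¹ =
          X C (rv j) (rv i) ((if rv j = 0 then cvi d else 1) *
            (if rv i = 0 then cvi d else 1)⁻¹ * sm e 1 u)) := by
    rcases hσ with hσ | hσ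
    · left
      intro i j hij u
      have h1 : γ (C.x i j (cv u)) = C.x i j
          (Cfsg.Agent.ONType.OuterL.dd d i * (Cfsg.Agent.ONType.OuterL.dd d j)⁻¹ * σ (cv u)) :=
        C.x_map γ.toMonoidHom hh1 hij hij (C.map_x i j hij (cv u))
          (by
            show π (γ (C.x i j (cv u))) = _
            rw [← hind, C.map_x i j hij (cv u), hσ i j hij])
      unfold X
      rw [← hγG, h1]
      have h2 : σ (cv u) = cv (sm e 1 u) := he u
      rw [h2, hdel]
    · right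
      intro i j hij u
      have h1 : γ (C.x i j (cv u)) = C.x (rv j) (rv i)
          (Cfsg.Agent.ONType.OuterL.dd d (rv j) *
            (Cfsg.Agent.ONType.OuterL.dd d (rv i))⁻¹ * σ (cv u)) :=
        C.x_map γ.toMonoidHom hh1 hij (rv_ne hij.symm) (C.map_x i j hij (cv u))
          (by
            show π (γ (C.x i j (cv u))) = _
            rw [← hind, C.map_x i j hij (cv u), hσ i j hij])
      unfold X
      rw [← hγG, h1]
      have h2 : σ (cv u) = cv (sm e 1 u) := he u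
      rw [h2, hdel]
  refine ⟨m, e, fun i => if i = 0 then cvi d else 1, m.2, hne, ?_, hx⟩
  -- the action on `h`
  have hh2 : ((m : G) * g) * hh' C * ((m : G) * g)⁻¹ = hh' C ∨
      ((m : G) * g) * hh' C * ((m : G) * g)⁻¹ = (hh' C)⁻¹ := by
    have h3 : ((m : G) * g) * hh' C * ((m : G) * g)⁻¹ = ((γ C.h : L) : G)⁻¹ := by
      rw [hγG]
      unfold hh'
      rw [Subgroup.coe_inv]
      group
    rw [h3]
    rcases hh1 with h | h
    · left; rw [h]; rfl
    · right; rw [h]; rfl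
  have key : ∀ (i j : Fin 3) (hij : i ≠ j) (ρ : A4), ρ ≠ 0 →
      (∀ u v, X C i j u = X C i j v → u = v) → tau j * (tau i)⁻¹ = .w →
      (∀ u, ((m : G) * g) * X C 0 1 u * ((m : G) * g)⁻¹ = X C i j (ρ * sm e 1 u)) →
      ((m : G) * g) * hh' C * ((m : G) * g)⁻¹ = hm e (hh' C) := by
    intro i j hij ρ hρ hXi ht hk
    have e1 : hh' C * X C 0 1 1 * (hh' C)⁻¹ = X C 0 1 .w := by
      rw [hh_X C 0 1 (by decide)]; congr 1
    have e2 : ((m : G) * g) * X C 0 1 .w * ((m : G) * g)⁻¹ =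
        (((m : G) * g) * hh' C * ((m : G) * g)⁻¹) * (((m : G) * g) * X C 0 1 1 * ((m : G) * g)⁻¹) *
          (((m : G) * g) * hh' C * ((m : G) * g)⁻¹)⁻¹ := by
      rw [← e1]; group
    rw [hk, hk] at e2
    have hsm : ∀ ρ : A4, ρ ≠ 0 → ρ * sm false 1 .w ≠ .v * (ρ * sm false 1 1) ∧
        ρ * sm true 1 .w ≠ .w * (ρ * sm true 1 1) := by decide
    rcases hh2 with h | h
    · rw [h, hh_X C i j hij, ht] at e2
      cases e
      · exact h
      · exact absurd (hXi _ _ e2) (hsm ρ hρ).2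
    · have e3 : (hh' C)⁻¹ * X C i j (ρ * sm e 1 1) * (hh' C)⁻¹⁻¹ =
          X C i j (.v * (ρ * sm e 1 1)) := by
        have e4 := hh_X C i j hij (.v * (ρ * sm e 1 1))
        rw [ht] at e4
        have e5 : ∀ p : A4, .w * (.v * p) = p := by decide
        rw [e5] at e4
        rw [← e4]; group
      rw [h, e3] at e2
      cases e
      · exact absurd (hXi _ _ e2) (hsm ρ hρ).1
      · exact h
  rcases hx with hx | hx
  · refine key 0 1 (by decide) _ ?_ (fun u v h => X01_inj C hinj h) (by decide)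
      (fun u => hx 0 1 (by decide) u)
    exact mul_ne_zero (hne 0) (inv_ne_zero (hne 1))
  · refine key 1 2 (by decide) _ ?_ (fun u v h => X12_inj C hinj h) (by decide)
      (fun u => hx 0 1 (by decide) u)
    exact mul_ne_zero (hne (rv 1)) (inv_ne_zero (hne (rv 0)))

/-! ### The Sylow subgroup as a centraliser -/

theorem dd_comm_tt (h2 : ∀ k, π k = 1 → k * k = 1) (c0 s0 a b c s : A4) :
    dd C c0 s0 * tt C a b c s = tt C a b c s * dd C c0 s0 := by
  unfold tt
  have e1 := x_dd C h2 a c0 s0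
  have e2 := y_dd C h2 b c0 s0
  have e3 : dd C c0 s0 * dd C c s = dd C c s * dd C c0 s0 := by
    rw [← dd_add C h2, ← dd_add C h2, add_comm, add_comm s0]
  calc dd C c0 s0 * (X C 0 1 a * X C 1 2 b * dd C c s)
      = (dd C c0 s0 * X C 0 1 a) * X C 1 2 b * dd C c s := by group
    _ = X C 0 1 a * (dd C c0 s0 * X C 1 2 b) * dd C c s := by rw [← e1]; group
    _ = X C 0 1 a * X C 1 2 b * (dd C c0 s0 * dd C c s) := by rw [← e2]; group
    _ = _ := by rw [e3]; group

theorem X02_eq (c : A4) : X C 0 2 c = dd C c 0 := by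
  unfold dd; rw [Z_zero, mul_one]

/-- membership in the Sylow subgroup through commuting with `X 0 2 1` -/
theorem mem_tt_of_comm (hs : ∀ z, π z = 1 → ∃ s, z = C.g s) {g : G} (hg : g ∈ L)
    (h : g * X C 0 2 1 = X C 0 2 1 * g) : ∃ a b c s, g = tt C a b c s := by
  rw [mem_tt_iff C hs g hg]
  have h1 : (⟨g, hg⟩ : L) * C.x 0 2 1 = C.x 0 2 1 * ⟨g, hg⟩ := Subtype.ext h
  have h2 := congrArg π h1
  rw [map_mul, map_mul, C.map_x 0 2 (by decide)] at h2
  exact h2

theorem hh_dd (c s : A4) : hh' C * dd C c s * (hh' C)⁻¹ = dd C (.v * c) s := by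
  unfold dd
  have e1 := hh_X C 0 2 (by decide) c
  have e0 : tau 2 * (tau 0)⁻¹ = .v := by decide
  rw [e0] at e1
  rw [← e1]
  have e2 := Z_comm C s (hh_mem C)
  calc hh' C * (X C 0 2 c * Z C s) * (hh' C)⁻¹
      = hh' C * X C 0 2 c * (Z C s * (hh' C)⁻¹) := by group
    _ = _ := by rw [Z_comm C s (L.inv_mem (hh_mem C))]; group

theorem hh_tt (a b c s : A4) :
    hh' C * tt C a b c s * (hh' C)⁻¹ = tt C (.w * a) (.w * b) (.v * c) s := by
  unfold tt
  have e1 := hh_X C 0 1 (by decide) a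
  have e2 := hh_X C 1 2 (by decide) b
  have e3 := hh_dd C c s
  have e01 : tau 1 * (tau 0)⁻¹ = .w := by decide
  have e12 : tau 2 * (tau 1)⁻¹ = .w := by decide
  rw [e01] at e1
  rw [e12] at e2
  rw [← e1, ← e2, ← e3]
  group

theorem hh_pow_tt (k : ℕ) (a b c s : A4) :
    hh' C ^ k * tt C a b c s * (hh' C ^ k)⁻¹ = tt C (.w ^ k * a) (.w ^ k * b) (.v ^ k * c) s := by
  induction k with
  | zero => simp
  | succ k ih =>
    rw [pow_succ']
    calc hh' C * hh' C ^ k * tt C a b c s * (hh' C * hh' C ^ k)⁻¹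
        = hh' C * (hh' C ^ k * tt C a b c s * (hh' C ^ k)⁻¹) * (hh' C)⁻¹ := by group
      _ = _ := by
        rw [ih, hh_tt]
        congr 1 <;> ring

theorem dd_eq_tt (c s : A4) : dd C c s = tt C 0 0 c s := by
  unfold tt
  rw [X_zero C 0 1 (by decide), X_zero C 1 2 (by decide), one_mul, one_mul]

theorem hh_pow_dd (k : ℕ) (c s : A4) :
    hh' C ^ k * dd C c s * (hh' C ^ k)⁻¹ = dd C (.v ^ k * c) s := by
  rw [dd_eq_tt, hh_pow_tt, mul_zero, ← dd_eq_tt]

theorem exists_pow_one {c : A4} (hc : c ≠ 0) : ∃ k : ℕ, .v ^ k * c = 1 := by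
  have key : ∀ c : A4, c ≠ 0 → (.v ^ 0 * c = 1) ∨ (.v ^ 1 * c = 1) ∨ (.v ^ 2 * c = 1) := by decide
  rcases key c hc with h | h | h
  · exact ⟨_, h⟩
  · exact ⟨_, h⟩
  · exact ⟨_, h⟩

/-- the elements commuting modulo `V` with a noncentral element of `D0` -/
theorem mem_tt_of_conj (hs : ∀ z, π z = 1 → ∃ s, z = C.g s) {g : G} (hg : g ∈ L) {c s s' : A4}
    (hc : c ≠ 0) (h : g * dd C c s * g⁻¹ = dd C c s') : ∃ a b c s, g = tt C a b c s := by
  obtain ⟨k, hk⟩ := exists_pow_one hc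
  set g' := hh' C ^ k * g * (hh' C ^ k)⁻¹ with hg'
  have hg'L : g' ∈ L := L.mul_mem (L.mul_mem (L.pow_mem (hh_mem C) k) hg)
    (L.inv_mem (L.pow_mem (hh_mem C) k))
  have h1 : g' * dd C 1 s * g'⁻¹ = dd C 1 s' := by
    have e1 := hh_pow_dd C k c s
    have e2 := hh_pow_dd C k c s'
    rw [hk] at e1 e2
    rw [← e1, ← e2, ← h, hg']
    group
  have h2 : ∃ a b c s, g' = tt C a b c s := by
    rw [mem_tt_iff C hs g' hg'L]
    have h3 : (⟨g', hg'L⟩ : L) * (C.x 0 2 1 * C.g (cv s)) * (⟨g', hg'L⟩ : L)⁻¹ =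
      C.x 0 2 1 * C.g (cv s') := Subtype.ext h1
    have h4 := congrArg π h3
    rw [map_mul, map_mul, map_mul, map_mul, map_inv, C.g_map, C.g_map, mul_one,
      C.map_x 0 2 (by decide)] at h4
    rw [mul_inv_eq_iff_eq_mul] at h4
    exact h4
  obtain ⟨a, b, c', s'', h3⟩ := h2
  have hk3 : hh' C ^ (2 * k) = (hh' C ^ k)⁻¹ := by
    rw [eq_inv_iff_mul_eq_one, ← pow_add]
    have : 2 * k + k = 3 * k := by ring
    rw [this, pow_mul, hh_pow3, one_pow]
  have h4 : g = hh' C ^ (2 * k) * g' * (hh' C ^ (2 * k))⁻¹ := by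
    rw [hk3, hg']; group
  rw [h4, h3, hh_pow_tt]
  exact ⟨_, _, _, _, rfl⟩

/-- commutators of elements of the Sylow subgroup -/
theorem comm_tt (h2 : ∀ k, π k = 1 → k * k = 1) (hs : ∀ z, π z = 1 → ∃ s, z = C.g s)
    (a b c s a' b' c' s' : A4) : ∃ c0 s0,
    (tt C a b c s * tt C a' b' c' s')⁻¹ * (tt C a' b' c' s' * tt C a b c s) = dd C c0 s0 := by
  have hf := f_one C h2
  rw [tt_eq, tt_eq]
  set k1 := C.g (cv s)
  set k2 := C.g (cv s')
  have e1 := C.nf_mul hf (cv a) (cv b) (cv c) (cv a') (cv b') (cv c') k1 k2 (C.g_map _) (C.g_map _)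
  have e2 := C.nf_mul hf (cv a') (cv b') (cv c') (cv a) (cv b) (cv c) k2 k1 (C.g_map _) (C.g_map _)
  rw [add_comm (cv a') (cv a), add_comm (cv b') (cv b)] at e2
  have e3 : ∀ (A B c1 c2 : B4) (m1 m2 : L), π m1 = 1 → (C.nf A B c1 m1)⁻¹ * C.nf A B c2 m2 =
      C.x 0 2 (c1 + c2) * (m1⁻¹ * m2) := by
    intro A B c1 c2 m1 m2 hm1
    have c1' := C.cen m1⁻¹ (by rw [map_inv, hm1, inv_one])
    unfold CExt.nf
    rw [← C.x_add 0 2 (by decide)]
    have hi := C.x_inv 0 2 (by decide) c1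
    calc (C.x 0 1 A * C.x 1 2 B * C.x 0 2 c1 * m1)⁻¹ * (C.x 0 1 A * C.x 1 2 B * C.x 0 2 c2 * m2)
        = m1⁻¹ * ((C.x 0 2 c1)⁻¹ * C.x 0 2 c2) * m2 := by group
      _ = (C.x 0 2 c1)⁻¹ * C.x 0 2 c2 * (m1⁻¹ * m2) := by rw [c1']; group
      _ = _ := by rw [hi]
  have hk1 : π (k1 * k2 * (C.g (cv a' * (cv b * cv b)))⁻¹) = 1 := by
    rw [map_mul, map_mul, map_inv, C.g_map, C.g_map, C.g_map]; group
  have e4 := e3 (cv a + cv a') (cv b + cv b') (cv a' * cv b + cv c + cv c')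
    (cv a * cv b' + cv c' + cv c) (k1 * k2 * (C.g (cv a' * (cv b * cv b)))⁻¹)
    (k2 * k1 * (C.g (cv a * (cv b' * cv b')))⁻¹) hk1
  rw [← e1, ← e2] at e4
  obtain ⟨s0, hs0⟩ := hs ((k1 * k2 * (C.g (cv a' * (cv b * cv b)))⁻¹)⁻¹ *
    (k2 * k1 * (C.g (cv a * (cv b' * cv b')))⁻¹)) (by
      rw [map_mul, map_inv, hk1, map_mul, map_mul, map_inv, C.g_map, C.g_map, C.g_map]; group)
  rw [hs0] at e4
  refine ⟨cvi (cv a' * cv b + cv c + cv c' + (cv a * cv b' + cv c' + cv c)), cvi s0, ?_⟩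
  unfold dd X Z
  rw [cv_cvi, cv_cvi]
  exact congrArg Subtype.val e4

/-- The normaliser of the Sylow subgroup in `L`. -/
theorem norm_T' (h2 : ∀ k, π k = 1 → k * k = 1) (hs : ∀ z, π z = 1 → ∃ s, z = C.g s)
    (g : G) (hg : g ∈ L)
    (h : ∀ a b c s, ∃ a' b' c' s', g * tt C a b c s * g⁻¹ = tt C a' b' c' s') :
    ∃ (k : ℕ) (a b c s : A4), g = tt C a b c s * hh' C ^ k := by
  obtain ⟨a1, b1, c1, s1, h1⟩ := h 1 0 0 0
  obtain ⟨a2, b2, c2, s2, h2'⟩ := h 0 1 0 0
  have ex : X C 0 1 1 = tt C 1 0 0 0 := by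
    unfold tt dd
    rw [X_zero C 1 2 (by decide), X_zero C 0 2 (by decide), Z_zero]; group
  have ey : X C 1 2 1 = tt C 0 1 0 0 := by
    unfold tt dd
    rw [X_zero C 0 1 (by decide), X_zero C 0 2 (by decide), Z_zero]; group
  have hd : dd C 1 1 = (tt C 1 0 0 0 * tt C 0 1 0 0)⁻¹ * (tt C 0 1 0 0 * tt C 1 0 0 0) := by
    have := y_x' C h2 1 1
    rw [one_pow, mul_one] at this
    rw [← ex, ← ey, this]; group
  obtain ⟨c0, s0, h3⟩ := comm_tt C h2 hs a1 b1 c1 s1 a2 b2 c2 s2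
  have h4 : g * dd C 1 1 * g⁻¹ = dd C c0 s0 := by
    rw [← h3, ← h1, ← h2', hd]; group
  have hc0 : c0 ≠ 0 := by
    rintro rfl
    have h5 : dd C (0 : A4) s0 = Z C s0 := by
      unfold dd
      rw [X_zero C 0 2 (by decide), one_mul]
    rw [h5] at h4
    have h6 : dd C 1 1 = Z C s0 := by
      have h7 := Z_comm C s0 hg
      calc dd C 1 1 = g⁻¹ * (g * dd C 1 1 * g⁻¹) * g := by group
        _ = g⁻¹ * (Z C s0 * g) := by rw [h4]; group
        _ = Z C s0 := by rw [h7]; group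
    have h8 : (C.x 0 2 1 * C.g (cv 1) : L) = C.g (cv s0) := Subtype.ext h6
    have h9 := congrArg π h8
    rw [map_mul, C.g_map, C.g_map, mul_one, C.map_x 0 2 (by decide)] at h9
    have h10 : (t 0 1 0 * t 1 2 0 * t 0 2 1 : PSL3) = t 0 1 0 * t 1 2 0 * t 0 2 0 := by
      rw [t_zero, t_zero, t_zero, h9]
    exact absurd (Cfsg.Agent.ONType.PslCard.t_inj h10).2.2 (by decide)
  obtain ⟨k, hk⟩ := exists_pow_one hc0
  have h5 : (hh' C ^ k * g) * dd C 1 1 * (hh' C ^ k * g)⁻¹ = dd C 1 s0 := by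
    have e1 := hh_pow_dd C k c0 s0
    rw [hk] at e1
    rw [← e1, ← h4]; group
  obtain ⟨a, b, c, s, h6⟩ := mem_tt_of_conj C hs (L.mul_mem (L.pow_mem (hh_mem C) k) hg)
    one_ne_zero h5
  have hk3 : hh' C ^ (2 * k) = (hh' C ^ k)⁻¹ := by
    rw [eq_inv_iff_mul_eq_one, ← pow_add]
    have : 2 * k + k = 3 * k := by ring
    rw [this, pow_mul, hh_pow3, one_pow]
  have h7 : g = (hh' C ^ (2 * k) * (hh' C ^ k * g) * (hh' C ^ (2 * k))⁻¹) * hh' C ^ (2 * k) := by
    rw [hk3]; group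
  rw [h6, hh_pow_tt] at h7
  exact ⟨_, _, _, _, _, h7⟩

open Cfsg.Agent.ONType.OuterL (rv rv_ne rv_rv) in
/-- exact action up to the Sylow subgroup -/
theorem gen_out (h2 : ∀ k, π k = 1 → k * k = 1) (hs : ∀ z, π z = 1 → ∃ s, z = C.g s)
    (hinj : Function.Injective C.g) (hcen : ∀ k : L, (∀ m, k * m = m * k) → π k = 1)
    (g : G) (hg : ∀ l, l ∈ L ↔ g * l * g⁻¹ ∈ L)
    (hT : ∀ a b c s, ∃ a' b' c' s', g * tt C a b c s * g⁻¹ = tt C a' b' c' s') :
    ∃ (k : G) (e : Bool) (ρ : Fin 3 → A4), (∃ a b c s, g = tt C a b c s * k) ∧ (∀ i, ρ i ≠ 0) ∧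
      k * hh' C * k⁻¹ = hm e (hh' C) ∧
      ((∀ i j, i ≠ j → ∀ u, k * X C i j u * k⁻¹ = X C i j (ρ i * (ρ j)⁻¹ * sm e 1 u)) ∨
       (∀ i j, i ≠ j → ∀ u, k * X C i j u * k⁻¹ =
          X C (rv j) (rv i) (ρ (rv j) * (ρ (rv i))⁻¹ * sm e 1 u))) := by
  obtain ⟨m, e, δ, hmL, hδ, hh1, hx⟩ := exists_std' C hinj hcen g hg
  have hmg : ∀ l, l ∈ L ↔ (m * g) * l * (m * g)⁻¹ ∈ L := by
    intro l
    rw [hg l]
    have e1 : (m * g) * l * (m * g)⁻¹ = m * (g * l * g⁻¹) * m⁻¹ := by group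
    rw [e1]
    constructor
    · intro h
      exact L.mul_mem (L.mul_mem hmL h) (L.inv_mem hmL)
    · intro h
      have h3 := L.mul_mem (L.mul_mem (L.inv_mem hmL) h) hmL
      have e2 : m⁻¹ * (m * (g * l * g⁻¹) * m⁻¹) * m = g * l * g⁻¹ := by group
      rwa [e2] at h3
  -- `X 0 2 1` is mapped into the root group
  obtain ⟨r, hr⟩ : ∃ r, (m * g) * X C 0 2 1 * (m * g)⁻¹ = X C 0 2 r := by
    rcases hx with h | h
    · exact ⟨_, h 0 2 (by decide) 1⟩
    · exact ⟨_, h 0 2 (by decide) 1⟩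
  -- `m⁻¹` normalises the Sylow subgroup
  have hm1 : ∀ a b c s, ∃ a' b' c' s', m⁻¹ * tt C a b c s * m⁻¹⁻¹ = tt C a' b' c' s' := by
    intro a b c s
    have h3 : (m * g)⁻¹ * tt C a b c s * (m * g) ∈ L := by
      rw [hmg]
      have e1 : m * g * ((m * g)⁻¹ * tt C a b c s * (m * g)) * (m * g)⁻¹ = tt C a b c s := by group
      rw [e1]; exact tt_mem C _ _ _ _
    obtain ⟨a1, b1, c1, s1, h4⟩ := mem_tt_of_comm C hs h3 (by
      have e2 := dd_comm_tt C h2 r 0 a b c s
      rw [← X02_eq, ← hr] at e2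
      calc (m * g)⁻¹ * tt C a b c s * (m * g) * X C 0 2 1
          = (m * g)⁻¹ * (tt C a b c s * (m * g * X C 0 2 1 * (m * g)⁻¹)) * (m * g) := by group
        _ = _ := by rw [← e2]; group)
    obtain ⟨a2, b2, c2, s2, h5⟩ := hT a1 b1 c1 s1
    refine ⟨a2, b2, c2, s2, ?_⟩
    rw [← h5, ← h4]; group
  obtain ⟨j, a, b, c, s, h6⟩ := norm_T' C h2 hs m⁻¹ (L.inv_mem hmL) hm1
  refine ⟨hh' C ^ j * (m * g), e, fun i => δ i * (tau i)⁻¹ ^ j, ⟨a, b, c, s, ?_⟩, ?_, ?_, ?_⟩
  · rw [← mul_assoc, ← h6]; group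
  · intro i
    exact mul_ne_zero (hδ i) (pow_ne_zero _ (inv_ne_zero (tau_ne i)))
  · have e1 : hh' C ^ j * (m * g) * hh' C * (hh' C ^ j * (m * g))⁻¹ =
        hh' C ^ j * ((m * g) * hh' C * (m * g)⁻¹) * (hh' C ^ j)⁻¹ := by group
    rw [e1, hh1]
    cases e
    · show hh' C ^ j * hh' C * (hh' C ^ j)⁻¹ = hh' C
      group
    · show hh' C ^ j * (hh' C)⁻¹ * (hh' C ^ j)⁻¹ = (hh' C)⁻¹
      group
  · have key : ∀ a b c d u : A4, a ≠ 0 → b ≠ 0 → c ≠ 0 → d ≠ 0 →
        (b * a⁻¹) ^ j * (c * d⁻¹ * u) = c * a⁻¹ ^ j * (d * b⁻¹ ^ j)⁻¹ * u := by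
      intro a b c d u ha hb hc hd
      rw [mul_pow, mul_inv, inv_pow b, inv_inv]
      ring
    have e1 : ∀ y : G, hh' C ^ j * (m * g) * y * (hh' C ^ j * (m * g))⁻¹ =
        hh' C ^ j * ((m * g) * y * (m * g)⁻¹) * (hh' C ^ j)⁻¹ := by
      intro y; group
    rcases hx with hx | hx
    · left
      intro i i' hii u
      rw [e1, hx i i' hii, hh_pow_X C j i i' hii,
        key _ _ _ _ _ (tau_ne i) (tau_ne i') (hδ i) (hδ i')]
    · right
      intro i i' hii u
      rw [e1, hx i i' hii, hh_pow_X C j _ _ (rv_ne hii.symm),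
        key _ _ _ _ _ (tau_ne _) (tau_ne _) (hδ _) (hδ _)]

/-- the generation of `L` by root elements, for commuting elements -/
theorem cent_of_X (hperf : commutator L = ⊤) {k : G}
    (h : ∀ i j, i ≠ j → ∀ u, k * X C i j u * k⁻¹ = X C i j u) :
    ∀ l ∈ L, k * l = l * k := by
  have h1 : Subgroup.closure {y : L | ∃ (i j : Fin 3) (u : B4), i ≠ j ∧ y = C.x i j u} ≤
      (Subgroup.centralizer ({k} : Set G)).comap L.subtype := by
    rw [Subgroup.closure_le]
    rintro y ⟨i, j, u, hij, rfl⟩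
    show (C.x i j u : G) ∈ Subgroup.centralizer ({k} : Set G)
    rw [Subgroup.mem_centralizer_singleton_iff]
    have h2 := h i j hij (cvi u)
    unfold X at h2
    rw [cv_cvi, mul_inv_eq_iff_eq_mul] at h2
    exact h2.symm
  rw [Cfsg.Agent.ONType.OuterC.closure_x C hperf] at h1
  intro l hl
  have h2 : (⟨l, hl⟩ : L) ∈ (Subgroup.centralizer ({k} : Set G)).comap L.subtype := h1 trivial
  have h3 : l ∈ Subgroup.centralizer ({k} : Set G) := h2
  rw [Subgroup.mem_centralizer_singleton_iff] at h3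
  exact h3.symm

/-- conjugation inside the Sylow subgroup keeps the first two coordinates -/
theorem tt_conj (h2 : ∀ k, π k = 1 → k * k = 1) (hs : ∀ z, π z = 1 → ∃ s, z = C.g s)
    (a b c s a' b' c' s' : A4) : ∃ c0 s0,
    tt C a b c s * tt C a' b' c' s' * (tt C a b c s)⁻¹ = tt C a' b' c0 s0 := by
  obtain ⟨c1, s1, h⟩ := comm_tt C h2 hs a' b' c' s' a b c s
  refine ⟨c' + c1, s' + s1, ?_⟩
  have h3 := dd_comm_tt C h2 c1 s1 a b c s
  have h4 : tt C a b c s * tt C a' b' c' s' = tt C a' b' c' s' * tt C a b c s * dd C c1 s1 := by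
    rw [← h]; group
  rw [h4, mul_assoc (tt C a' b' c' s'), ← h3]
  have h5 : tt C a' b' (c' + c1) (s' + s1) = tt C a' b' c' s' * dd C c1 s1 := by
    unfold tt
    rw [dd_add C h2]; group
  rw [h5]; group

open Cfsg.Agent.ONType.OuterL (rv rv_ne rv_rv) in
include C in
/-- **The frame.** -/
theorem exists_frame_of [Finite L] (h2 : ∀ k, π k = 1 → k * k = 1) (hperf : commutator L = ⊤)
    (hker : Nat.card π.ker = 4) (hcen : ∀ k : L, (∀ m, k * m = m * k) → π k = 1) :
    Nonempty (Frm L) := by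
  have hs := g_surj C h2 hperf hker
  have hinj := g_inj C h2 hperf hker
  have mulinv : ∀ a : A4, a ^ 2 = a * a := fun a => pow_two a
  have dd0 : ∀ a : A4, dd C a 0 = X C 0 2 a := fun a => (X02_eq C a).symm
  have ddZ : ∀ s : A4, dd C 0 s = Z C s := by
    intro s
    unfold dd
    rw [X_zero C 0 2 (by decide), one_mul]
  refine ⟨{ x := X C 0 1, y := X C 1 2, d := dd C, h := hh' C, n1 := nn' C 1 2, n2 := nn' C 0 1, x_mem := X_mem C 0 1, y_mem := X_mem C 1 2, d_mem := dd_mem C, h_mem := hh_mem C, n1_mem := nn_mem C 1 2, n2_mem := nn_mem C 0 1, x_add := X_add C 0 1 (by decide), y_add := X_add C 1 2 (by decide), d_add := dd_add C h2, x_d := x_dd C h2, y_d := y_dd C h2, y_x := y_x' C h2, inj := ?_, h_x := ?_, h_y := ?_, h_d := hh_dd C, h_pow := hh_pow3 C, n1_x := ?_, n1_d := ?_, n1_h := nn_h C 1 2 (by decide), n2_y := ?_, n2_d := ?_, n2_h := nn_h C 0 1 (by decide), cen := ?_, cen_comm := ?_, cent_d := ?_, norm_T := norm_T' C h2 hs,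 card_L := ?_, out := ?_, outN := ?_ }⟩
  · intro a b c s h
    exact tt_inj C hinj (h.trans (tt_zero C).symm)
  · intro a
    rw [hh_X C 0 1 (by decide)]; congr 1
  · intro a
    rw [hh_X C 1 2 (by decide)]
    congr 1
  · intro a
    rw [nn_X C 1 2 0 1 (by decide) (by decide), dd0]
    rfl
  · intro c s
    have e1 : nn' C 1 2 * dd C c s * (nn' C 1 2)⁻¹ =
        (nn' C 1 2 * X C 0 2 c * (nn' C 1 2)⁻¹) * (nn' C 1 2 * Z C s * (nn' C 1 2)⁻¹) := by
      unfold dd; group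
    rw [e1, nn_X C 1 2 0 2 (by decide) (by decide), ← Z_comm C s (nn_mem C 1 2), ddZ,
      mul_inv_cancel_right]
    rfl
  · intro a
    rw [nn_X C 0 1 1 2 (by decide) (by decide), dd0]
    rfl
  · intro c s
    have e1 : nn' C 0 1 * dd C c s * (nn' C 0 1)⁻¹ =
        (nn' C 0 1 * X C 0 2 c * (nn' C 0 1)⁻¹) * (nn' C 0 1 * Z C s * (nn' C 0 1)⁻¹) := by
      unfold dd; group
    rw [e1, nn_X C 0 1 0 2 (by decide) (by decide), ← Z_comm C s (nn_mem C 0 1), ddZ,
      mul_inv_cancel_right]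
    rfl
  · intro g hg hc
    have h1 : π ⟨g, hg⟩ = 1 := hcen _ (fun m => Subtype.ext (hc m m.2))
    obtain ⟨s, h3⟩ := hs _ h1
    refine ⟨cvi s, ?_⟩
    rw [ddZ]
    unfold Z
    rw [cv_cvi]
    exact congrArg Subtype.val h3
  · intro s l hl
    rw [ddZ]
    exact Z_comm C s hl
  · intro c s hc g hg h
    exact mem_tt_of_conj C hs hg hc (s := s) (s' := s) (by rw [h]; group)
  · rw [C.card_M, hker]
  · -- out
    intro g hg hgx hgy
    have hgd : ∀ c s, g * dd C c s * g⁻¹ = dd C c s := by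
      have hgen : ∀ a b, g * dd C (a * b) (a * b ^ 2) * g⁻¹ = dd C (a * b) (a * b ^ 2) := by
        intro a b
        obtain ⟨c1, s1, h3⟩ := hgx a
        obtain ⟨c2, s2, h4⟩ := hgy b
        have h5 : dd C (a * b) (a * b ^ 2) =
            (X C 0 1 a * X C 1 2 b)⁻¹ * (X C 1 2 b * X C 0 1 a) := by
          rw [y_x' C h2]; group
        have h6 : g * ((X C 0 1 a * X C 1 2 b)⁻¹ * (X C 1 2 b * X C 0 1 a)) * g⁻¹ =
            ((g * X C 0 1 a * g⁻¹) * (g * X C 1 2 b * g⁻¹))⁻¹ *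
              ((g * X C 1 2 b * g⁻¹) * (g * X C 0 1 a * g⁻¹)) := by group
        rw [h5, h6, h3, h4]
        have x1 := x_dd C h2 a c2 s2
        have y1 := y_dd C h2 b c1 s1
        have d1 : dd C c1 s1 * dd C c2 s2 = dd C c2 s2 * dd C c1 s1 := by
          rw [← dd_add C h2, ← dd_add C h2, add_comm, add_comm s1]
        have e7 : X C 0 1 a * dd C c1 s1 * (X C 1 2 b * dd C c2 s2) =
            X C 0 1 a * X C 1 2 b * (dd C c1 s1 * dd C c2 s2) := by
          calc _ = X C 0 1 a * (dd C c1 s1 * X C 1 2 b) * dd C c2 s2 := by group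
            _ = _ := by rw [← y1]; group
        have e8 : X C 1 2 b * dd C c2 s2 * (X C 0 1 a * dd C c1 s1) =
            X C 1 2 b * X C 0 1 a * (dd C c1 s1 * dd C c2 s2) := by
          calc _ = X C 1 2 b * (dd C c2 s2 * X C 0 1 a) * dd C c1 s1 := by group
            _ = X C 1 2 b * X C 0 1 a * (dd C c2 s2 * dd C c1 s1) := by rw [← x1]; group
            _ = _ := by rw [d1]
        rw [e7, e8]
        have e9 : (X C 1 2 b * X C 0 1 a) = X C 0 1 a * X C 1 2 b * dd C (a * b) (a * b ^ 2) :=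
          y_x' C h2 a b
        have e10 : ∀ c s c' s', dd C c s * dd C c' s' = dd C c' s' * dd C c s := by
          intro c s c' s'
          rw [← dd_add C h2, ← dd_add C h2, add_comm, add_comm s]
        have e11 : (dd C c1 s1 * dd C c2 s2) = dd C (c1 + c2) (s1 + s2) := (dd_add C h2 _ _ _ _).symm
        rw [e9, e11]
        have e12 := e10 (a * b) (a * b ^ 2) (c1 + c2) (s1 + s2)
        calc _ = (dd C (c1 + c2) (s1 + s2))⁻¹ * (dd C (a * b) (a * b ^ 2) *
              dd C (c1 + c2) (s1 + s2)) := by group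
          _ = _ := by rw [e12]; group
      intro c s
      have htwo : ∀ c s : A4, ∃ a b a' b' : A4, c = a * b + a' * b' ∧
        s = a * b ^ 2 + a' * b' ^ 2 := by decide
      obtain ⟨a, b, a', b', rfl, rfl⟩ := htwo c s
      have e1 : dd C (a * b + a' * b') (a * b ^ 2 + a' * b' ^ 2) =
        dd C (a * b) (a * b ^ 2) * dd C (a' * b') (a' * b' ^ 2) := dd_add C h2 _ _ _ _
      rw [e1]
      calc _ = (g * dd C (a * b) (a * b ^ 2) * g⁻¹) *
            (g * dd C (a' * b') (a' * b' ^ 2) * g⁻¹) := by group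
        _ = _ := by rw [hgen, hgen]
    have hT : ∀ a b c s, ∃ a' b' c' s', g * tt C a b c s * g⁻¹ = tt C a' b' c' s' := by
      intro a b c s
      obtain ⟨c1, s1, h3⟩ := hgx a
      obtain ⟨c2, s2, h4⟩ := hgy b
      refine ⟨a, b, c1 + (c2 + c), s1 + (s2 + s), ?_⟩
      unfold tt
      rw [dd_add C h2, dd_add C h2]
      have y1 := y_dd C h2 b c1 s1
      calc g * (X C 0 1 a * X C 1 2 b * dd C c s) * g⁻¹
          = (g * X C 0 1 a * g⁻¹) * (g * X C 1 2 b * g⁻¹) * (g * dd C c s * g⁻¹) := by group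
        _ = X C 0 1 a * (dd C c1 s1 * X C 1 2 b) * dd C c2 s2 * dd C c s := by
            rw [h3, h4, hgd]; group
        _ = _ := by rw [← y1]; group
    obtain ⟨k, e, ρ, ⟨a, b, c, s, hk⟩, hρ, hkh, hkX⟩ := gen_out C h2 hs hinj hcen g hg hT
    refine ⟨a, b, c, s, ?_⟩
    have hk' : k = (tt C a b c s)⁻¹ * g := by rw [hk]; group
    change ∀ l ∈ L, (tt C a b c s)⁻¹ * g * l = l * ((tt C a b c s)⁻¹ * g)
    rw [← hk']
    apply cent_of_X C hperf
    have hXt : ∀ r, X C 0 1 r = tt C r 0 0 0 := by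
      intro u
      unfold tt dd
      rw [X_zero C 1 2 (by decide), X_zero C 0 2 (by decide), Z_zero]
      group
    have hYt : ∀ r, X C 1 2 r = tt C 0 r 0 0 := by
      intro u
      unfold tt dd
      rw [X_zero C 0 1 (by decide), X_zero C 0 2 (by decide), Z_zero]
      group
    have hXdt : ∀ r c s, X C 0 1 r * dd C c s = tt C r 0 c s := by
      intro r c s
      unfold tt
      rw [X_zero C 1 2 (by decide), mul_one]
    have hYdt : ∀ r c s, X C 1 2 r * dd C c s = tt C 0 r c s := by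
      intro r c s
      unfold tt
      rw [X_zero C 0 1 (by decide), one_mul]
    have hgk : ∀ y : G, g * y * g⁻¹ = tt C a b c s * (k * y * k⁻¹) * (tt C a b c s)⁻¹ := by
      intro y
      rw [hk]; group
    rcases hkX with hkX | hkX
    · have r1 : ∀ u, ρ 0 * (ρ 1)⁻¹ * sm e 1 u = u := by
        intro u
        obtain ⟨c1, s1, h3⟩ := hgx u
        rw [hgk, hkX 0 1 (by decide), hXt, hXdt] at h3
        obtain ⟨c2, s2, h4⟩ := tt_conj C h2 hs a b c s (ρ 0 * (ρ 1)⁻¹ * sm e 1 u) 0 0 0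
        rw [h4] at h3
        exact (tt_inj C hinj h3).1
      have r2 : ∀ u, ρ 1 * (ρ 2)⁻¹ * sm e 1 u = u := by
        intro u
        obtain ⟨c1, s1, h3⟩ := hgy u
        rw [hgk, hkX 1 2 (by decide), hYt, hYdt] at h3
        obtain ⟨c2, s2, h4⟩ := tt_conj C h2 hs a b c s 0 (ρ 1 * (ρ 2)⁻¹ * sm e 1 u) 0 0
        rw [h4] at h3
        exact (tt_inj C hinj h3).2.1
      have key : ∀ (e : Bool) (p : A4), (∀ u, p * sm e 1 u = u) → e = false ∧ p = 1 := by decide
      obtain ⟨rfl, q1⟩ := key _ _ r1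
      obtain ⟨-, q2⟩ := key _ _ r2
      have s1 : ρ 0 = ρ 1 := (mul_inv_eq_one₀ (hρ 1)).1 q1
      have s2 : ρ 1 = ρ 2 := (mul_inv_eq_one₀ (hρ 2)).1 q2
      have hall : ∀ i, ρ i = ρ 0 := by
        intro i
        fin_cases i
        · rfl
        · exact s1.symm
        · exact (s1.trans s2).symm
      intro i j hij u
      have e1 : ∀ u : A4, 1 * sm false 1 u = u := by decide
      rw [hkX i j hij, hall i, hall j, mul_inv_cancel₀ (hρ 0), e1]
    · exfalso
      obtain ⟨c1, s1, h3⟩ := hgx 1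
      rw [hgk, hkX 0 1 (by decide)] at h3
      have e1 : X C (rv 1) (rv 0) (ρ (rv 1) * (ρ (rv 0))⁻¹ * sm e 1 1) =
        tt C 0 (ρ (rv 1) * (ρ (rv 0))⁻¹ * sm e 1 1) 0 0 := hYt _
      rw [e1, hXdt] at h3
      obtain ⟨c2, s2, h4⟩ := tt_conj C h2 hs a b c s 0 (ρ (rv 1) * (ρ (rv 0))⁻¹ * sm e 1 1) 0 0
      rw [h4] at h3
      exact absurd (tt_inj C hinj h3).1 (by decide)
  · -- outN
    intro g hg hT
    obtain ⟨k, e, ρ, hk, hρ, hkh, hkX⟩ := gen_out C h2 hs hinj hcen g hg hT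
    have key : ∀ (e : Bool) (p u : A4), p * sm e 1 u = sm e p u := by decide
    rcases hkX with hkX | hkX
    · refine ⟨k, e, ρ 0 * (ρ 1)⁻¹, ρ 1 * (ρ 2)⁻¹, hk, mul_ne_zero (hρ 0) (inv_ne_zero (hρ 1)),
        mul_ne_zero (hρ 1) (inv_ne_zero (hρ 2)), hkh, Or.inl ⟨fun u => ?_, fun u => ?_⟩⟩
      · rw [hkX 0 1 (by decide), key]
      · rw [hkX 1 2 (by decide), key]
    · refine ⟨k, e, ρ 1 * (ρ 2)⁻¹, ρ 0 * (ρ 1)⁻¹, hk, mul_ne_zero (hρ 1) (inv_ne_zero (hρ 2)),
        mul_ne_zero (hρ 0) (inv_ne_zero (hρ 1)), hkh, Or.inr ⟨fun u => ?_, fun u => ?_⟩⟩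
      · rw [hkX 0 1 (by decide), key]; rfl
      · rw [hkX 1 2 (by decide), key]; rfl

end Coord

/-- **Existence of frames.** -/
theorem exists_frame {G : Type*} [Group G] (L : Subgroup G) [Finite L]
    (hperf : commutator L = ⊤) (hK : IsKleinFour (Subgroup.center L))
    {F : Type*} [Field F] [Fintype F] (hF : Fintype.card F = 4)
    (e : L ⧸ Subgroup.center L ≃* Matrix.ProjectiveSpecialLinearGroup (Fin 3) F) :
    Nonempty (Frm L) := by
  obtain ⟨e'⟩ := Cfsg.Agent.SporadicA.FieldFour.nonempty_psl_equiv (n := Fin 3) F hF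
  set π : L →* PSL3 := (e.trans e'.symm).toMonoidHom.comp (QuotientGroup.mk' (Subgroup.center L))
    with hπ
  have hker : ∀ k : L, π k = 1 ↔ k ∈ Subgroup.center L := by
    intro k
    rw [hπ]
    show (e.trans e'.symm) (QuotientGroup.mk' (Subgroup.center L) k) = 1 ↔ _
    rw [map_eq_one_iff _ (e.trans e'.symm).injective]
    exact QuotientGroup.eq_one_iff k
  have hkerE : π.ker = Subgroup.center L := by
    ext k
    exact hker k
  have h2 : ∀ k, π k = 1 → k * k = 1 := by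
    intro k hk
    have h3 : (⟨k, (hker k).1 hk⟩ : Subgroup.center L) ^ 2 = 1 := by
      have h4 := Monoid.pow_exponent_eq_one (⟨k, (hker k).1 hk⟩ : Subgroup.center L)
      rwa [hK.exponent_two] at h4
    rw [← pow_two]
    exact congrArg Subtype.val h3
  have C : CExt π :=
    { surj := (e.trans e'.symm).surjective.comp (QuotientGroup.mk'_surjective _)
      cen := fun k hk m => ((Subgroup.mem_center_iff.1 ((hker k).1 hk)) m).symm
      exp := fun k hk => by
        have h3 := h2 k hk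
        have h4 : k ^ 4 = (k ^ 2) ^ 2 := by rw [← pow_mul]
        rw [h4, pow_two k, h3, one_pow] }
  refine exists_frame_of C h2 hperf ?_ ?_
  · rw [hkerE]; exact hK.card_four
  · intro k hk
    rw [hker, Subgroup.mem_center_iff]
    exact fun m => (hk m).symm

end Cfsg.Agent.StandardComponent.HeldType.Exists
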