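import Cfsg.Agent.StandardComponent.HeldType.Sigma

/-!
The action of `N(E1)` on the six lines, and the group `N(T0)` modulo `T0 C(L)`.
-/

set_option autoImplicit false

namespace Cfsg.Agent.StandardComponent.HeldType.Gamma

open Cfsg.Agent.Lib.FieldFour Cfsg.Agent.StandardComponent.HeldType.Frame
  Cfsg.Agent.StandardComponent.HeldType.Act Cfsg.Agent.StandardComponent.HeldType.ActType
  Cfsg.Agent.StandardComponent.HeldType.Basic Cfsg.Agent.StandardComponent.HeldType.Ctx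
  Cfsg.Agent.StandardComponent.HeldType.SixLines Cfsg.Agent.StandardComponent.HeldType.Sigma

variable {G : Type*} [Group G] {L L' : Subgroup G} {F : Frm L}

/-! ### Lines -/

theorem exists_U (H : Sit F) : ∃ g, cj g F.V = F.U := by
  obtain ⟨g, -, hV, -⟩ := H.swp
  exact ⟨g, cj_V_eq_U hV⟩

theorem exists_LA (H : Sit F) (b : F4) : ∃ g, cj g F.V = LA F b := by
  obtain ⟨g, hg⟩ := exists_U H
  refine ⟨F.y b * F.n1 * g, ?_⟩
  rw [cj_mul, cj_mul, hg, cj_n1_U, cj_y_LA, add_zero]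

theorem line_image [Finite G] (H : Sit F) {k : G} (hk : cj k F.E1 = F.E1) (b : F4) :
    cj k (LA F b) = F.V ∨ cj k (LA F b) = F.U ∨ ∃ b', cj k (LA F b) = LA F b' := by
  obtain ⟨g, hg⟩ := exists_LA H b
  rw [← hg, ← cj_mul]
  apply line_cases H
  rw [cj_mul, hg, ← hk]
  exact cj_mono k (LA_le b)

/-- an element acting on `E1` as a scalar fixes all conjugates of `V` contained in `E1` -/
theorem fix_line [Finite G] (H : Sit F) {σ g : G} {r : F4} (hr : r ≠ 0) (hσ : Scal F σ r)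
    (hg : cj g F.V ≤ F.E1) : cj σ (cj g F.V) = cj g F.V := by
  rcases line_cases H hg with h | h | ⟨b, h⟩
  · rw [h, hσ.cj_V hr]
  · rw [h, hσ.cj_U hr]
  · rw [h, hσ.cj_LA hr]

/-! ### Linear and semilinear elements -/

/-- `g` normalises `E1` and is linear (`r = w`) or semilinear (`r = v`) -/
def Lin (F : Frm L) (g : G) (r : F4) : Prop :=
  cj g F.E1 = F.E1 ∧ ∀ a c s a' c' s', g * F.t a 0 c s * g⁻¹ = F.t a' 0 c' s' →
    g * F.t (F4.w * a) 0 (F4.w * c) (F4.w * s) * g⁻¹ = F.t (r * a') 0 (r * c') (r * s')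

theorem Lin.exists_image {g : G} {r : F4} (h : Lin F g r) (a c s : F4) :
    ∃ a' c' s', g * F.t a 0 c s * g⁻¹ = F.t a' 0 c' s' :=
  (cj_eq_iff.1 h.1 _).1 ⟨a, c, s, rfl⟩

theorem Lin.scal {g : G} (h : Lin F g F4.w) {a c s a' c' s' : F4}
    (h1 : g * F.t a 0 c s * g⁻¹ = F.t a' 0 c' s') (r : F4) :
    g * F.t (r * a) 0 (r * c) (r * s) * g⁻¹ = F.t (r * a') 0 (r * c') (r * s') := by
  have hz : ∀ a : F4, F4.o * a = 0 := by decide
  have ho : ∀ a : F4, F4.i * a = a := by decide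
  have hv : ∀ a : F4, F4.v * a = F4.w * (F4.w * a) := by decide
  cases r
  · rw [hz, hz, hz, hz, hz, hz, F.t_zero]; group
  · rw [ho, ho, ho, ho, ho, ho]; exact h1
  · exact h.2 _ _ _ _ _ _ h1
  · have h2 := h.2 _ _ _ _ _ _ (h.2 _ _ _ _ _ _ h1)
    rw [hv, hv, hv, hv, hv, hv]
    exact h2

theorem Lin.mul_left {g g' : G} {r : F4} (h : Lin F g F4.w) (h' : Lin F g' r) :
    Lin F (g * g') r := by
  refine ⟨by rw [cj_mul, h'.1, h.1], fun a c s a'' c'' s'' h1 => ?_⟩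
  obtain ⟨a', c', s', h2⟩ := h'.exists_image a c s
  have h3 : g * F.t a' 0 c' s' * g⁻¹ = F.t a'' 0 c'' s'' := by
    rw [← h2, ← h1]; group
  calc g * g' * F.t (F4.w * a) 0 (F4.w * c) (F4.w * s) * (g * g')⁻¹
      = g * (g' * F.t (F4.w * a) 0 (F4.w * c) (F4.w * s) * g'⁻¹) * g⁻¹ := by group
    _ = _ := by rw [h'.2 _ _ _ _ _ _ h2, h.scal h3]

theorem Lin.mul_right {g g' : G} {r : F4} (h : Lin F g r) (h' : Lin F g' F4.w) :
    Lin F (g * g') r := by
  refine ⟨by rw [cj_mul, h'.1, h.1], fun a c s a'' c'' s'' h1 => ?_⟩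
  obtain ⟨a', c', s', h2⟩ := h'.exists_image a c s
  have h3 : g * F.t a' 0 c' s' * g⁻¹ = F.t a'' 0 c'' s'' := by
    rw [← h2, ← h1]; group
  calc g * g' * F.t (F4.w * a) 0 (F4.w * c) (F4.w * s) * (g * g')⁻¹
      = g * (g' * F.t (F4.w * a) 0 (F4.w * c) (F4.w * s) * g'⁻¹) * g⁻¹ := by group
    _ = _ := by rw [h'.2 _ _ _ _ _ _ h2, h.2 _ _ _ _ _ _ h3]

theorem Lin.inv {g : G} (h : Lin F g F4.w) : Lin F g⁻¹ F4.w := by
  refine ⟨cj_inv_eq h.1, fun a c s a' c' s' h1 => ?_⟩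
  have h2 : g * F.t a' 0 c' s' * g⁻¹ = F.t a 0 c s := by rw [← h1]; group
  rw [← h.2 _ _ _ _ _ _ h2]; group

theorem lin_T0 {t : G} (ht : t ∈ F.T0) : Lin F t F4.w := by
  refine ⟨cj_T0_E1 ht, fun a c s a' c' s' h1 => ?_⟩
  obtain ⟨a0, b0, c0, s0, rfl⟩ := ht
  rw [F.t_conj] at h1 ⊢
  obtain ⟨rfl, -, rfl, rfl⟩ := F.t_inj h1
  congr 1
  · ring
  · ring

theorem lin_n1 (F : Frm L) : Lin F F.n1 F4.w := by
  refine ⟨cj_n1_E1, fun a c s a' c' s' h1 => ?_⟩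
  rw [F.n1_xd] at h1 ⊢
  obtain ⟨rfl, -, rfl, rfl⟩ := F.t_inj h1
  rfl

/-- every element normalising `E1` is linear or semilinear -/
theorem lin_exists [Finite G] (H : Sit F) {g : G} (hg : cj g F.E1 = F.E1) :
    Lin F g F4.w ∨ Lin F g F4.v := by
  obtain ⟨σ, -, -, hσ, -⟩ := exists_sigma H
  have hw : F4.w ≠ 0 := by decide
  have hline : ∀ h, cj h F.V ≤ F.E1 → cj (g * σ * g⁻¹) (cj h F.V) = cj h F.V := by
    intro h hle
    rw [← cj_mul, mul_assoc, mul_assoc, cj_mul, cj_mul]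
    have h1 : cj (g⁻¹ * h) F.V ≤ F.E1 := by
      rw [cj_mul, ← cj_inv_eq hg]
      exact cj_mono _ hle
    rw [fix_line H hw hσ h1, ← cj_mul, mul_inv_cancel_left]
  have hV : cj (g * σ * g⁻¹) F.V = F.V := by
    have := hline 1 (by rw [cj_one]; exact V_le_E1)
    rwa [cj_one] at this
  have hU : cj (g * σ * g⁻¹) F.U = F.U := by
    obtain ⟨k, hk⟩ := exists_U H
    rw [← hk]
    exact hline k (by rw [hk]; exact U_le_E1)
  have hA : ∀ b, cj (g * σ * g⁻¹) (LA F b) = LA F b := by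
    intro b
    obtain ⟨k, hk⟩ := exists_LA H b
    rw [← hk]
    exact hline k (by rw [hk]; exact LA_le b)
  obtain ⟨r, hr, hS⟩ := scalar_of_lines H
    (by rw [cj_mul, cj_mul, cj_inv_eq hg, hσ.cj_E1 hw, hg]) hV hU hA
  have hr1 : r ≠ 1 := by
    rintro rfl
    have h2 : Scal F σ 1 := by
      intro a c s
      obtain ⟨a', c', s', h3⟩ := (cj_eq_iff.1 hg _).1 (⟨a, c, s, rfl⟩ : F.t a 0 c s ∈ F.E1)
      have h4 := hS a' c' s'
      rw [one_mul, one_mul, one_mul] at h4 ⊢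
      calc σ * F.t a 0 c s * σ⁻¹
          = g⁻¹ * ((g * σ * g⁻¹) * (g * F.t a 0 c s * g⁻¹) * (g * σ * g⁻¹)⁻¹) * g := by group
        _ = g⁻¹ * (g * F.t a 0 c s * g⁻¹) * g := by rw [h3, h4]
        _ = _ := by group
    exact absurd (hσ.unique h2) (by decide)
  have hlin : Lin F g r := by
    refine ⟨hg, fun a c s a' c' s' h1 => ?_⟩
    rw [← hσ, ← hS a' c' s', ← h1]
    group
  have h3 : r = F4.w ∨ r = F4.v := by
    clear hlin hS; revert r; decide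
  rcases h3 with rfl | rfl
  · exact Or.inl hlin
  · exact Or.inr hlin

/-- linear elements have type `(false, *)`, semilinear ones `(true, *)` -/
theorem lin_type {g : G} {e e' : Bool} {l m r : F4} (hl : l ≠ 0) (h : Acts F g e e' l m)
    (hr : Lin F g r) : (bif e then F4.v else F4.w) = r := by
  obtain ⟨c, s, h1⟩ := h.1 1
  obtain ⟨c', s', h2⟩ := h.1 F4.w
  rw [F.x_eq_t, F.xd_eq_t] at h1 h2
  have h3 := hr.2 _ _ _ _ _ _ h1
  have e1 : F4.w * 1 = F4.w := rfl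
  have e2 : F4.w * 0 = 0 := rfl
  rw [e1, e2, h2] at h3
  have h4 := (F.t_inj h3).1
  clear h1 h2 h3 e1 e2 hr h
  revert hl h4
  revert e l r
  decide

theorem lin_of_acts [Finite G] (H : Sit F) {g : G} {e e' : Bool} {l m : F4} (hE : NE F g)
    (hl : l ≠ 0) (h : Acts F g e e' l m) : Lin F g (bif e then F4.v else F4.w) := by
  rcases lin_exists H (NE_iff.1 hE).1 with h1 | h1
  · rw [lin_type hl h h1]; exact h1
  · rw [lin_type hl h h1]; exact h1

/-- the first basic element of the conjugate of `L` with centre `U` is linear -/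
theorem lin_n1' [Finite G] (H : Sit F) {F' : Frm L'} (H' : Sit F') (hE : F'.E1 = F.E1)
    (hV : F'.V = F.U) (hU : F'.U = F.V) (hconj : ∃ g, cj g F.V = F'.V) : Lin F F'.n1 F4.w := by
  have hw : F4.w ≠ 0 := by decide
  obtain ⟨σ, -, -, hσ, -⟩ := exists_sigma H'
  obtain ⟨g1, hg1⟩ := hconj
  have hA : ∀ b, cj σ (LA F b) = LA F b := by
    intro b
    obtain ⟨g, hg⟩ := exists_LA H b
    have h1 : cj (g * g1⁻¹) F'.V = LA F b := by rw [cj_mul, cj_inv_eq hg1, hg]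
    have h2 := fix_line H' (g := g * g1⁻¹) hw hσ (by rw [h1, hE]; exact LA_le b)
    rwa [h1] at h2
  obtain ⟨r, hr, hS⟩ := scalar_of_lines H (g := σ) (by rw [← hE]; exact hσ.cj_E1 hw)
    (by rw [← hU]; exact hσ.cj_U hw) (by rw [← hV]; exact hσ.cj_V hw) hA
  have hr1 : r ≠ 1 := by
    rintro rfl
    have h2 : Scal F' σ 1 := by
      intro a c s
      have h3 : F'.t a 0 c s ∈ F.E1 := by rw [← hE]; exact ⟨a, c, s, rfl⟩
      obtain ⟨a', c', s', h4⟩ := h3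
      have h5 := hS a' c' s'
      rw [one_mul, one_mul, one_mul] at h5 ⊢
      rw [h4, h5]
    exact absurd (hσ.unique h2) (by decide)
  have hlin' := lin_n1 F'
  -- commutation with `σ`
  have hcomm : ∀ u ∈ F.E1, F'.n1 * (σ * u * σ⁻¹) * F'.n1⁻¹ =
      σ * (F'.n1 * u * F'.n1⁻¹) * σ⁻¹ := by
    intro u hu
    rw [← hE] at hu
    obtain ⟨a, c, s, rfl⟩ := hu
    rw [hσ, F'.n1_xd, F'.n1_xd, hσ]
  have hE1 : cj F'.n1 F.E1 = F.E1 := by rw [← hE]; exact cj_n1_E1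
  have hlr : ∀ a c s a' c' s', F'.n1 * F.t a 0 c s * F'.n1⁻¹ = F.t a' 0 c' s' →
      F'.n1 * F.t (r * a) 0 (r * c) (r * s) * F'.n1⁻¹ = F.t (r * a') 0 (r * c') (r * s') := by
    intro a c s a' c' s' h1
    rw [← hS, hcomm _ ⟨a, c, s, rfl⟩, h1, hS]
  have h3 : r = F4.w ∨ r = F4.v := by
    clear hlr hS; revert r; decide
  rcases h3 with rfl | rfl
  · exact ⟨hE1, hlr⟩
  · refine ⟨hE1, fun a c s a' c' s' h1 => ?_⟩
    have h2 := hlr _ _ _ _ _ _ (hlr _ _ _ _ _ _ h1)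
    have hv : ∀ a : F4, F4.v * (F4.v * a) = F4.w * a := by decide
    rw [hv, hv, hv, hv, hv, hv] at h2
    exact h2

/-- there is a linear element interchanging `V` and `U` -/
theorem exists_x [Finite G] (H : Sit F) :
    ∃ x, Lin F x F4.w ∧ cj x F.V = F.U ∧ cj x F.U = F.V := by
  obtain ⟨L', F', hcj, H', hT, hE1, hE2, hV, hU, hconj⟩ := exists_frame' H
  have hlin := lin_n1' H H' hE1 hV hU hconj
  have h1 : cj F'.n1 F.V = LA F' 0 := by rw [← hU, cj_n1_U]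
  have h2 : cj F'.n1 (LA F' 0) = F.V := by rw [cj_n1_LA0, hU]
  have h3 : cj F'.n1 F.V ≤ F.E1 := by rw [h1, ← hE1]; exact LA_le 0
  obtain ⟨b, hb⟩ : ∃ b, cj F'.n1 F.V = LA F b := by
    rcases line_cases H h3 with h | h | h
    · rw [h1, ← hU] at h
      exact absurd h (LA_ne_U 0)
    · rw [h1, ← hV] at h
      exact absurd h (LA_ne_V 0)
    · exact h
  have hl1 : Lin F (F.y b * F.n1) F4.w :=
    (lin_T0 (by rw [F.y_eq_t]; exact t_mem_T0 F _ _ _ _)).mul_left (lin_n1 F)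
  have hlV : cj (F.y b * F.n1) F.V = F.V := by
    rw [cj_mul, cj_n1_V, cj_T0_V (by rw [F.y_eq_t]; exact t_mem_T0 F _ _ _ _)]
  have hlU : cj (F.y b * F.n1) F.U = LA F b := by
    rw [cj_mul, cj_n1_U, cj_y_LA, add_zero]
  refine ⟨(F.y b * F.n1)⁻¹ * F'.n1 * (F.y b * F.n1),
    (hl1.inv.mul_left hlin).mul_left hl1, ?_, ?_⟩
  · rw [cj_mul, cj_mul, hlV, hb, cj_inv_eq hlU]
  · rw [cj_mul, cj_mul, hlU, ← hb, h1, h2, cj_inv_eq hlV]

/-- an element fixing `V`: equal parities -/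
theorem parity_V {g : G} {e e' : Bool} {l m : F4} (hl : l ≠ 0) (hm : m ≠ 0)
    (h : Acts F g e e' l m) (hV : cj g F.V = F.V) : e' = e := by
  have h2 : g * F.d 0 1 * g⁻¹ ∈ F.V := (cj_eq_iff.1 hV _).1 ⟨1, rfl⟩
  rw [act_d F h] at h2
  obtain ⟨s, h3⟩ := h2
  have h4 := (d_inj F h3).1
  clear h3 h hV
  revert hl hm h4
  revert e e' l m
  decide

/-- an element mapping `V` to `U`: different parities -/
theorem parity_U {g : G} {e e' : Bool} {l m : F4} (hl : l ≠ 0) (hm : m ≠ 0)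
    (h : Acts F g e e' l m) (hV : cj g F.V = F.U) : e' = !e := by
  have h2 : g * F.d 0 1 * g⁻¹ ∈ F.U := (cj_eq_iff.1 hV _).1 ⟨1, rfl⟩
  rw [act_d F h] at h2
  obtain ⟨s, h3⟩ := h2
  have h4 := (d_inj F h3).2
  clear h3 h hV
  revert hl hm h4
  revert e e' l m
  decide

/-- (A1) -/
theorem exists_swapNE [Finite G] (H : Sit F) : ∃ g, NT F g ∧ NE F g ∧ cj g F.V = F.U ∧
    cj g F.U = F.V := by
  obtain ⟨x, hx, h1, h2⟩ := exists_x H
  have hT := nt_of_swap H h1 h2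
  exact ⟨x, hT, NE_of_E1 hT hx.1, h1, h2⟩

theorem exists_ft [Finite G] (H : Sit F) : ∃ g l m, NT F g ∧ l ≠ 0 ∧ m ≠ 0 ∧
    Acts F g false true l m := by
  obtain ⟨x, hx, h1, h2⟩ := exists_x H
  have hT := nt_of_swap H h1 h2
  have hE := NE_of_E1 hT hx.1
  obtain ⟨e, e', l, m, hl, hm, h⟩ := exists_acts F hT hE.1 hE.2
  have h3 := lin_type hl h hx
  have h4 := parity_U hl hm h h1
  have h5 : e = false := by
    cases e
    · rfl
    · exact absurd h3 (by decide)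
  subst h5
  subst h4
  exact ⟨x, l, m, hT, hl, hm, h⟩

theorem acts_swap {g : G} {e e' : Bool} {l m : F4} (h : Acts F g e e' l m) :
    Acts F.swap g e' e m l := by
  have key : ∀ p : F4, (p ^ 2) ^ 2 = p := by decide
  constructor
  · intro a
    obtain ⟨c, s, h1⟩ := h.2 a
    refine ⟨c, s ^ 2, ?_⟩
    change g * F.y a * g⁻¹ = F.y (sm e' m a) * F.d c ((s ^ 2) ^ 2)
    rw [key, h1]
  · intro a
    obtain ⟨c, s, h1⟩ := h.1 a
    refine ⟨c, s ^ 2, ?_⟩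
    change g * F.x a * g⁻¹ = F.x (sm e l a) * F.d c ((s ^ 2) ^ 2)
    rw [key, h1]

theorem acts_swap' {g : G} {e e' : Bool} {l m : F4} (h : Acts F.swap g e e' l m) :
    Acts F g e' e m l := by
  constructor
  · intro a
    obtain ⟨c, s, h1⟩ := h.2 a
    exact ⟨c, s ^ 2, h1⟩
  · intro a
    obtain ⟨c, s, h1⟩ := h.1 a
    exact ⟨c, s ^ 2, h1⟩

theorem NT_swap {g : G} : NT F.swap g ↔ NT F g := by
  unfold NT
  rw [swap_T0]

theorem NE_swap {g : G} : NE F.swap g ↔ NE F g := by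
  unfold NE
  rw [swap_E1, swap_E2]
  exact and_comm

theorem exists_tf [Finite G] (H : Sit F) : ∃ g l m, NT F g ∧ l ≠ 0 ∧ m ≠ 0 ∧
    Acts F g true false l m := by
  obtain ⟨g, l, m, h1, h2, h3, h4⟩ := exists_ft (sit_swap H)
  exact ⟨g, m, l, NT_swap.1 h1, h3, h2, acts_swap' h4⟩

theorem exists_ff (H : Sit F) {l m : F4} (hl : l ≠ 0) (hm : m ≠ 0) : ∃ g, NT F g ∧
    Acts F g false false l m := by
  obtain ⟨σ, hσT, -, -, hσ⟩ := exists_sigma H
  have hh := acts_h F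
  have hhT := (cj_h F).2.2
  have hpow : ∀ {g : G}, NT F g → ∀ k : ℕ, NT F (g ^ k) := by
    intro g hg k
    induction k with
    | zero => rw [pow_zero]; exact NT.one
    | succ k ih => rw [pow_succ]; exact ih.mul hg
  have key : ∀ l m : F4, l ≠ 0 → m ≠ 0 → ∃ i j : Fin 3,
      F4.w ^ (i : ℕ) * F4.w ^ (j : ℕ) = l ∧ F4.w ^ (j : ℕ) = m := by decide
  obtain ⟨i, j, h1, h2⟩ := key l m hl hm
  refine ⟨σ ^ (i : ℕ) * F.h ^ (j : ℕ), (hpow hσT _).mul (hpow hhT _), ?_⟩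
  have h3 := acts_mul F (acts_pow F hσ i) (acts_pow F hh j)
  rw [one_pow] at h3
  have e1 : sm false (F4.w ^ (i : ℕ)) (F4.w ^ (j : ℕ)) = l := h1
  have e2 : sm false 1 (F4.w ^ (j : ℕ)) = m := by
    change 1 * F4.w ^ (j : ℕ) = m
    rw [one_mul, h2]
  rw [e1, e2] at h3
  exact h3

/-- (A2') all types fixing `E1` and `E2` occur in `N(T0)` -/
theorem exists_type [Finite G] (H : Sit F) (e e' : Bool) {l m : F4} (hl : l ≠ 0) (hm : m ≠ 0) :
    ∃ g, NT F g ∧ Acts F g e e' l m := by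
  have hadj : ∀ g l0 m0, NT F g → l0 ≠ 0 → m0 ≠ 0 → Acts F g e e' l0 m0 →
      ∃ g, NT F g ∧ Acts F g e e' l m := by
    intro g l0 m0 h1 h2 h3 h4
    obtain ⟨k, hk, hkA⟩ := exists_ff H (mul_ne_zero hl (inv_ne_zero h2))
      (mul_ne_zero hm (inv_ne_zero h3))
    have h5 := acts_mul F hkA h4
    rw [Bool.false_xor, Bool.false_xor] at h5
    have e1 : sm false (l * l0⁻¹) l0 = l := by
      change l * l0⁻¹ * l0 = l
      rw [inv_mul_cancel_right₀ h2]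
    have e2 : sm false (m * m0⁻¹) m0 = m := by
      change m * m0⁻¹ * m0 = m
      rw [inv_mul_cancel_right₀ h3]
    rw [e1, e2] at h5
    exact ⟨_, hk.mul h1, h5⟩
  obtain ⟨g1, l1, m1, h1, h2, h3, h4⟩ := exists_ft H
  obtain ⟨g2, l2, m2, k1, k2, k3, k4⟩ := exists_tf H
  cases e <;> cases e'
  · exact exists_ff H hl hm
  · exact hadj _ _ _ h1 h2 h3 h4
  · exact hadj _ _ _ k1 k2 k3 k4
  · exact hadj _ _ _ (h1.mul k1) (sm_ne_zero _ _ _ h2 k2) (sm_ne_zero _ _ _ h3 k3)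
      (acts_mul F h4 k4)

/-! ### Two-transitivity and involutions -/

theorem two_trans [Finite G] (H : Sit F) {b1 b4 : F4} (hne : b1 ≠ b4) :
    ∃ g, Lin F g F4.w ∧ cj g (LA F b1) = F.V ∧ cj g (LA F b4) = F.U := by
  obtain ⟨x, hx, hxV, hxU⟩ := exists_x H
  have hy : ∀ b, F.y b ∈ F.T0 := fun b => by rw [F.y_eq_t]; exact t_mem_T0 F _ _ _ _
  -- first step
  obtain ⟨g1, hg1⟩ : ∃ g1, g1 = F.n1 * F.y b1 := ⟨_, rfl⟩
  have hg1L : Lin F g1 F4.w := by rw [hg1]; exact (lin_n1 F).mul_left (lin_T0 (hy b1))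
  have hg1A : cj g1 (LA F b1) = F.U := by
    rw [hg1, cj_mul, cj_y_LA, Frm.f4_add_self, cj_n1_LA0]
  have hg1V : cj g1 F.V = F.V := by rw [hg1, cj_mul, cj_T0_V (hy b1), cj_n1_V]
  obtain ⟨c1, hc1⟩ : ∃ c1, cj g1 (LA F b4) = LA F c1 := by
    rcases line_image H hg1L.1 b4 with h | h | h
    · rw [← hg1V] at h
      exact absurd (cj_inj h) (LA_ne_V _)
    · rw [← hg1A] at h
      exact absurd (LA_inj (cj_inj h)).symm hne
    · exact h
  -- second step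
  obtain ⟨c2, hc2⟩ : ∃ c2, cj x (LA F c1) = LA F c2 := by
    rcases line_image H hx.1 c1 with h | h | h
    · rw [← hxU] at h
      exact absurd (cj_inj h) (LA_ne_U _)
    · rw [← hxV] at h
      exact absurd (cj_inj h) (LA_ne_V _)
    · exact h
  refine ⟨F.n1 * F.y c2 * x * g1, (((lin_n1 F).mul_left (lin_T0 (hy c2))).mul_left hx).mul_left hg1L,
    ?_, ?_⟩
  · rw [cj_mul, cj_mul, cj_mul, hg1A, hxU, cj_T0_V (hy c2), cj_n1_V]
  · rw [cj_mul, cj_mul, cj_mul, hc1, hc2, cj_y_LA, Frm.f4_add_self, cj_n1_LA0]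

/-- the action on the lines `LA b` -/
theorem act_LA [Finite G] (H : Sit F) {g : G} {e e' : Bool} {l m : F4} (hE : NE F g)
    (hA : Acts F g e e' l m) (hVU : (cj g F.V = F.V ∧ cj g F.U = F.U) ∨
      (cj g F.V = F.U ∧ cj g F.U = F.V)) :
    ∃ p, ∀ b, cj g (LA F b) = LA F (sm e' m b + p) := by
  obtain ⟨p, hp⟩ : ∃ p, cj g (LA F 0) = LA F p := by
    rcases line_image H (NE_iff.1 hE).1 0 with h | h | h
    · rcases hVU with ⟨h1, h2⟩ | ⟨h1, h2⟩
      · rw [← h1] at h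
        exact absurd (cj_inj h) (LA_ne_V _)
      · rw [← h2] at h
        exact absurd (cj_inj h) (LA_ne_U _)
    · rcases hVU with ⟨h1, h2⟩ | ⟨h1, h2⟩
      · rw [← h2] at h
        exact absurd (cj_inj h) (LA_ne_U _)
      · rw [← h1] at h
        exact absurd (cj_inj h) (LA_ne_V _)
    · exact h
  refine ⟨p, fun b => ?_⟩
  obtain ⟨c, s, h2⟩ := hA.2 b
  have h3 : cj (F.y b) (LA F 0) = LA F b := by rw [cj_y_LA, add_zero]
  have h5 : g * F.y b = (g * F.y b * g⁻¹) * g := by group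
  rw [← h3, ← cj_mul, h5, cj_mul, hp, h2, F.yd_eq_t, cj_t_LA]

theorem acts_sq {g : G} {e e' : Bool} {l m : F4} (hl : l ≠ 0) (hm : m ≠ 0)
    (hA : Acts F g e e' l m) (hg : g * g = 1) : sm e l l = 1 ∧ sm e' m m = 1 := by
  have h1 := acts_mul F hA hA
  rw [hg] at h1
  obtain ⟨-, -, h2, h3⟩ := acts_unique F h1 (acts_one F) (sm_ne_zero _ _ _ hl hl)
    (sm_ne_zero _ _ _ hm hm)
  exact ⟨h2, h3⟩

theorem mem_of_ff (H : Sit F) {g : G} {l m : F4} (hl : l ≠ 0) (hm : m ≠ 0)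
    (hA : Acts F g false false l m) (hg : g * g = 1) : g ∈ F.T0 := by
  obtain ⟨h1, h2⟩ := acts_sq hl hm hA hg
  have key : ∀ l : F4, sm false l l = 1 → l = 1 := by decide
  rw [key l h1, key m h2] at hA
  exact H.mem_T0_of_acts hA (n := 1) (by rw [pow_one, pow_two]; exact hg)

theorem conj_sq {g u : G} (h : u * u = 1) : (g * u * g⁻¹) * (g * u * g⁻¹) = 1 := by
  calc (g * u * g⁻¹) * (g * u * g⁻¹) = g * (u * u) * g⁻¹ := by group
    _ = 1 := by rw [h]; group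

theorem A3_ft [Finite G] (H : Sit F) {u : G} {l m : F4} (hl : l ≠ 0) (hm : m ≠ 0)
    (hE : NE F u) (hA : Acts F u false true l m) (hu : u * u = 1) :
    ∃ g, g * u * g⁻¹ ∈ F.T0 := by
  have hVU : cj u F.V = F.U ∧ cj u F.U = F.V := by
    constructor
    · apply cj_V_eq_U
      intro s
      rw [act_d F hA]
      exact ⟨_, by simp [dact]; rfl⟩
    · apply cj_U_eq_V
      intro s
      rw [act_d F hA]
      exact ⟨_, by simp [dact]; rfl⟩
  have hlin := lin_of_acts H hE hl hA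
  obtain ⟨p, hp⟩ := act_LA H hE hA (Or.inr hVU)
  have hpp : sm true m p + p = 0 := by
    have h1 : cj u (cj u (LA F 0)) = LA F 0 := by rw [← cj_mul, hu, cj_one]
    rw [hp, hp] at h1
    have h2 := LA_inj h1
    rw [sm_zero, zero_add] at h2
    exact h2
  have key : ∀ m p : F4, m ≠ 0 → sm true m p + p = 0 → ∃ b1 b4, b1 ≠ b4 ∧
      sm true m b1 + p = b1 ∧ sm true m b4 + p = b4 := by decide
  obtain ⟨b1, b4, hne, h1, h4⟩ := key m p hm hpp
  obtain ⟨g, hg, hg1, hg4⟩ := two_trans H hne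
  refine ⟨g, ?_⟩
  have hV : cj (g * u * g⁻¹) F.V = F.V := by
    rw [cj_mul, cj_mul, cj_inv_eq hg1, hp, h1, hg1]
  have hU : cj (g * u * g⁻¹) F.U = F.U := by
    rw [cj_mul, cj_mul, cj_inv_eq hg4, hp, h4, hg4]
  have hT := nt_of_fix H hV hU
  have hL : Lin F (g * u * g⁻¹) F4.w := (hg.mul_left hlin).mul_left hg.inv
  have hE' := NE_of_E1 hT hL.1
  obtain ⟨e2, e2', l2, m2, hl2, hm2, hA2⟩ := exists_acts F hT hE'.1 hE'.2
  have h5 := lin_type hl2 hA2 hL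
  have h6 := parity_V hl2 hm2 hA2 hV
  have h7 : e2 = false := by
    cases e2
    · rfl
    · exact absurd h5 (by decide)
  subst h7
  subst h6
  exact mem_of_ff H hl2 hm2 hA2 (conj_sq hu)

theorem A3_tf [Finite G] (H : Sit F) {u : G} {l m : F4} (hl : l ≠ 0) (hm : m ≠ 0)
    (hE : NE F u) (hA : Acts F u true false l m) (hu : u * u = 1) :
    ∃ g, g * u * g⁻¹ ∈ F.T0 := by
  obtain ⟨g, hg⟩ := A3_ft (sit_swap H) hm hl (NE_swap.2 hE) (acts_swap hA) hu
  rw [swap_T0] at hg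
  exact ⟨g, hg⟩

theorem A3_tt [Finite G] (H : Sit F) {u : G} {l m : F4} (hl : l ≠ 0) (hm : m ≠ 0)
    (hE : NE F u) (hA : Acts F u true true l m) (hu : u * u = 1) :
    ∃ g, g * u * g⁻¹ ∈ F.T0 := by
  have hVU : cj u F.V = F.V ∧ cj u F.U = F.U := by
    constructor
    · refine cj_eq_of_le (cj_le ?_) rfl (by rw [T0.card_V]; decide)
      rintro _ ⟨s, rfl⟩
      rw [act_d F hA]
      exact ⟨_, by simp [dact]; rfl⟩
    · refine cj_eq_of_le (cj_le ?_) rfl (by rw [T0.card_U]; decide)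
      rintro _ ⟨s, rfl⟩
      rw [act_d F hA]
      exact ⟨_, by simp [dact]; rfl⟩
  have hlin := lin_of_acts H hE hl hA
  obtain ⟨p, hp⟩ := act_LA H hE hA (Or.inl hVU)
  have hpp : sm true m p + p = 0 := by
    have h1 : cj u (cj u (LA F 0)) = LA F 0 := by rw [← cj_mul, hu, cj_one]
    rw [hp, hp] at h1
    have h2 := LA_inj h1
    rw [sm_zero, zero_add] at h2
    exact h2
  have key : ∀ m p : F4, m ≠ 0 → sm true m p + p = 0 → ∃ b2 b3, b2 ≠ b3 ∧
      sm true m b2 + p = b3 ∧ sm true m b3 + p = b2 := by decide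
  obtain ⟨b2, b3, hne, h1, h4⟩ := key m p hm hpp
  obtain ⟨g, hg, hg2, hg3⟩ := two_trans H hne
  have hV : cj (g * u * g⁻¹) F.V = F.U := by
    rw [cj_mul, cj_mul, cj_inv_eq hg2, hp, h1, hg3]
  have hU : cj (g * u * g⁻¹) F.U = F.V := by
    rw [cj_mul, cj_mul, cj_inv_eq hg3, hp, h4, hg2]
  have hT := nt_of_swap H hV hU
  have hL : Lin F (g * u * g⁻¹) F4.v := (hg.mul_left hlin).mul_right hg.inv
  have hE' := NE_of_E1 hT hL.1
  obtain ⟨e2, e2', l2, m2, hl2, hm2, hA2⟩ := exists_acts F hT hE'.1 hE'.2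
  have h5 := lin_type hl2 hA2 hL
  have h6 := parity_U hl2 hm2 hA2 hV
  have h7 : e2 = true := by
    cases e2
    · exact absurd h5 (by decide)
    · rfl
  subst h7
  subst h6
  obtain ⟨g', hg'⟩ := A3_tf H hl2 hm2 hE' hA2 (conj_sq hu)
  refine ⟨g' * g, ?_⟩
  have e : g' * g * u * (g' * g)⁻¹ = g' * (g * u * g⁻¹) * g'⁻¹ := by group
  rw [e]
  exact hg'

/-- (A3) every involution of `N(T0)` fixing `E1` and `E2` is conjugate to an element of `T0`. -/
theorem exists_conj_mem_T0 [Finite G] (H : Sit F) {u : G} (hT : NT F u) (hE : NE F u)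
    (hu : u * u = 1) : ∃ g, g * u * g⁻¹ ∈ F.T0 := by
  obtain ⟨e, e', l, m, hl, hm, hA⟩ := exists_acts F hT hE.1 hE.2
  cases e <;> cases e'
  · exact ⟨1, by simpa using mem_of_ff H hl hm hA hu⟩
  · exact A3_ft H hl hm hE hA hu
  · exact A3_tf H hl hm hE hA hu
  · exact A3_tt H hl hm hE hA hu

end Cfsg.Agent.StandardComponent.HeldType.Gamma
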