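import Cfsg.Agent.StandardComponent.HeldType.Gamma

/-!
`E1` and `E2` are the only elementary abelian subgroups of order at least `64` of a `2`-subgroup of `N(T0)`, and a
maximal `2`-subgroup of `N(T0)` is a Sylow `2`-subgroup of `G`.
-/

set_option autoImplicit false

namespace Cfsg.Agent.StandardComponent.HeldType.SylB1

open Cfsg.Agent.Lib.FieldFour Cfsg.Agent.StandardComponent.HeldType.Frame
  Cfsg.Agent.StandardComponent.HeldType.Act Cfsg.Agent.StandardComponent.HeldType.ActType
  Cfsg.Agent.StandardComponent.HeldType.Basic Cfsg.Agent.StandardComponent.HeldType.Ctx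
  Cfsg.Agent.StandardComponent.HeldType.SixLines Cfsg.Agent.StandardComponent.HeldType.Sigma
  Cfsg.Agent.StandardComponent.HeldType.Gamma

variable {G : Type*} [Group G] {L : Subgroup G} {F : Frm L}

/-! ### Counting -/

theorem card_le_of_map [Finite G] {A A0 : Subgroup G} {ι : Type} [Fintype ι] (f : A → ι)
    (hf : ∀ a b : A, f a = f b → (a : G)⁻¹ * b ∈ A0) :
    Nat.card A ≤ Fintype.card ι * Nat.card A0 := by
  classical
  let rep : ι → A := fun i => if h : ∃ a, f a = i then h.choose else 1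
  have hrep : ∀ a : A, f (rep (f a)) = f a := by
    intro a
    have h : ∃ b, f b = f a := ⟨a, rfl⟩
    have : rep (f a) = h.choose := dif_pos h
    rw [this]
    exact h.choose_spec
  let φ : A → ι × A0 := fun a => (f a, ⟨((rep (f a) : A) : G)⁻¹ * a, hf _ _ (hrep a)⟩)
  have hinj : Function.Injective φ := by
    intro a b hab
    have h1 : f a = f b := congrArg Prod.fst hab
    have h2 : ((rep (f a) : A) : G)⁻¹ * a = ((rep (f b) : A) : G)⁻¹ * b :=
      congrArg Subtype.val (congrArg Prod.snd hab)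
    rw [h1] at h2
    exact Subtype.ext (mul_left_cancel h2)
  have h3 := Nat.card_le_card_of_injective φ hinj
  rwa [Nat.card_prod, Nat.card_eq_fintype_card (α := ι)] at h3

theorem card_le_of_D0 {B : Subgroup G} (hB : B ≤ F.D0) (P : F4 → F4 → Bool)
    (hP : ∀ c s, F.d c s ∈ B → P c s = true) {n : ℕ}
    (hn : Fintype.card {p : F4 × F4 // P p.1 p.2 = true} ≤ n) : Nat.card B ≤ n := by
  choose c s hcs using fun b : B => hB b.2
  have hmem : ∀ b : B, P (c b) (s b) = true := fun b => hP _ _ (by rw [← hcs]; exact b.2)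
  have h3 := Nat.card_le_card_of_injective
    (fun b : B => (⟨(c b, s b), hmem b⟩ : {p : F4 × F4 // P p.1 p.2 = true})) (by
      intro b b' h
      have h1 : (c b, s b) = (c b', s b') := congrArg Subtype.val h
      have h4 : c b = c b' := congrArg Prod.fst h1
      have h5 : s b = s b' := congrArg Prod.snd h1
      apply Subtype.ext
      rw [hcs b, hcs b', h4, h5])
  rw [Nat.card_eq_fintype_card (α := {p : F4 × F4 // P p.1 p.2 = true})] at h3
  exact h3.trans hn

/-- bound for the fixed points on `E1` -/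
theorem card_le_of_E1 [Finite G] {A0 : Subgroup G} (hA : A0 ≤ F.E1) (Q : F4 → Bool)
    (hQ : ∀ a c s, F.t a 0 c s ∈ A0 → Q a = true) (P : F4 → F4 → Bool)
    (hP : ∀ c s, F.d c s ∈ A0 → P c s = true) {n k : ℕ}
    (hk : Fintype.card {a : F4 // Q a = true} ≤ k)
    (hn : Fintype.card {p : F4 × F4 // P p.1 p.2 = true} ≤ n) : Nat.card A0 ≤ k * n := by
  choose a c s hs using fun b : A0 => hA b.2
  have hmem : ∀ b : A0, Q (a b) = true := fun b => hQ _ _ _ (by rw [← hs]; exact b.2)
  have h1 := card_le_of_map (A := A0) (A0 := A0 ⊓ F.D0)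
    (fun b => (⟨a b, hmem b⟩ : {a : F4 // Q a = true})) (by
      intro b b' h
      have h2 : a b = a b' := congrArg Subtype.val h
      refine ⟨A0.mul_mem (A0.inv_mem b.2) b'.2, ?_⟩
      rw [hs b, hs b', F.t_inv, F.t_mul, h2, Frm.f4_add_self, add_zero, ← F.d_eq_t]
      exact ⟨_, _, rfl⟩)
  have h2 : Nat.card (A0 ⊓ F.D0 : Subgroup G) ≤ n :=
    card_le_of_D0 (F := F) inf_le_right P (fun c s h => hP c s h.1) hn
  exact h1.trans (Nat.mul_le_mul hk h2)

/-! ### The bound -/

theorem fix_of_comm {e : G} {x y : G} (h : e * x = x * e) (h1 : e * x * e⁻¹ = y) : x = y := by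
  rw [← h1, h, mul_inv_cancel_right]

theorem bound [Finite G] (H : Sit F) {A : Subgroup G} (hcomm : ∀ a ∈ A, ∀ b ∈ A, a * b = b * a)
    (hsq : ∀ a ∈ A, a * a = 1) (hNT : ∀ a ∈ A, NT F a) (hE1 : A ⊓ F.T0 ≤ F.E1)
    (hnot : ¬ A ≤ F.T0) : Nat.card A ≤ 32 := by
  have hty : ∀ a : A, ∃ (σ e e' : Bool) (l m : F4), l ≠ 0 ∧ m ≠ 0 ∧
      ((σ = false ∧ Acts F a e e' l m) ∨ (σ = true ∧ ActsS F a e e' l m)) := by
    intro a
    rcases act_cases F (hNT a a.2) with ⟨e, e', l, m, hl, hm, h⟩ | ⟨e, e', l, m, hl, hm, h⟩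
    · exact ⟨false, e, e', l, m, hl, hm, Or.inl ⟨rfl, h⟩⟩
    · exact ⟨true, e, e', l, m, hl, hm, Or.inr ⟨rfl, h⟩⟩
  choose σ e e' l m hl hm hA using hty
  have hA1 : ∀ a : A, σ a = false → Acts F a (e a) (e' a) (l a) (m a) := by
    intro a h
    rcases hA a with ⟨-, h1⟩ | ⟨h1, -⟩
    · exact h1
    · rw [h] at h1; exact absurd h1 (by decide)
  have hA2 : ∀ a : A, σ a = true → ActsS F a (e a) (e' a) (l a) (m a) := by
    intro a h
    rcases hA a with ⟨h1, -⟩ | ⟨-, h1⟩
    · rw [h] at h1; exact absurd h1 (by decide)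
    · exact h1
  have hinv : ∀ a ∈ A, a⁻¹ = a := fun a ha => inv_eq_of_mul_eq_one_left (hsq a ha)
  -- products of elements with the same type
  have hprod : ∀ a b : A, ∀ {e1 e1' : Bool} {l1 m1 : F4}, l1 ≠ 0 → m1 ≠ 0 →
      Acts F ((a : G) * b) e1 e1' l1 m1 → e1 = false → e1' = false →
      (a : G)⁻¹ * b ∈ A ⊓ F.T0 := by
    intro a b e1 e1' l1 m1 h1 h2 h3 h4 h5
    subst h4 h5
    have h6 := A.mul_mem a.2 b.2
    rw [hinv a a.2]
    exact ⟨h6, mem_of_ff H h1 h2 h3 (hsq _ h6)⟩
  by_cases hS : ∃ a : A, σ a = true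
  · obtain ⟨a0, ha0⟩ := hS
    have h0 := hA2 a0 ha0
    have hpar : ∀ a : A, σ a = true → e' a = e a ∧ sm (e' a) (m a) (l a) = 1 := by
      intro a ha
      have h1 := actsS_mulS F (hA2 a ha) (hA2 a ha)
      rw [hsq a a.2] at h1
      obtain ⟨h2, -, h3, -⟩ := acts_unique F h1 (acts_one F) (sm_ne_zero _ _ _ (hm a) (hl a))
        (sm_ne_zero _ _ _ (hl a) (hm a))
      refine ⟨?_, h3⟩
      revert h2
      cases e' a <;> cases e a <;> decide
    have hpar' : ∀ a : A, σ a = false → e' a = e a := by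
      intro a ha
      have h1 := acts_mulS F (hA1 a ha) h0
      have h2 := actsS_mul F h0 (hA1 a ha)
      rw [hcomm _ a.2 _ a0.2] at h1
      obtain ⟨h3, -⟩ := actsS_unique h1 h2 (sm_ne_zero _ _ _ (hm a) (hl a0))
        (sm_ne_zero _ _ _ (hl a) (hm a0))
      revert h3
      cases e' a <;> cases e a <;> cases e a0 <;> decide
    have hD : A ⊓ F.T0 ≤ F.D0 := by
      intro u hu
      rw [← T0.E1_inf_E2]
      refine ⟨hE1 hu, ?_⟩
      have h1 : (a0 : G) * u * (a0 : G)⁻¹ ∈ F.E2 := by
        obtain ⟨a, c, s, rfl⟩ := hE1 hu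
        obtain ⟨c', s', h2⟩ := conjS_xd F h0 a c s
        rw [F.xd_eq_t, F.yd_eq_t] at h2
        rw [h2]
        exact ⟨_, _, _, rfl⟩
      rwa [hcomm _ a0.2 _ hu.1, mul_inv_cancel_right] at h1
    have h8 : Nat.card (A ⊓ F.T0 : Subgroup G) ≤ 8 := by
      obtain ⟨r1, r2⟩ := hpar a0 ha0
      refine card_le_of_D0 (F := F) hD
        (fun c s => decide (dactS (e a0) (e a0) (l a0) (m a0) c s = (c, s))) ?_ ?_
      · intro c s h
        rw [decide_eq_true_iff]
        have h1 := actS_d F h0 c s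
        have h2 := fix_of_comm (hcomm _ a0.2 _ h.1) h1
        rw [r1] at h2
        obtain ⟨h3, h4⟩ := d_inj F h2
        exact Prod.ext h3.symm h4.symm
      · rw [r1] at r2
        have key : ∀ (e : Bool) (l m : F4), l ≠ 0 → m ≠ 0 → sm e m l = 1 →
            Fintype.card {p : F4 × F4 // decide (dactS e e l m p.1 p.2 = (p.1, p.2)) = true} ≤ 8 := by
          decide +kernel
        exact key _ _ _ (hl a0) (hm a0) r2
    have h4 := card_le_of_map (A := A) (A0 := A ⊓ F.T0) (fun a => (σ a, e a)) (by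
      intro a b hab
      have h1 : σ a = σ b := congrArg Prod.fst hab
      have h2 : e a = e b := congrArg Prod.snd hab
      cases hσ : σ a with
      | false =>
        have hσb : σ b = false := by rw [← h1]; exact hσ
        refine hprod a b (sm_ne_zero _ _ _ (hl a) (hl b)) (sm_ne_zero _ _ _ (hm a) (hm b))
          (acts_mul F (hA1 a hσ) (hA1 b hσb)) ?_ ?_
        · rw [h2]; cases e b <;> rfl
        · rw [hpar' a hσ, hpar' b hσb, h2]; cases e b <;> rfl
      | true =>
        have hσb : σ b = true := by rw [← h1]; exact hσ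
        refine hprod a b (sm_ne_zero _ _ _ (hm a) (hl b)) (sm_ne_zero _ _ _ (hl a) (hm b))
          (actsS_mulS F (hA2 a hσ) (hA2 b hσb)) ?_ ?_
        · rw [(hpar a hσ).1, h2]; cases e b <;> rfl
        · rw [(hpar b hσb).1, h2]; cases e b <;> rfl)
    have h5 : Fintype.card (Bool × Bool) = 4 := rfl
    rw [h5] at h4
    omega
  · have hσ : ∀ a : A, σ a = false := by
      intro a
      by_contra h
      exact hS ⟨a, by revert h; cases σ a <;> decide⟩
    -- fixed points on `E1`
    have hfix : ∀ a0 : A, Nat.card (A ⊓ F.T0 : Subgroup G) ≤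
        Fintype.card {x : F4 // decide (sm (e a0) (l a0) x = x) = true} *
          Fintype.card {p : F4 × F4 // decide (dact (e a0) (e' a0) (l a0) (m a0) p.1 p.2 =
            (p.1, p.2)) = true} := by
      intro a0
      have h0 := hA1 a0 (hσ a0)
      refine card_le_of_E1 (F := F) hE1 (fun x => decide (sm (e a0) (l a0) x = x)) ?_
        (fun c s => decide (dact (e a0) (e' a0) (l a0) (m a0) c s = (c, s))) ?_ le_rfl le_rfl
      · intro a c s h
        rw [decide_eq_true_iff]
        obtain ⟨c', s', h2⟩ := conj_xd F h0 a c s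
        rw [F.xd_eq_t, F.xd_eq_t] at h2
        have h3 := fix_of_comm (hcomm _ a0.2 _ h.1) h2
        exact (F.t_inj h3).1.symm
      · intro c s h
        rw [decide_eq_true_iff]
        have h1 := act_d F h0 c s
        have h2 := fix_of_comm (hcomm _ a0.2 _ h.1) h1
        obtain ⟨h3, h4⟩ := d_inj F h2
        exact Prod.ext h3.symm h4.symm
    have hsqt : ∀ a0 : A, sm (e a0) (l a0) (l a0) = 1 ∧ sm (e' a0) (m a0) (m a0) = 1 :=
      fun a0 => acts_sq (hl a0) (hm a0) (hA1 a0 (hσ a0)) (hsq a0 a0.2)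
    by_cases ht : ∃ a0 : A, e a0 = true
    · obtain ⟨a0, ha0⟩ := ht
      have h8 : Nat.card (A ⊓ F.T0 : Subgroup G) ≤ 8 := by
        refine (hfix a0).trans ?_
        rw [ha0]
        have key : ∀ (e' : Bool) (l m : F4), l ≠ 0 → m ≠ 0 → sm true l l = 1 → sm e' m m = 1 →
            Fintype.card {x : F4 // decide (sm true l x = x) = true} *
              Fintype.card {p : F4 × F4 // decide (dact true e' l m p.1 p.2 =
                (p.1, p.2)) = true} ≤ 8 := by
          decide +kernel
        have h1 := hsqt a0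
        rw [ha0] at h1
        exact key _ _ _ (hl a0) (hm a0) h1.1 h1.2
      have h4 := card_le_of_map (A := A) (A0 := A ⊓ F.T0) (fun a => (e a, e' a)) (by
        intro a b hab
        have h1 : e a = e b := congrArg Prod.fst hab
        have h2 : e' a = e' b := congrArg Prod.snd hab
        refine hprod a b (sm_ne_zero _ _ _ (hl a) (hl b)) (sm_ne_zero _ _ _ (hm a) (hm b))
          (acts_mul F (hA1 a (hσ a)) (hA1 b (hσ b))) ?_ ?_
        · rw [h1]; cases e b <;> rfl
        · rw [h2]; cases e' b <;> rfl)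
      have h5 : Fintype.card (Bool × Bool) = 4 := rfl
      rw [h5] at h4
      omega
    · have he : ∀ a : A, e a = false := by
        intro a
        by_contra h
        exact ht ⟨a, by revert h; cases e a <;> decide⟩
      obtain ⟨x, hxA, hxT⟩ := SetLike.not_le_iff_exists.1 hnot
      obtain ⟨a0, ha0⟩ : ∃ a0 : A, (a0 : G) = x := ⟨⟨x, hxA⟩, rfl⟩
      have he' : e' a0 = true := by
        by_contra h
        have h1 : e' a0 = false := by revert h; cases e' a0 <;> decide
        have h2 := hA1 a0 (hσ a0)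
        rw [he a0, h1] at h2
        have h3 := mem_of_ff H (hl a0) (hm a0) h2 (hsq _ a0.2)
        rw [ha0] at h3
        exact hxT h3
      have h16 : Nat.card (A ⊓ F.T0 : Subgroup G) ≤ 16 := by
        refine (hfix a0).trans ?_
        rw [he a0, he']
        have key : ∀ (l m : F4), l ≠ 0 → m ≠ 0 → sm false l l = 1 → sm true m m = 1 →
            Fintype.card {x : F4 // decide (sm false l x = x) = true} *
              Fintype.card {p : F4 × F4 // decide (dact false true l m p.1 p.2 =
                (p.1, p.2)) = true} ≤ 16 := by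
          decide +kernel
        have h1 := hsqt a0
        rw [he a0, he'] at h1
        exact key _ _ (hl a0) (hm a0) h1.1 h1.2
      have h4 := card_le_of_map (A := A) (A0 := A ⊓ F.T0) (fun a => e' a) (by
        intro a b hab
        have h2 : e' a = e' b := hab
        refine hprod a b (sm_ne_zero _ _ _ (hl a) (hl b)) (sm_ne_zero _ _ _ (hm a) (hm b))
          (acts_mul F (hA1 a (hσ a)) (hA1 b (hσ b))) ?_ ?_
        · rw [he a, he b]; rfl
        · rw [h2]; cases e' b <;> rfl)
      have h5 : Fintype.card Bool = 2 := rfl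
      rw [h5] at h4
      omega

/-- an elementary abelian subgroup of order `64` of `N(T0)` is `E1` or `E2` -/
theorem eq_E1_or_E2 [Finite G] (H : Sit F) {A : Subgroup G}
    (hcomm : ∀ a ∈ A, ∀ b ∈ A, a * b = b * a) (hsq : ∀ a ∈ A, a * a = 1)
    (hNT : ∀ a ∈ A, NT F a) (hcard : 64 ≤ Nat.card A) : A = F.E1 ∨ A = F.E2 := by
  have hle : A ≤ F.T0 := by
    by_contra hnot
    rcases T0.le_E1_or_E2 F (A := A ⊓ F.T0) inf_le_right
      (fun g hg g' hg' => hcomm g hg.1 g' hg'.1) (fun g hg => hsq g hg.1) with h | h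
    · have := bound H hcomm hsq hNT h hnot
      omega
    · have := bound (sit_swap H) hcomm hsq (fun a ha => NT_swap.2 (hNT a ha))
        (by rw [swap_T0, swap_E1]; exact h) (by rw [swap_T0]; exact hnot)
      omega
  exact T0.eq_E1_or_E2 F hle hcomm hcard

/-- (B1) -/
theorem b1 [Finite G] (H : Sit F) : ∀ T : Subgroup G, IsPGroup 2 T → F.T0 ≤ T →
    (∀ t ∈ T, NT F t) →
    (∀ T' : Subgroup G, IsPGroup 2 T' → T ≤ T' → (∀ t ∈ T', NT F t) → T' ≤ T) →
    ∃ S : Sylow 2 G, (S : Subgroup G) = T := by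
  intro T hT hT0 hNT hmax
  obtain ⟨S, hS⟩ := hT.exists_le_sylow
  refine ⟨S, ?_⟩
  -- elements of `S` normalising `T` lie in `T`
  have key : ∀ x ∈ (S : Subgroup G), (∀ t ∈ T, x * t * x⁻¹ ∈ T) → x ∈ T := by
    intro x hxS hx
    have hconj : ∀ A : Subgroup G, A ≤ F.T0 → (∀ a ∈ A, ∀ b ∈ A, a * b = b * a) →
        (∀ a ∈ A, a * a = 1) → Nat.card A = 64 → cj x A ≤ F.T0 := by
      intro A hA h1 h2 h3
      have h4 : cj x A = F.E1 ∨ cj x A = F.E2 := by
        apply eq_E1_or_E2 H
        · intro a ha b hb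
          rw [mem_cj'] at ha hb
          have h5 := h1 _ ha _ hb
          have h6 : a * b = x * ((x⁻¹ * a * x) * (x⁻¹ * b * x)) * x⁻¹ := by group
          rw [h6, h5]; group
        · intro a ha
          rw [mem_cj'] at ha
          have h5 := h2 _ ha
          have h6 : a * a = x * ((x⁻¹ * a * x) * (x⁻¹ * a * x)) * x⁻¹ := by group
          rw [h6, h5]; group
        · intro a ha
          apply hNT
          rw [mem_cj'] at ha
          have h5 := hx _ (hT0 (hA ha))
          have : x * (x⁻¹ * a * x) * x⁻¹ = a := by group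
          rwa [this] at h5
        · rw [card_cj, h3]
      rcases h4 with h | h
      · rw [h]; exact T0.E1_le F
      · rw [h]; exact T0.E2_le F
    have h1 := hconj F.E1 (T0.E1_le F) (fun a ha b hb => T0.E1_comm F ha hb)
      (fun a ha => T0.E1_sq F ha) (T0.card_E1 F)
    have h2 := hconj F.E2 (T0.E2_le F) (fun a ha b hb => T0.E2_comm F ha hb)
      (fun a ha => T0.E2_sq F ha) (T0.card_E2 F)
    have hxNT : NT F x := by
      apply NT_of_le
      rintro _ ⟨a, b, c, s, rfl⟩
      have e1 : F.t a b c s = F.t a 0 0 0 * F.t 0 b c s := by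
        rw [F.t_mul]
        congr 1 <;> ring
      have e2 : x * (F.t a 0 0 0 * F.t 0 b c s) * x⁻¹ =
          (x * F.t a 0 0 0 * x⁻¹) * (x * F.t 0 b c s * x⁻¹) := by group
      rw [e1, e2]
      exact F.T0.mul_mem (h1 (mem_cj.2 ⟨a, 0, 0, rfl⟩)) (h2 (mem_cj.2 ⟨b, c, s, rfl⟩))
    -- the intersection of `S` with the normaliser of `T0`
    let N : Subgroup G :=
      { carrier := {g | NT F g}
        one_mem' := NT.one
        mul_mem' := fun h h' => h.mul h'
        inv_mem' := fun h => h.inv }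
    exact hmax ((S : Subgroup G) ⊓ N) (S.isPGroup'.to_le inf_le_left) (le_inf hS hNT)
      (fun t ht => ht.2) ⟨hxS, hxNT⟩
  have hnil : Group.IsNilpotent (S : Subgroup G) := S.isPGroup'.isNilpotent
  have htop : T.subgroupOf (S : Subgroup G) = ⊤ := by
    by_contra hne
    have hlt := Group.normalizerCondition_of_isNilpotent (G := (S : Subgroup G))
      (T.subgroupOf (S : Subgroup G)) (lt_top_iff_ne_top.2 hne)
    obtain ⟨x, hx, hxn⟩ := SetLike.exists_of_lt hlt
    apply hxn
    rw [Subgroup.mem_subgroupOf]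
    apply key x x.2
    intro t ht
    rw [Subgroup.mem_normalizer_iff] at hx
    have h1 := (hx ⟨t, hS ht⟩).1 (by rw [Subgroup.mem_subgroupOf]; exact ht)
    rw [Subgroup.mem_subgroupOf] at h1
    exact h1
  apply le_antisymm _ hS
  intro x hx
  have h1 : (⟨x, hx⟩ : (S : Subgroup G)) ∈ T.subgroupOf (S : Subgroup G) := by
    rw [htop]; trivial
  rwa [Subgroup.mem_subgroupOf] at h1

end Cfsg.Agent.StandardComponent.HeldType.SylB1
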