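import Mathlib
import Cfsg.Agent.StandardComponent.HeldType.Ctx

/-!
The centraliser of `L` is `V × Y` with `Y` of odd order, normalised by `N(T0)`.
-/

set_option autoImplicit false

namespace Cfsg.Agent.StandardComponent.HeldType.OddPart

open Cfsg.Agent.Lib.FieldFour Cfsg.Agent.StandardComponent.HeldType.Frame
  Cfsg.Agent.StandardComponent.HeldType.Act Cfsg.Agent.StandardComponent.HeldType.ActType
  Cfsg.Agent.StandardComponent.HeldType.Basic Cfsg.Agent.StandardComponent.HeldType.Ctx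

theorem exists_hom {K : Type*} [Group K] [Finite K] (P : Subgroup K) (hP : P ≤ Subgroup.center K) :
    ∃ φ : K →* P, ∀ k, (φ k : K) = k ^ P.index := by
  have hc : IsMulCommutative P := ⟨⟨fun a b => Subtype.ext
    (by simpa using (Subgroup.mem_center_iff.1 (hP a.2) b).symm)⟩⟩
  letI : CommGroup P := { (inferInstance : Group P) with mul_comm := hc.is_comm.comm }
  have key : ∀ (g : K) (k : ℕ) (g₀ : K), g₀⁻¹ * g ^ k * g₀ ∈ P → g₀⁻¹ * g ^ k * g₀ = g ^ k := by
    intro g k g₀ hk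
    have h1 := Subgroup.mem_center_iff.1 (hP hk) g₀
    have h2 : g₀ * (g₀⁻¹ * g ^ k * g₀) = g ^ k * g₀ := by group
    rw [h2] at h1
    exact (mul_right_cancel h1).symm
  refine ⟨MonoidHom.transfer (MonoidHom.id P), fun k => ?_⟩
  rw [MonoidHom.transfer_eq_pow (MonoidHom.id P) k (key k)]
  rfl

variable {G : Type*} [Group G] {L : Subgroup G} {F : Frm L}

theorem exists_odd [Finite G] (H : Sit F) : ∃ Y : Subgroup G, Odd (Nat.card Y) ∧ (∀ y ∈ Y, Cen L y) ∧
    (∀ k, Cen L k → ∃ v ∈ F.V, v⁻¹ * k ∈ Y) ∧ (∀ g, NT F g → ∀ y, y ∈ Y ↔ g * y * g⁻¹ ∈ Y) := by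
  classical
  set K : Subgroup G := Subgroup.centralizer (L : Set G) with hK
  have hmem : ∀ k, k ∈ K ↔ Cen L k := fun k => (Cen.mem_centralizer).symm
  have hVK : F.V ≤ K := by
    rintro _ ⟨s, rfl⟩
    exact (hmem _).2 (F.cen_comm s)
  set P : Subgroup K := F.V.subgroupOf K with hP
  have hPc : P ≤ Subgroup.center K := by
    rintro ⟨p, hp⟩ hp'
    rw [Subgroup.mem_center_iff]
    rintro ⟨k, hk⟩
    obtain ⟨s, rfl⟩ : p ∈ F.V := hp'
    exact Subtype.ext ((hmem k).1 hk _ (F.d_mem 0 s))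
  have hPn : P.Normal := ⟨fun n hn g => by
    have h1 := Subgroup.mem_center_iff.1 (hPc hn) g
    rw [h1, mul_inv_cancel_right]; exact hn⟩
  have hsq : ∀ v ∈ F.V, v * v = 1 := by
    rintro _ ⟨s, rfl⟩; exact F.d_mul_self 0 s
  have hodd : Odd P.index := by
    rw [← Nat.not_even_iff_odd, even_iff_two_dvd]
    intro h2
    rw [Subgroup.index_eq_card] at h2
    haveI : Fact (Nat.Prime 2) := ⟨Nat.prime_two⟩
    obtain ⟨q, hq⟩ := exists_prime_orderOf_dvd_card' 2 h2
    obtain ⟨k, rfl⟩ := QuotientGroup.mk_surjective q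
    have h3 : ((k : K) : K ⧸ P) ^ 2 = 1 := by rw [← hq]; exact pow_orderOf_eq_one _
    have h4 : k ^ 2 ∈ P := by rwa [← QuotientGroup.mk_pow, QuotientGroup.eq_one_iff] at h3
    have h5 : ((k : K) : G) ^ 2 ^ 2 = 1 := by
      have h6 := hsq _ h4
      have h7 : ((k : K) : G) ^ 2 ^ 2 = ((k ^ 2 : K) : G) * ((k ^ 2 : K) : G) := by
        rw [Subgroup.coe_pow, ← pow_two, ← pow_mul]
        norm_num
      rw [h7]; exact h6
    have h6 : k ∈ P := H.cenK k.1 ((hmem _).1 k.2) ⟨2, h5⟩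
    have h7 : ((k : K) : K ⧸ P) = 1 := (QuotientGroup.eq_one_iff _).2 h6
    rw [h7, orderOf_one] at hq
    exact absurd hq (by norm_num)
  obtain ⟨φ, hφ⟩ := exists_hom P hPc
  set Y : Subgroup G := (φ.ker).map K.subtype with hY
  have hYmem : ∀ y, y ∈ Y ↔ Cen L y ∧ y ^ P.index = 1 := by
    intro y
    constructor
    · rintro ⟨k, hk, rfl⟩
      refine ⟨(hmem _).1 k.2, ?_⟩
      have h1 : (φ k : K) = 1 := by
        have : φ k = 1 := hk
        rw [this]; rfl
      rw [hφ] at h1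
      exact congrArg Subtype.val h1
    · rintro ⟨h1, h2⟩
      refine ⟨⟨y, (hmem _).2 h1⟩, ?_, rfl⟩
      change φ _ = 1
      apply Subtype.ext
      rw [hφ]
      exact Subtype.ext h2
  have hord : ∀ y ∈ Y, Odd (orderOf y) := fun y hy =>
    hodd.of_dvd_nat (orderOf_dvd_of_pow_eq_one ((hYmem y).1 hy).2)
  have hYof : ∀ y, Cen L y → Odd (orderOf y) → y ∈ Y := by
    intro y hy ho
    refine (hYmem y).2 ⟨hy, ?_⟩
    have h1 : y ^ P.index ∈ F.V := by
      have h2 : (⟨y, (hmem _).2 hy⟩ : K) ^ P.index ∈ P := P.pow_index_mem _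
      exact h2
    have h2 : Odd (orderOf (y ^ P.index)) := ho.of_dvd_nat (orderOf_pow_dvd _)
    have h3 : (y ^ P.index) ^ 2 = 1 := by rw [pow_two]; exact hsq _ h1
    have h4 := orderOf_dvd_of_pow_eq_one h3
    rcases (Nat.dvd_prime Nat.prime_two).1 h4 with h5 | h5
    · exact orderOf_eq_one_iff.1 h5
    · rw [h5] at h2; exact absurd h2 (by decide)
  refine ⟨Y, ?_, fun y hy => ((hYmem y).1 hy).1, ?_, ?_⟩
  · rw [← Nat.not_even_iff_odd, even_iff_two_dvd]
    intro h2
    haveI : Fact (Nat.Prime 2) := ⟨Nat.prime_two⟩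
    obtain ⟨q, hq⟩ := exists_prime_orderOf_dvd_card' 2 h2
    have h3 := hord q.1 q.2
    rw [Subgroup.orderOf_coe, hq] at h3
    exact absurd h3 (by decide)
  · intro k hk
    have hkK := (hmem k).2 hk
    have h1 : (⟨k, hkK⟩ : K) ^ P.index ∈ P := P.pow_index_mem _
    have h2 : k ^ P.index ∈ F.V := h1
    refine ⟨k ^ P.index, h2, (hYmem _).2 ⟨(Cen.inv ((hmem _).1 (hVK h2))).mul hk, ?_⟩⟩
    have hc : Commute (k ^ P.index)⁻¹ k := (Commute.pow_self k _).inv_left
    rw [hc.mul_pow]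
    have h3 : ((k ^ P.index)⁻¹) ^ P.index = (k ^ P.index)⁻¹ := by
      obtain ⟨m, hm⟩ := hodd
      rw [hm, pow_add, pow_mul, pow_one]
      have h4 : ((k ^ P.index)⁻¹) ^ 2 = 1 := by rw [pow_two]; exact hsq _ (F.V.inv_mem h2)
      rw [hm] at h4
      rw [h4, one_pow, one_mul]
    rw [h3, inv_mul_cancel]
  · have key : ∀ g, NT F g → ∀ y, y ∈ Y → g * y * g⁻¹ ∈ Y := by
      intro g hg y hy
      have h1 : ∀ t ∈ F.T0, g * y * g⁻¹ * t = t * (g * y * g⁻¹) := by
        intro t ht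
        have h2 : g⁻¹ * t * g ∈ F.T0 := by
          have := (hg.inv t).1 ht
          simpa using this
        have h3 := ((hYmem y).1 hy).1 _ (T0.T0_le F h2)
        calc g * y * g⁻¹ * t = g * (y * (g⁻¹ * t * g)) * g⁻¹ := by group
          _ = g * ((g⁻¹ * t * g) * y) * g⁻¹ := by rw [h3]
          _ = _ := by group
      obtain ⟨d, hd, k, hk, he⟩ := H.cent_T0 h1
      have ho : Odd (orderOf (g * y * g⁻¹)) := by
        have : orderOf (MulAut.conj g y) = orderOf y :=
          orderOf_injective (MulAut.conj g).toMonoidHom (MulAut.conj g).injective y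
        rw [MulAut.conj_apply] at this
        rw [this]; exact hord y hy
      have hdL : d ∈ L := T0.T0_le F (T0.D0_le F hd)
      have hc : Commute d k := (hk d hdL).symm
      have hdd : d * d = 1 := by
        obtain ⟨c, s, rfl⟩ := hd; exact F.d_mul_self c s
      have h5 : (d * k) ^ orderOf (g * y * g⁻¹) = 1 := by rw [← he]; exact pow_orderOf_eq_one _
      rw [hc.mul_pow] at h5
      obtain ⟨m, hm⟩ := ho
      have h6 : d ^ orderOf (g * y * g⁻¹) = d := by
        rw [hm, pow_add, pow_mul, pow_one, pow_two, hdd, one_pow, one_mul]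
      rw [h6] at h5
      have h7 : Cen L d := by
        rw [eq_inv_of_mul_eq_one_left h5]
        exact Cen.inv ((hmem _).1 (K.pow_mem ((hmem _).2 hk) _))
      exact hYof _ (by rw [he]; exact h7.mul hk) ⟨m, hm⟩
    intro g hg y
    refine ⟨key g hg y, fun h => ?_⟩
    have h1 := key g⁻¹ hg.inv _ h
    have h2 : g⁻¹ * (g * y * g⁻¹) * g⁻¹⁻¹ = y := by group
    rwa [h2] at h1

end Cfsg.Agent.StandardComponent.HeldType.OddPart
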