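import Mathlib
import Cfsg.Agent.StandardComponent.HeldType.Exists
import Cfsg.Agent.StandardComponent.HeldType.Bridge
import Cfsg.Agent.StandardComponent.HeldType.SylB1
import Cfsg.Agent.StdHeld.BoundB2
import Cfsg.Agent.StdHeld.Final

/-!
Standard subgroups of type `2^2.L_3(4)`: the assembly.
-/

set_option autoImplicit false

namespace Cfsg.Agent.StandardComponent.HeldType.Main

open Cfsg.Agent.Lib.FieldFour Cfsg.Agent.StandardComponent.HeldType.Frame
  Cfsg.Agent.StandardComponent.HeldType.Act Cfsg.Agent.StandardComponent.HeldType.ActType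
  Cfsg.Agent.StandardComponent.HeldType.Basic Cfsg.Agent.StandardComponent.HeldType.Ctx

/-- the strong form of the classification of simple groups with Sylow `2`-subgroups of type `L_5(2)` -/
def StrongL5 (G : Type*) [Group G] : Prop :=
  ∀ (u : ℕ → G) (P : Sylow 2 G), Cfsg.Agent.SylowL5.Setup.Emb (P : Subgroup G) u →
    Nonempty (G ≃* Matrix.SpecialLinearGroup (Fin 5) (ZMod 2)) ∨ Nonempty (G ≃* Cfsg.M24) ∨
      Cfsg.Spor.IsoHe G

theorem sit_of_fusion {G : Type*} [Group G] [Finite G] [IsSimpleGroup G]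
    (hG : ¬ IsMulCommutative G) {L : Subgroup G} (hL : Cfsg.IsStandardSubgroup L) (F : Frm L)
    (hcrit : Crit G ∨ CritG G) : Sit F := by
  obtain ⟨h1, h2⟩ := fusion hG hL F hcrit
  exact ⟨TE.of_standard hL ⟨F⟩, fun k hk hn => h1 k hk hn, h2⟩

theorem main {G : Type*} [Group G] [Finite G] [IsSimpleGroup G] (hG : ¬ IsMulCommutative G)
    (L : Subgroup G) (hL : Cfsg.IsStandardSubgroup L)
    {F : Type*} [Field F] [Fintype F] (hF : Fintype.card F = 4)
    (hLX : IsKleinFour ↥(Subgroup.center ↥L) ∧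
      Nonempty (↥L ⧸ Subgroup.center ↥L ≃* Matrix.ProjectiveSpecialLinearGroup (Fin 3) F))
    (hcrit : Crit G ∨ CritG G) (hS : StrongL5 G) : Cfsg.Spor.IsoHe G := by
  obtain ⟨hK, ⟨e⟩⟩ := hLX
  have hperf : commutator L = ⊤ := hL.1.1.commutator_eq_top
  obtain ⟨Fr⟩ := Exists.exists_frame L hperf hK hF e
  have H : Sit Fr := sit_of_fusion hG hL Fr hcrit
  exact Cfsg.Agent.StdHeld.Final.final H (Bridge.full H)
    (fun e h1 h2 h3 => Gamma.exists_conj_mem_T0 H h1 h2 h3) (SylB1.b1 H)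
    (fun t s h1 h2 h3 h4 h5 R h6 h7 h8 => Cfsg.Agent.StdHeld.BoundB2.bound H t s h1 h2 h3 h4 h5 R h6 h7 h8) hS

end Cfsg.Agent.StandardComponent.HeldType.Main
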