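import Cfsg.Agent.StandardComponent.HeldType.Basic

/-!
The fusion theorem, restated (the proof is in `HeldType/Basic.lean`).
-/

set_option autoImplicit false

namespace Cfsg.Agent.StandardComponent.HeldType.NoFusion

open Cfsg.Agent.Lib.FieldFour Cfsg.Agent.StandardComponent.HeldType.Frame
  Cfsg.Agent.StandardComponent.HeldType.Basic

universe u

variable {G : Type u} [Group G] {L : Subgroup G}

/-- **Fusion theorem.**  `L` a standard subgroup of the simple group `G`, with a frame `F`. Then every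
`2`-element of `C(L)` lies in `Z L = F.V`, and there is an element normalising `F.T0` which interchanges
`F.V = {d 0 s}` and `F.U = {d c 0}`. -/
theorem fusion [Finite G] [IsSimpleGroup G] (hG : ¬ IsMulCommutative G)
    (hL : Cfsg.IsStandardSubgroup L) (F : Frm L) (hcrit : Crit G ∨ CritG G) :
    (∀ k, (∀ l ∈ L, k * l = l * k) → (∃ n, k ^ (2 ^ n) = 1) → k ∈ F.V) ∧
      ∃ g, (∀ x, x ∈ F.T0 ↔ g * x * g⁻¹ ∈ F.T0) ∧ (∀ s, ∃ c, g * F.d 0 s * g⁻¹ = F.d c 0) ∧
        (∀ c, ∃ s, g * F.d c 0 * g⁻¹ = F.d 0 s) :=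
  Basic.fusion hG hL F hcrit

end Cfsg.Agent.StandardComponent.HeldType.NoFusion
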