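import Cfsg.Agent.StandardComponent.HeldType.SixLines

/-!
Elements of `N(T0)` acting exactly in a standard way; the elements normalising the six lines of `E1` act on `E1` by
scalars; the frame of the conjugate of `L` with centre `U`.
-/

set_option autoImplicit false

namespace Cfsg.Agent.StandardComponent.HeldType.Sigma

open Cfsg.Agent.Lib.FieldFour Cfsg.Agent.StandardComponent.HeldType.Frame
  Cfsg.Agent.StandardComponent.HeldType.Act Cfsg.Agent.StandardComponent.HeldType.ActType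
  Cfsg.Agent.StandardComponent.HeldType.Basic Cfsg.Agent.StandardComponent.HeldType.Ctx
  Cfsg.Agent.StandardComponent.HeldType.SixLines

variable {G : Type*} [Group G] {L L' : Subgroup G} {F : Frm L}

/-! ### Normalising conditions -/

theorem cj_eq_of_le {g : G} {A B : Subgroup G} (h : cj g A ≤ B) (hc : Nat.card A = Nat.card B)
    (h0 : Nat.card B ≠ 0) : cj g A = B := by
  have hfin : Finite B := Nat.finite_of_card_ne_zero h0
  exact Subgroup.eq_of_le_of_card_ge h (by rw [card_cj, hc])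

theorem cj_le {g : G} {A B : Subgroup G} (h : ∀ x ∈ A, g * x * g⁻¹ ∈ B) : cj g A ≤ B := by
  intro x hx
  have h1 := h _ (mem_cj'.1 hx)
  have : g * (g⁻¹ * x * g) * g⁻¹ = x := by group
  rwa [this] at h1

theorem nrm_of_cj_V (H : Sit F) {g : G} (h : cj g F.V = F.V) : Nrm L g := by
  have h1 : g * F.d 0 1 * g⁻¹ ∈ F.V := (cj_eq_iff.1 h _).1 ⟨1, rfl⟩
  refine H.te.key (F.d 0 1) g (F.cen_comm 1) ?_ (F.d_mul_self _ _) ?_
  · intro h2
    rw [← F.d_zero] at h2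
    exact absurd (d_inj F h2).2 (by decide)
  · intro l hl
    exact F.V_comm h1 hl

theorem cj_V_of_nrm {g : G} (h : Nrm L g) : cj g F.V = F.V := by
  rw [V_eq_Z]
  apply le_antisymm
  · exact cj_le fun x hx => Z_conj_nrm h hx
  · intro x hx
    rw [mem_cj']
    have h1 := Z_conj_nrm h.inv hx
    rwa [inv_inv] at h1

theorem NT_of_le {g : G} (h : ∀ t ∈ F.T0, g * t * g⁻¹ ∈ F.T0) : NT F g := by
  rw [NT_iff_cj]
  exact cj_eq_of_le (cj_le h) rfl (by rw [T0.card_T0]; decide)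

theorem nt_of_fix (H : Sit F) {g : G} (hV : cj g F.V = F.V) (hU : cj g F.U = F.U) : NT F g := by
  have hn := nrm_of_cj_V H hV
  apply NT_of_le
  intro t ht
  apply mem_T0_of_comm_U F ((hn t).1 (T0.T0_le F ht))
  intro u hu
  rw [← hU, mem_cj'] at hu
  have h1 := T0_comm_U F ht hu
  calc g * t * g⁻¹ * u = g * (t * (g⁻¹ * u * g)) * g⁻¹ := by group
    _ = _ := by rw [h1]; group

theorem NE_of_E1 {g : G} (hT : NT F g) (h1 : cj g F.E1 = F.E1) : NE F g := by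
  rcases E_cases F hT with h | h
  · exact h
  · exfalso
    apply E1_ne_E2 F
    rw [← h1]
    exact cj_eq_iff.2 h.1

theorem NE_iff {g : G} : NE F g ↔ cj g F.E1 = F.E1 ∧ cj g F.E2 = F.E2 := by
  unfold NE
  rw [cj_eq_iff, cj_eq_iff]

theorem cj_h (F : Frm L) : cj F.h F.E1 = F.E1 ∧ cj F.h F.E2 = F.E2 ∧ NT F F.h := by
  refine ⟨?_, ?_, ?_⟩
  · refine cj_eq_of_le (cj_le ?_) rfl (by rw [T0.card_E1]; decide)
    rintro _ ⟨a, c, s, rfl⟩
    rw [F.h_t, mul_zero]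
    exact ⟨_, _, _, rfl⟩
  · refine cj_eq_of_le (cj_le ?_) rfl (by rw [T0.card_E2]; decide)
    rintro _ ⟨a, c, s, rfl⟩
    rw [F.h_t, mul_zero]
    exact ⟨_, _, _, rfl⟩
  · apply NT_of_le
    rintro _ ⟨a, b, c, s, rfl⟩
    rw [F.h_t]
    exact ⟨_, _, _, _, rfl⟩

/-! ### Types -/

theorem actsS_unique {g : G} {e e' e1 e1' : Bool} {l m l1 m1 : F4} (h : ActsS F g e e' l m)
    (h1 : ActsS F g e1 e1' l1 m1) (hl : l ≠ 0) (hm : m ≠ 0) :
    e = e1 ∧ e' = e1' ∧ l = l1 ∧ m = m1 := by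
  have h2 : ∀ a, sm e l a = sm e1 l1 a := by
    intro a
    obtain ⟨c, s, h3⟩ := h.1 a
    obtain ⟨c', s', h4⟩ := h1.1 a
    rw [h3, F.yd_eq_t, F.yd_eq_t] at h4
    exact (F.t_inj h4).2.1
  have h3 : ∀ a, sm e' m a = sm e1' m1 a := by
    intro a
    obtain ⟨c, s, h3⟩ := h.2 a
    obtain ⟨c', s', h4⟩ := h1.2 a
    rw [h3, F.xd_eq_t, F.xd_eq_t] at h4
    exact (F.t_inj h4).1
  obtain ⟨r1, r2⟩ := sm_inj _ _ _ _ hl h2
  obtain ⟨r3, r4⟩ := sm_inj _ _ _ _ hm h3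
  exact ⟨r1, r3, r2, r4⟩

/-- elements of opposite parity and the conjugate of `h` -/
theorem exists_wv (H : Sit F) : ∃ c, NT F c ∧
    (Acts F c false false F4.w F4.v ∨ Acts F c false false F4.v F4.w) := by
  obtain ⟨g, hg, hV, -⟩ := H.swp
  obtain ⟨hh1, hh2, hhT⟩ := cj_h F
  obtain ⟨c, hc⟩ : ∃ c, c = g * F.h * g⁻¹ := ⟨_, rfl⟩
  have hcT : NT F c := by rw [hc]; exact (hg.mul hhT).mul hg.inv
  have hcE : cj c F.E1 = F.E1 ∧ cj c F.E2 = F.E2 := by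
    rw [hc, cj_mul, cj_mul, cj_mul, cj_mul]
    rcases E_cases F hg with ⟨h1, h2⟩ | ⟨h1, h2⟩
    · have h3 := cj_inv_eq (cj_eq_iff.2 h1)
      have h4 := cj_inv_eq (cj_eq_iff.2 h2)
      rw [h3, h4, hh1, hh2, cj_eq_iff.2 h1, cj_eq_iff.2 h2]
      exact ⟨rfl, rfl⟩
    · have h3 := cj_inv_eq (cj_eq_iff.2 h1)
      have h4 := cj_inv_eq (cj_eq_iff.2 h2)
      rw [h3, h4, hh1, hh2, cj_eq_iff.2 h1, cj_eq_iff.2 h2]
      exact ⟨rfl, rfl⟩
  obtain ⟨e1, e1', l1, m1, hl1, hm1, hA⟩ := exists_acts F hcT (cj_eq_iff.1 hcE.1) (cj_eq_iff.1 hcE.2)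
  refine ⟨c, hcT, ?_⟩
  have hcg : c * g = g * F.h := by rw [hc]; group
  obtain ⟨c0, hc0⟩ := hV 1
  rcases act_cases F hg with ⟨e, e', l, m, hl, hm, h⟩ | ⟨e, e', l, m, hl, hm, h⟩
  · have h1 := acts_mul F hA h
    have h2 := acts_mul F h (acts_h F)
    rw [hcg] at h1
    obtain ⟨r1, r2, r3, r4⟩ := acts_unique F h1 h2 (sm_ne_zero _ _ _ hl1 hl)
      (sm_ne_zero _ _ _ hm1 hm)
    rw [act_d F h] at hc0
    have h5 := (d_inj F hc0).2
    have key : ∀ (e e' : Bool) (l m : F4), l ≠ 0 → m ≠ 0 → (dact e e' l m 0 1).2 = 0 →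
      e' = !e := by decide
    have hee := key e e' l m hl hm h5
    subst hee
    clear h h1 h2 hc0 h5 key hcg
    have key : ∀ (e e1 e1' : Bool) (l m l1 m1 : F4), l ≠ 0 → m ≠ 0 → (e1 ^^ e) = (e ^^ false) →
        (e1' ^^ !e) = (!e ^^ false) → sm e1 l1 l = sm e l F4.w → sm e1' m1 m = sm (!e) m F4.w →
        e1 = false ∧ e1' = false ∧ ((l1 = F4.w ∧ m1 = F4.v) ∨ (l1 = F4.v ∧ m1 = F4.w)) := by
      decide +kernel
    obtain ⟨rfl, rfl, ⟨rfl, rfl⟩ | ⟨rfl, rfl⟩⟩ := key e e1 e1' l m l1 m1 hl hm r1 r2 r3 r4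
    · exact Or.inl hA
    · exact Or.inr hA
  · have h1 := acts_mulS F hA h
    have h2 := actsS_mul F h (acts_h F)
    rw [hcg] at h1
    obtain ⟨r1, r2, r3, r4⟩ := actsS_unique h1 h2 (sm_ne_zero _ _ _ hm1 hl)
      (sm_ne_zero _ _ _ hl1 hm)
    rw [actS_d F h] at hc0
    have h5 := (d_inj F hc0).2
    have key : ∀ (e e' : Bool) (l m : F4), l ≠ 0 → m ≠ 0 → (dactS e e' l m 0 1).2 = 0 →
      e' = !e := by decide
    have hee := key e e' l m hl hm h5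
    subst hee
    clear h h1 h2 hc0 h5 key hcg
    have key : ∀ (e e1 e1' : Bool) (l m l1 m1 : F4), l ≠ 0 → m ≠ 0 → (e1' ^^ e) = (e ^^ false) →
        (e1 ^^ !e) = (!e ^^ false) → sm e1' m1 l = sm e l F4.w → sm e1 l1 m = sm (!e) m F4.w →
        e1 = false ∧ e1' = false ∧ ((l1 = F4.w ∧ m1 = F4.v) ∨ (l1 = F4.v ∧ m1 = F4.w)) := by
      decide +kernel
    obtain ⟨rfl, rfl, ⟨rfl, rfl⟩ | ⟨rfl, rfl⟩⟩ := key e e1 e1' l m l1 m1 hl hm r1 r2 r3 r4
    · exact Or.inl hA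
    · exact Or.inr hA

/-- there is an element of type `(w, 1)` -/
theorem exists_w1 (H : Sit F) : ∃ c, NT F c ∧ Acts F c false false F4.w 1 := by
  obtain ⟨c, hc, h | h⟩ := exists_wv H
  · have h1 := acts_mul F h (acts_h F)
    have h2 := acts_mul F h1 h1
    exact ⟨_, ((hc.mul (cj_h F).2.2).mul (hc.mul (cj_h F).2.2)), h2⟩
  · have h1 := acts_mul F (acts_mul F h (acts_h F)) (acts_h F)
    exact ⟨_, ((hc.mul (cj_h F).2.2).mul (cj_h F).2.2), h1⟩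

/-- exact representatives for the types preserving `V` -/
theorem exact_of_acts (H : Sit F) {g : G} {e : Bool} {l m : F4} (hl : l ≠ 0) (hm : m ≠ 0)
    (hg : NT F g) (hA : Acts F g e e l m) :
    ∃ k, NT F k ∧ Nrm L k ∧ (∀ a, k * F.x a * k⁻¹ = F.x (sm e l a)) ∧
      (∀ b, k * F.y b * k⁻¹ = F.y (sm e m b)) ∧ Acts F k e e l m ∧ ∃ t ∈ F.T0, g = t * k := by
  have hn : Nrm L g := by
    refine H.te.key (F.d 0 1) g (F.cen_comm 1) ?_ (F.d_mul_self _ _) ?_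
    · intro h2
      rw [← F.d_zero] at h2
      exact absurd (d_inj F h2).2 (by decide)
    · rw [act_d F hA]
      have key : ∀ (e : Bool) (l m : F4), (dact e e l m 0 1).1 = 0 := by decide
      rw [key]
      exact F.cen_comm _
  obtain ⟨k, e1, l1, m1, ⟨a, b, c, s, hk⟩, hl1, hm1, -, h1⟩ := F.outN g hn (fun a b c s => by
    exact (hg _).1 ⟨a, b, c, s, rfl⟩)
  have hk' : g = F.t a b c s * k := hk
  have hkg : k = (F.t a b c s)⁻¹ * g := by rw [hk']; group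
  have htT : F.t a b c s ∈ F.T0 := ⟨a, b, c, s, rfl⟩
  have hkT : NT F k := by rw [hkg]; exact (NT.of_mem htT).inv.mul hg
  have hkL : Nrm L k := by
    rw [hkg]; exact (Nrm.of_mem (T0.T0_le F htT)).inv.mul hn
  have hkA : Acts F k e e l m := by
    have h2 := acts_mul F (acts_T0 F (F.T0.inv_mem htT)) hA
    rw [← hkg, sm_false_one, sm_false_one, Bool.false_xor] at h2
    exact h2
  rcases h1 with ⟨h2, h3⟩ | ⟨h2, h3⟩
  · have h4 : Acts F k e1 e1 l1 m1 :=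
      ⟨fun a => ⟨0, 0, by rw [h2, F.d_zero, mul_one]⟩,
        fun a => ⟨0, 0, by rw [h3, F.d_zero, mul_one]⟩⟩
    obtain ⟨rfl, -, rfl, rfl⟩ := acts_unique F h4 hkA hl1 hm1
    exact ⟨k, hkT, hkL, h2, h3, hkA, _, htT, hk'⟩
  · exfalso
    obtain ⟨c1, s1, h4⟩ := hkA.1 1
    rw [h2, F.xd_eq_t, F.y_eq_t] at h4
    have h5 := (F.t_inj h4).1
    have key : ∀ (e : Bool) (l : F4), l ≠ 0 → (0 : F4) ≠ sm e l 1 := by decide
    exact key _ _ hl h5

/-! ### Scalars -/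

/-- `g` acts on `E1` as the scalar `r` -/
def Scal (F : Frm L) (g : G) (r : F4) : Prop :=
  ∀ a c s, g * F.t a 0 c s * g⁻¹ = F.t (r * a) 0 (r * c) (r * s)

theorem Scal.mul {g g' : G} {r r' : F4} (h : Scal F g r) (h' : Scal F g' r') :
    Scal F (g * g') (r * r') := by
  intro a c s
  have : g * g' * F.t a 0 c s * (g * g')⁻¹ = g * (g' * F.t a 0 c s * g'⁻¹) * g⁻¹ := by group
  rw [this, h', h]
  congr 1 <;> ring

theorem Scal.inv {g : G} {r : F4} (hr : r ≠ 0) (h : Scal F g r) : Scal F g⁻¹ r⁻¹ := by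
  intro a c s
  have h1 := h (r⁻¹ * a) (r⁻¹ * c) (r⁻¹ * s)
  rw [mul_inv_cancel_left₀ hr, mul_inv_cancel_left₀ hr, mul_inv_cancel_left₀ hr] at h1
  rw [← h1]; group

theorem Scal.unique {g : G} {r r' : F4} (h : Scal F g r) (h' : Scal F g r') : r = r' := by
  have h1 := h 1 0 0
  rw [h' 1 0 0] at h1
  have h2 := (F.t_inj h1).1
  rw [mul_one, mul_one] at h2
  exact h2.symm

theorem Scal.cj_eq {g : G} {r : F4} (hr : r ≠ 0) (h : Scal F g r) {A : Subgroup G}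
    (hA : A ≤ F.E1) (hs : ∀ r a c s, F.t a 0 c s ∈ A → F.t (r * a) 0 (r * c) (r * s) ∈ A) :
    cj g A = A := by
  have key : ∀ g : G, ∀ r : F4, Scal F g r → ∀ x ∈ A, g * x * g⁻¹ ∈ A := by
    intro g r h x hx
    obtain ⟨a, c, s, rfl⟩ := hA hx
    rw [h]
    exact hs r a c s hx
  rw [cj_eq_iff]
  intro x
  refine ⟨key g r h x, fun h1 => ?_⟩
  have h2 := key g⁻¹ r⁻¹ (h.inv hr) _ h1
  have : g⁻¹ * (g * x * g⁻¹) * g⁻¹⁻¹ = x := by group
  rwa [this] at h2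

theorem Scal.cj_E1 {g : G} {r : F4} (hr : r ≠ 0) (h : Scal F g r) : cj g F.E1 = F.E1 :=
  h.cj_eq hr le_rfl fun _ _ _ _ _ => ⟨_, _, _, rfl⟩

theorem Scal.cj_V {g : G} {r : F4} (hr : r ≠ 0) (h : Scal F g r) : cj g F.V = F.V := by
  refine h.cj_eq hr V_le_E1 ?_
  rintro r a c s ⟨s', h1⟩
  rw [F.d_eq_t] at h1
  obtain ⟨rfl, -, rfl, rfl⟩ := F.t_inj h1
  exact ⟨r * s, by rw [mul_zero, F.d_eq_t]⟩

theorem Scal.cj_U {g : G} {r : F4} (hr : r ≠ 0) (h : Scal F g r) : cj g F.U = F.U := by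
  refine h.cj_eq hr U_le_E1 ?_
  rintro r a c s ⟨s', h1⟩
  rw [F.d_eq_t] at h1
  obtain ⟨rfl, -, rfl, rfl⟩ := F.t_inj h1
  exact ⟨r * c, by rw [mul_zero, F.d_eq_t]⟩

theorem Scal.cj_LA {g : G} {r : F4} (hr : r ≠ 0) (h : Scal F g r) (b : F4) :
    cj g (LA F b) = LA F b := by
  refine h.cj_eq hr (LA_le b) ?_
  rintro r a c s ⟨a', h1⟩
  obtain ⟨rfl, -, rfl, rfl⟩ := F.t_inj h1
  exact ⟨r * a, by congr 1 <;> ring⟩

/-- the scalar `w` -/
theorem exists_sigma (H : Sit F) : ∃ k, NT F k ∧ Nrm L k ∧ Scal F k F4.w ∧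
    Acts F k false false F4.w 1 := by
  obtain ⟨g, hg, hA⟩ := exists_w1 H
  obtain ⟨k, h1, h2, h3, h4, h5, -⟩ := exact_of_acts H (by decide) one_ne_zero hg hA
  refine ⟨k, h1, h2, fun a c s => ?_, h5⟩
  rw [F.conj_t, h3, h4, act_d F h5, Frm.t_def]
  have e1 : sm false F4.w a = F4.w * a := rfl
  have e2 : sm false 1 0 = (0 : F4) := by decide
  rw [e1, e2]
  simp [dact]

/-- An element normalising `E1` and all six lines acts on `E1` as a scalar. -/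
theorem scalar_of_lines (H : Sit F) {g : G} (h1 : cj g F.E1 = F.E1) (hV : cj g F.V = F.V)
    (hU : cj g F.U = F.U) (hA : ∀ b, cj g (LA F b) = LA F b) : ∃ r, r ≠ 0 ∧ Scal F g r := by
  have hT := nt_of_fix H hV hU
  have hE := NE_of_E1 hT h1
  obtain ⟨e, e', l, m, hl, hm, hAc⟩ := exists_acts F hT hE.1 hE.2
  have hb : ∀ b, sm e' m b = b := by
    intro b
    obtain ⟨c, s, h2⟩ := hAc.2 b
    have h3 : cj (F.y b) (LA F 0) = LA F b := by rw [cj_y_LA, add_zero]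
    have h4 : cj g (LA F b) = LA F (sm e' m b) := by
      have h5 : g * F.y b = (g * F.y b * g⁻¹) * g := by group
      rw [← h3, ← cj_mul, h5, cj_mul, hA 0, h2, F.yd_eq_t, cj_t_LA, add_zero]
    rw [hA] at h4
    exact (LA_inj h4).symm
  have key : ∀ (e : Bool) (m : F4), (∀ b, sm e m b = b) → e = false ∧ m = 1 := by decide
  obtain ⟨rfl, rfl⟩ := key e' m hb
  have he : e = false := by
    have h2 : g * F.d 0 1 * g⁻¹ ∈ F.V := (cj_eq_iff.1 hV _).1 ⟨1, rfl⟩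
    rw [act_d F hAc] at h2
    obtain ⟨s, h3⟩ := h2
    have h4 := (d_inj F h3).1
    have key2 : ∀ (e : Bool) (l : F4), l ≠ 0 → (dact e false l 1 0 1).1 = 0 → e = false := by
      decide
    exact key2 e l hl h4
  subst he
  -- the scalar element
  obtain ⟨σ, hσT, -, hσ, hσA⟩ := exists_sigma H
  have hτ : ∃ τ, NT F τ ∧ Scal F τ l ∧ Acts F τ false false l 1 := by
    have h3 : l = 1 ∨ l = F4.w ∨ l = F4.v := by
      clear hAc hb key; revert l; decide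
    rcases h3 with rfl | rfl | rfl
    · exact ⟨1, NT.one, fun a c s => by simp, acts_one F⟩
    · exact ⟨σ, hσT, hσ, hσA⟩
    · exact ⟨σ * σ, hσT.mul hσT, hσ.mul hσ, acts_mul F hσA hσA⟩
  obtain ⟨τ, hτT, hτ, hτA⟩ := hτ
  -- `ρ = g τ⁻¹` acts trivially
  have hρ : Acts F (g * τ⁻¹) false false 1 1 := by
    have hT1 : NT F (g * τ⁻¹) := hT.mul hτT.inv
    have hτE : NE F τ := NE_of_E1 hτT (hτ.cj_E1 hl)
    have hE1 : NE F (g * τ⁻¹) := by
      rw [NE_iff] at hE hτE ⊢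
      rw [cj_mul, cj_mul, cj_inv_eq hτE.1, cj_inv_eq hτE.2, hE.1, hE.2]
      exact ⟨rfl, rfl⟩
    obtain ⟨e2, e2', l2, m2, hl2, hm2, h2⟩ := exists_acts F hT1 hE1.1 hE1.2
    have h3 := acts_mul F h2 hτA
    rw [inv_mul_cancel_right] at h3
    obtain ⟨r1, r2, r3, r4⟩ := acts_unique F h3 hAc (sm_ne_zero _ _ _ hl2 hl)
      (sm_ne_zero _ _ _ hm2 one_ne_zero)
    have key3 : ∀ (e2 e2' : Bool) (l l2 m2 : F4), l ≠ 0 → (e2 ^^ false) = false →
        (e2' ^^ false) = false → sm e2 l2 l = l → sm e2' m2 1 = 1 →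
        e2 = false ∧ e2' = false ∧ l2 = 1 ∧ m2 = 1 := by decide +kernel
    obtain ⟨rfl, rfl, rfl, rfl⟩ := key3 e2 e2' l l2 m2 hl r1 r2 r3 r4
    exact h2
  obtain ⟨t, ht, k, hk, htk⟩ := H.kernel hρ
  obtain ⟨a0, b0, c0, s0, rfl⟩ := ht
  have hb0 : b0 = 0 := by
    have h3 : cj (g * τ⁻¹) (LA F 0) = LA F 0 := by
      rw [cj_mul, cj_inv_eq (hτ.cj_LA hl 0), hA]
    have h4 : cj k (LA F 0) = LA F 0 := by
      apply cj_of_comm
      intro x hx
      exact hk x (((LA_le 0).trans ((T0.E1_le F).trans (T0.T0_le F))) hx)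
    rw [htk, cj_mul, h4, cj_t_LA, add_zero] at h3
    exact LA_inj h3
  subst hb0
  refine ⟨l, hl, fun a c s => ?_⟩
  have h3 : g = F.t a0 0 c0 s0 * k * τ := by rw [← htk]; group
  have h4 := hk _ (F.t_mem (l * a) 0 (l * c) (l * s))
  calc g * F.t a 0 c s * g⁻¹ = F.t a0 0 c0 s0 * (k * (τ * F.t a 0 c s * τ⁻¹)) * k⁻¹ *
        (F.t a0 0 c0 s0)⁻¹ := by rw [h3]; group
    _ = F.t a0 0 c0 s0 * F.t (l * a) 0 (l * c) (l * s) * (F.t a0 0 c0 s0)⁻¹ := by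
      rw [hτ, h4]; group
    _ = _ := by
      rw [F.t_conj]
      congr 1
      · ring
      · ring

/-! ### The conjugate of `L` with centre `U` -/

theorem cj_V_eq_U {g : G} (h : ∀ s, ∃ c, g * F.d 0 s * g⁻¹ = F.d c 0) : cj g F.V = F.U := by
  refine cj_eq_of_le (cj_le ?_) (by rw [T0.card_V, T0.card_U]) (by rw [T0.card_U]; decide)
  rintro _ ⟨s, rfl⟩
  exact h s

theorem cj_U_eq_V {g : G} (h : ∀ c, ∃ s, g * F.d c 0 * g⁻¹ = F.d 0 s) : cj g F.U = F.V := by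
  refine cj_eq_of_le (cj_le ?_) (by rw [T0.card_V, T0.card_U]) (by rw [T0.card_V]; decide)
  rintro _ ⟨s, rfl⟩
  exact h s

/-- The frame of a conjugate of `L` with centre `U`. -/
theorem exists_frame' (H : Sit F) : ∃ (L' : Subgroup G) (F' : Frm L'), Cj L L' ∧ Sit F' ∧
    F'.T0 = F.T0 ∧ F'.E1 = F.E1 ∧ F'.E2 = F.E2 ∧ F'.V = F.U ∧ F'.U = F.V ∧
      ∃ g, cj g F.V = F'.V := by
  obtain ⟨g, hg, hV, hU⟩ := H.swp
  have hV' := cj_V_eq_U hV
  have hU' := cj_U_eq_V hU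
  rcases E_cases F hg with ⟨h1, h2⟩ | ⟨h1, h2⟩
  · refine ⟨L.map (MulAut.conj g).toMonoidHom, F.conj g _ (mem_map_conj L g), Cj.conj L g,
      sit_conj H g _ _, ?_, ?_, ?_, ?_, ?_, g, ?_⟩
    · rw [conj_T0, (NT_iff_cj F).1 hg]
    · rw [conj_E1, cj_eq_iff.2 h1]
    · rw [conj_E2, cj_eq_iff.2 h2]
    · rw [conj_V, hV']
    · rw [conj_U, hU']
    · rw [conj_V]
  · refine ⟨L.map (MulAut.conj g).toMonoidHom, (F.conj g _ (mem_map_conj L g)).swap, Cj.conj L g,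
      sit_swap (sit_conj H g _ _), ?_, ?_, ?_, ?_, ?_, g, ?_⟩
    · rw [swap_T0, conj_T0, (NT_iff_cj F).1 hg]
    · rw [swap_E1, conj_E2, cj_eq_iff.2 h2]
    · rw [swap_E2, conj_E1, cj_eq_iff.2 h1]
    · rw [swap_V, conj_V, hV']
    · rw [swap_U, conj_U, hU']
    · rw [swap_V, conj_V]

theorem nt_of_swap (H : Sit F) {g : G} (hV : cj g F.V = F.U) (hU : cj g F.U = F.V) :
    NT F g := by
  obtain ⟨L', F', hcj, H', hT, -, -, hV', hU', -⟩ := exists_frame' H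
  have hcj1 : Cj L (L.map (MulAut.conj g).toMonoidHom) := Cj.conj L g
  obtain ⟨L1, hL1⟩ : ∃ L1, L1 = L.map (MulAut.conj g).toMonoidHom := ⟨_, rfl⟩
  rw [← hL1] at hcj1
  have hu : F.d 1 0 ∈ F.U := ⟨1, rfl⟩
  have hu1 : F.d 1 0 ≠ 1 := by
    intro h
    rw [← F.d_zero] at h
    exact absurd (d_inj F h).1 (by decide)
  have hc1 : Cen L1 (F.d 1 0) := by
    have h1 := hu
    rw [← hV, mem_cj'] at h1
    have h2 : Cen L (g⁻¹ * F.d 1 0 * g) := fun l hl => F.V_comm h1 hl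
    have h3 := h2.conj (L' := L1) (g := g) (by rw [hL1]; exact mem_map_conj L g)
    have : g * (g⁻¹ * F.d 1 0 * g) * g⁻¹ = F.d 1 0 := by group
    rwa [this] at h3
  have hc2 : Cen L' (F.d 1 0) := by
    rw [← hV'] at hu
    exact fun l hl => F'.V_comm hu hl
  have hLL : L' = L1 := H'.te.eq_of_cen (hcj.symm.trans hcj1) hu1 (F.d_mul_self _ _) hc2 hc1
  apply NT_of_le
  intro t ht
  rw [← hT]
  apply mem_T0_of_comm_U F'
  · rw [hLL, hL1]
    exact (mem_map_conj L g t).1 (T0.T0_le F ht)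
  · intro x hx
    rw [hU', ← hU, mem_cj'] at hx
    have h1 := T0_comm_U F ht hx
    calc g * t * g⁻¹ * x = g * (t * (g⁻¹ * x * g)) * g⁻¹ := by group
      _ = _ := by rw [h1]; group

end Cfsg.Agent.StandardComponent.HeldType.Sigma
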