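import Cfsg.Agent.StandardComponent.HeldType.Ctx

/-!
The conjugates of `V = Z(L)` contained in `E1`: there are exactly six of them.
-/

set_option autoImplicit false

namespace Cfsg.Agent.StandardComponent.HeldType.SixLines

open Cfsg.Agent.Lib.FieldFour Cfsg.Agent.StandardComponent.HeldType.Frame
  Cfsg.Agent.StandardComponent.HeldType.Act Cfsg.Agent.StandardComponent.HeldType.ActType
  Cfsg.Agent.StandardComponent.HeldType.Basic Cfsg.Agent.StandardComponent.HeldType.Ctx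

variable {G : Type*} [Group G] {L L' : Subgroup G}

/-! ### Conjugate subgroups -/

/-- the conjugate `g A g⁻¹` -/
def cj (g : G) (A : Subgroup G) : Subgroup G := A.map (MulAut.conj g).toMonoidHom

theorem mem_cj {g x : G} {A : Subgroup G} : g * x * g⁻¹ ∈ cj g A ↔ x ∈ A := by
  unfold cj
  simp only [Subgroup.mem_map, MulEquiv.coe_toMonoidHom, MulAut.conj_apply]
  constructor
  · rintro ⟨y, hy, h⟩
    rwa [← mul_left_cancel (mul_right_cancel h)]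
  · intro h
    exact ⟨x, h, rfl⟩

theorem mem_cj' {g x : G} {A : Subgroup G} : x ∈ cj g A ↔ g⁻¹ * x * g ∈ A := by
  have h := mem_cj (g := g) (x := g⁻¹ * x * g) (A := A)
  have e : g * (g⁻¹ * x * g) * g⁻¹ = x := by group
  rwa [e] at h

theorem cj_one (A : Subgroup G) : cj 1 A = A := by
  ext x
  rw [mem_cj']
  simp

theorem cj_mul (g h : G) (A : Subgroup G) : cj (g * h) A = cj g (cj h A) := by
  ext x
  rw [mem_cj', mem_cj', mem_cj']
  have : (g * h)⁻¹ * x * (g * h) = h⁻¹ * (g⁻¹ * x * g) * h := by group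
  rw [this]

theorem cj_inv_cj (g : G) (A : Subgroup G) : cj g⁻¹ (cj g A) = A := by
  rw [← cj_mul, inv_mul_cancel, cj_one]

theorem cj_cj_inv (g : G) (A : Subgroup G) : cj g (cj g⁻¹ A) = A := by
  rw [← cj_mul, mul_inv_cancel, cj_one]

theorem cj_inj {g : G} {A B : Subgroup G} (h : cj g A = cj g B) : A = B := by
  rw [← cj_inv_cj g A, h, cj_inv_cj]

theorem cj_eq_iff {g : G} {A B : Subgroup G} :
    cj g A = B ↔ ∀ x, x ∈ A ↔ g * x * g⁻¹ ∈ B := by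
  constructor
  · rintro rfl x
    exact mem_cj.symm
  · intro h
    ext x
    rw [mem_cj', h]
    have : g * (g⁻¹ * x * g) * g⁻¹ = x := by group
    rw [this]

theorem cj_inv_eq {g : G} {A B : Subgroup G} (h : cj g A = B) : cj g⁻¹ B = A := by
  rw [← h, cj_inv_cj]

theorem card_cj (g : G) (A : Subgroup G) : Nat.card (cj g A) = Nat.card A :=
  Subgroup.card_map_of_injective (MulAut.conj g).injective

theorem cj_mono (g : G) {A B : Subgroup G} (h : A ≤ B) : cj g A ≤ cj g B := Subgroup.map_mono h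

theorem cj_of_mem {g : G} {A : Subgroup G} (h : g ∈ A) : cj g A = A := by
  rw [cj_eq_iff]
  intro x
  exact ⟨fun hx => A.mul_mem (A.mul_mem h hx) (A.inv_mem h), fun hx => by
    have h1 := A.mul_mem (A.mul_mem (A.inv_mem h) hx) h
    have : g⁻¹ * (g * x * g⁻¹) * g = x := by group
    rwa [this] at h1⟩

theorem cj_of_comm {g : G} {A : Subgroup G} (h : ∀ x ∈ A, g * x = x * g) : cj g A = A := by
  rw [cj_eq_iff]
  intro x
  constructor
  · intro hx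
    rw [h x hx, mul_inv_cancel_right]
    exact hx
  · intro hx
    have h1 := h _ hx
    have h2 : g * x * g⁻¹ = x := by
      have h3 : g⁻¹ * (g * (g * x * g⁻¹)) * g = g⁻¹ * (g * x * g⁻¹ * g) * g := by rw [h1]
      have h4 : g * x = x * g := by
        calc g * x = g⁻¹ * (g * (g * x * g⁻¹)) * g := by group
          _ = g⁻¹ * (g * x * g⁻¹ * g) * g := by rw [h1]
          _ = x * g := by group
      rw [h4, mul_inv_cancel_right]
    rwa [h2] at hx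

/-! ### Frames and conjugation -/

section F
variable (F : Frm L)

theorem conj_T0 (g : G) (M : Subgroup G) (hM : ∀ l, l ∈ L ↔ g * l * g⁻¹ ∈ M) :
    (F.conj g M hM).T0 = cj g F.T0 := by
  symm
  rw [cj_eq_iff]
  intro x
  exact (mem_conj_T0 F g M hM x).symm

theorem conj_V (g : G) (M : Subgroup G) (hM : ∀ l, l ∈ L ↔ g * l * g⁻¹ ∈ M) :
    (F.conj g M hM).V = cj g F.V := by
  ext x
  rw [mem_cj']
  constructor
  · rintro ⟨s, rfl⟩
    refine ⟨s, ?_⟩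
    rw [conj_d']; group
  · rintro ⟨s, h⟩
    refine ⟨s, ?_⟩
    rw [conj_d', ← h]; group

theorem conj_U (g : G) (M : Subgroup G) (hM : ∀ l, l ∈ L ↔ g * l * g⁻¹ ∈ M) :
    (F.conj g M hM).U = cj g F.U := by
  ext x
  rw [mem_cj']
  constructor
  · rintro ⟨s, rfl⟩
    refine ⟨s, ?_⟩
    rw [conj_d']; group
  · rintro ⟨s, h⟩
    refine ⟨s, ?_⟩
    rw [conj_d', ← h]; group

theorem conj_D0 (g : G) (M : Subgroup G) (hM : ∀ l, l ∈ L ↔ g * l * g⁻¹ ∈ M) :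
    (F.conj g M hM).D0 = cj g F.D0 := by
  ext x
  rw [mem_cj']
  constructor
  · rintro ⟨c, s, rfl⟩
    refine ⟨c, s, ?_⟩
    rw [conj_d']; group
  · rintro ⟨c, s, h⟩
    refine ⟨c, s, ?_⟩
    rw [conj_d', ← h]; group

theorem conj_E1 (g : G) (M : Subgroup G) (hM : ∀ l, l ∈ L ↔ g * l * g⁻¹ ∈ M) :
    (F.conj g M hM).E1 = cj g F.E1 := by
  ext x
  rw [mem_cj']
  constructor
  · rintro ⟨a, c, s, rfl⟩
    refine ⟨a, c, s, ?_⟩
    rw [conj_t']; group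
  · rintro ⟨a, c, s, h⟩
    refine ⟨a, c, s, ?_⟩
    rw [conj_t', ← h]; group

theorem conj_E2 (g : G) (M : Subgroup G) (hM : ∀ l, l ∈ L ↔ g * l * g⁻¹ ∈ M) :
    (F.conj g M hM).E2 = cj g F.E2 := by
  ext x
  rw [mem_cj']
  constructor
  · rintro ⟨a, c, s, rfl⟩
    refine ⟨a, c, s, ?_⟩
    rw [conj_t']; group
  · rintro ⟨a, c, s, h⟩
    refine ⟨a, c, s, ?_⟩
    rw [conj_t', ← h]; group

theorem NT_iff_cj {g : G} : NT F g ↔ cj g F.T0 = F.T0 := cj_eq_iff.symm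

theorem V_eq_Z : F.V = Z L := by
  ext x
  rw [mem_Z_iff F]
  exact F.mem_V

theorem E1_ne_E2 : F.E1 ≠ F.E2 := by
  intro h
  have h1 : F.t 1 0 0 0 ∈ F.E2 := by rw [← h]; exact ⟨1, 0, 0, rfl⟩
  obtain ⟨b, c, s, h2⟩ := h1
  exact absurd (F.t_inj h2).1 (by decide)

theorem U_ne_V : F.U ≠ F.V := by
  intro h
  have h1 : F.d 1 0 ∈ F.V := by rw [← h]; exact ⟨1, rfl⟩
  obtain ⟨s, h2⟩ := h1
  exact absurd (d_inj F h2).1 (by decide)

/-- elements of `L` centralising `U` lie in `T0` -/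
theorem mem_T0_of_comm_U {g : G} (hg : g ∈ L) (h : ∀ x ∈ F.U, g * x = x * g) : g ∈ F.T0 :=
  mem_T0_of_comm F (c := 1) (s := 0) one_ne_zero hg (h _ ⟨1, rfl⟩)

theorem T0_comm_U {g x : G} (hg : g ∈ F.T0) (hx : x ∈ F.U) : g * x = x * g := by
  obtain ⟨c, rfl⟩ := hx
  exact T0_d_comm F hg _ _

end F

/-- `Sit` for a conjugate frame -/
theorem sit_conj {F : Frm L} (H : Sit F) (g : G) (M : Subgroup G)
    (hM : ∀ l, l ∈ L ↔ g * l * g⁻¹ ∈ M) : Sit (F.conj g M hM) := by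
  refine ⟨H.te.of_cj ⟨g, hM⟩, ?_, ?_⟩
  · rintro k hk ⟨n, hn⟩
    have h1 : g⁻¹ * k * g ∈ F.V := by
      refine H.cenK _ (Cen.conj' hM hk) ⟨n, ?_⟩
      have : (g⁻¹ * k * g) ^ 2 ^ n = g⁻¹ * k ^ 2 ^ n * g := by
        have := conj_pow (i := 2 ^ n) (a := g⁻¹) (b := k)
        rw [inv_inv] at this
        exact this
      rw [this, hn]; group
    rw [conj_V, mem_cj']
    exact h1
  · obtain ⟨g0, h1, h2, h3⟩ := H.swp
    refine ⟨g * g0 * g⁻¹, ?_, ?_, ?_⟩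
    · rw [NT_iff_cj, conj_T0, ← cj_mul, inv_mul_cancel_right, cj_mul, (NT_iff_cj F).1 h1]
    · intro s
      obtain ⟨c, hc⟩ := h2 s
      refine ⟨c, ?_⟩
      rw [conj_d', conj_d', ← hc]; group
    · intro s
      obtain ⟨c, hc⟩ := h3 s
      refine ⟨c, ?_⟩
      rw [conj_d', conj_d', ← hc]; group

/-- `Sit` for the frame with the two halves interchanged -/
theorem sit_swap {F : Frm L} (H : Sit F) : Sit F.swap := by
  have key : ∀ p : F4, (p ^ 2) ^ 2 = p := by decide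
  refine ⟨H.te, ?_, ?_⟩
  · intro k hk hn
    rw [swap_V]
    exact H.cenK k hk hn
  · obtain ⟨g0, h1, h2, h3⟩ := H.swp
    refine ⟨g0, ?_, ?_, ?_⟩
    · unfold NT
      rw [swap_T0]
      exact h1
    · intro s
      obtain ⟨c, hc⟩ := h2 (s ^ 2)
      refine ⟨c, ?_⟩
      change g0 * F.d 0 (s ^ 2) * g0⁻¹ = F.d c (0 ^ 2)
      rw [hc]; rfl
    · intro s
      obtain ⟨c, hc⟩ := h3 s
      refine ⟨c ^ 2, ?_⟩
      change g0 * F.d s (0 ^ 2) * g0⁻¹ = F.d 0 ((c ^ 2) ^ 2)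
      rw [key, ← hc]; rfl

/-! ### Elements of `D0` which are not conjugate into `V` -/

variable {F : Frm L}

/-- the conjugate of `L` by `g` -/
theorem mem_map_conj (L : Subgroup G) (g x : G) :
    x ∈ L ↔ g * x * g⁻¹ ∈ L.map (MulAut.conj g).toMonoidHom := mem_cj.symm

theorem not_conj_sq [Finite G] (H : Sit F) {g : G} {s' c s : F4} (hc : c ≠ 0) (hs : s ≠ 0) :
    g * F.d 0 s' * g⁻¹ ≠ F.d c s := by
  intro h
  have hcj : Cj L (L.map (MulAut.conj g).toMonoidHom) := Cj.conj L g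
  obtain ⟨L1, hL1⟩ : ∃ L1, L1 = L.map (MulAut.conj g).toMonoidHom := ⟨_, rfl⟩
  have hu : F.d c s ∈ Z L1 := by
    rw [← h, hL1]
    exact Z_conj (mem_map_conj L g) (d0_mem_Z F s')
  rw [← hL1] at hcj
  have hu1 : F.d c s ≠ 1 := by
    intro h1
    rw [← F.d_zero] at h1
    exact hc (d_inj F h1).1
  have hne : L ≠ L1 := by
    intro h1
    rw [← h1, d_mem_Z_iff] at hu
    exact hc hu
  have hte' := H.te.of_cj hcj
  have hpair : Pair L L1 := ⟨H.te, hte', hcj, hne,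
    comm_pair H.te hte' hcj hne hu hu1 (fun z hz => ((hz.2 _ (F.d_mem c s)).symm))⟩
  obtain ⟨F1, F2, hF1, hF2, hT, -, -⟩ := hpair.main
  have hle : F1.T0 ≤ F.T0 := by
    intro x hx
    have h1 := (hF1.mem_T0 hpair x).1 hx
    exact mem_T0_of_comm F hc h1.1 (h1.2 _ hu)
  have heq : F1.T0 = F.T0 := by
    have hfin : Finite F.T0 := Nat.finite_of_card_ne_zero (by rw [T0.card_T0]; decide)
    exact Subgroup.eq_of_le_of_card_ge hle (by rw [T0.card_T0, T0.card_T0])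
  obtain ⟨s2, h2⟩ := (mem_Z_iff F2).1 hu
  have key : ∀ c s : F4, c ≠ 0 → s ≠ 0 → ∃ a b : F4, a * b = c ∧ a * b ^ 2 = s := by decide
  obtain ⟨a, b, h3, h4⟩ := key c s hc hs
  have h5 : F.t a b 0 0 ∈ F2.T0 := by rw [← hT, heq]; exact t_mem_T0 F _ _ _ _
  refine nonsq_V F2 (s := s2) ?_ h5 ?_
  · rintro rfl
    rw [F2.d_zero] at h2
    exact hu1 h2
  · rw [t_sq, h3, h4, h2]

/-- elements of `E1` conjugate into `V` lie on the hyperoval -/
theorem hyper [Finite G] (H : Sit F) {g : G} {s' a c s : F4} (ha : a ≠ 0)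
    (h : g * F.d 0 s' * g⁻¹ = F.t a 0 c s) : a * s = c ^ 2 := by
  by_contra hne
  have h1 := F.t_conj 0 (a⁻¹ * c) 0 0 a 0 c s
  have e : c + (0 * 0 + a * (a⁻¹ * c)) = 0 := by
    clear h h1 hne; revert ha; revert a c; decide
  have e2 : s + (0 * 0 ^ 2 + a * (a⁻¹ * c) ^ 2) = s + a * (a⁻¹ * c) ^ 2 := by ring
  rw [e, e2] at h1
  refine not_conj_sq H (g := F.n1 * F.t 0 (a⁻¹ * c) 0 0 * g) (s' := s') (c := a)
    (s := s + a * (a⁻¹ * c) ^ 2) ha ?_ ?_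
  · clear h h1 e e2; revert ha hne; revert a c s; decide
  · calc F.n1 * F.t 0 (a⁻¹ * c) 0 0 * g * F.d 0 s' * (F.n1 * F.t 0 (a⁻¹ * c) 0 0 * g)⁻¹
        = F.n1 * (F.t 0 (a⁻¹ * c) 0 0 * (g * F.d 0 s' * g⁻¹) * (F.t 0 (a⁻¹ * c) 0 0)⁻¹) *
            F.n1⁻¹ := by group
      _ = _ := by rw [h, h1, F.n1_xd, F.d_eq_t]

/-! ### The lines -/

/-- the line `{x(a) d(ab, ab²)}` -/
def LA (F : Frm L) (b : F4) : Subgroup G where
  carrier := {g | ∃ a, g = F.t a 0 (a * b) (a * b ^ 2)}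
  one_mem' := ⟨0, by rw [zero_mul, zero_mul, F.t_zero]⟩
  mul_mem' := by
    rintro _ _ ⟨a, rfl⟩ ⟨a', rfl⟩
    refine ⟨a + a', ?_⟩
    rw [F.t_mul]
    congr 1 <;> ring
  inv_mem' := by
    rintro _ ⟨a, rfl⟩
    refine ⟨a, ?_⟩
    rw [F.t_inv]
    congr 1
    · ring
    · ring

theorem mem_LA {b : F4} {g : G} : g ∈ LA F b ↔ ∃ a, g = F.t a 0 (a * b) (a * b ^ 2) := Iff.rfl

theorem card_LA (b : F4) : Nat.card (LA F b) = 4 := by
  have e : F4 ≃ LA F b := Equiv.ofBijective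
    (fun a => ⟨F.t a 0 (a * b) (a * b ^ 2), ⟨_, rfl⟩⟩)
    ⟨fun a a' h => (F.t_inj (congrArg Subtype.val h)).1, by
      rintro ⟨_, a, rfl⟩
      exact ⟨a, rfl⟩⟩
  rw [← Nat.card_congr e, F4.natCard]

theorem LA_inj {b b' : F4} (h : LA F b = LA F b') : b = b' := by
  have h1 : F.t 1 0 (1 * b) (1 * b ^ 2) ∈ LA F b' := by rw [← h]; exact ⟨1, rfl⟩
  obtain ⟨a, h2⟩ := h1
  obtain ⟨h3, -, h4, -⟩ := F.t_inj h2
  rw [← h3, one_mul, one_mul] at h4
  exact h4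

theorem LA_ne_V (b : F4) : LA F b ≠ F.V := by
  intro h
  have h1 : F.t 1 0 (1 * b) (1 * b ^ 2) ∈ F.V := by rw [← h]; exact ⟨1, rfl⟩
  obtain ⟨s, h2⟩ := h1
  rw [F.d_eq_t] at h2
  exact absurd (F.t_inj h2).1 (by decide)

theorem LA_ne_U (b : F4) : LA F b ≠ F.U := by
  intro h
  have h1 : F.t 1 0 (1 * b) (1 * b ^ 2) ∈ F.U := by rw [← h]; exact ⟨1, rfl⟩
  obtain ⟨s, h2⟩ := h1
  rw [F.d_eq_t] at h2
  exact absurd (F.t_inj h2).1 (by decide)

theorem LA_le (b : F4) : LA F b ≤ F.E1 := by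
  rintro _ ⟨a, rfl⟩
  exact ⟨_, _, _, rfl⟩

theorem V_le_E1 : F.V ≤ F.E1 := (T0.V_le_D0 F).trans (T0.D0_le_E1 F)

theorem U_le_E1 : F.U ≤ F.E1 := (T0.U_le_D0 F).trans (T0.D0_le_E1 F)

theorem cj_n1_V : cj F.n1 F.V = F.V := by
  apply cj_of_comm
  rintro x ⟨s, rfl⟩
  exact ((F.cen_comm s) _ F.n1_mem).symm

theorem cj_n1_U : cj F.n1 F.U = LA F 0 := by
  rw [cj_eq_iff]
  intro x
  constructor
  · rintro ⟨c, rfl⟩
    refine ⟨c, ?_⟩
    rw [F.d_eq_t, F.n1_xd]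
    congr 1
    · ring
    · ring
  · rintro ⟨a, h⟩
    refine ⟨a, ?_⟩
    have h1 : x = F.n1⁻¹ * (F.n1 * x * F.n1⁻¹) * F.n1 := by group
    have h2 := F.n1_xd 0 a 0
    have e1 : a * 0 = 0 := mul_zero a
    have e2 : a * (0 : F4) ^ 2 = 0 := by ring
    rw [h1, h, e1, e2, ← h2, F.d_eq_t]
    group

theorem cj_n1_LA0 : cj F.n1 (LA F 0) = F.U := by
  rw [cj_eq_iff]
  intro x
  constructor
  · rintro ⟨a, rfl⟩
    refine ⟨a, ?_⟩
    have e1 : a * 0 = 0 := mul_zero a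
    have e2 : a * (0 : F4) ^ 2 = 0 := by ring
    rw [e1, e2, F.d_eq_t, F.n1_xd]
  · rintro ⟨c, h⟩
    refine ⟨c, ?_⟩
    have h1 : x = F.n1⁻¹ * (F.n1 * x * F.n1⁻¹) * F.n1 := by group
    have h2 := F.n1_xd c 0 0
    have e1 : c * 0 = 0 := mul_zero c
    have e2 : c * (0 : F4) ^ 2 = 0 := by ring
    rw [h1, h, e1, e2, F.d_eq_t, ← h2]
    group

theorem cj_t_LA (a0 b0 c0 s0 b : F4) : cj (F.t a0 b0 c0 s0) (LA F b) = LA F (b0 + b) := by
  have key : ∀ a0 b0 c0 s0 b : F4, ∀ x ∈ LA F b,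
      F.t a0 b0 c0 s0 * x * (F.t a0 b0 c0 s0)⁻¹ ∈ LA F (b0 + b) := by
    rintro a0 b0 c0 s0 b _ ⟨a, rfl⟩
    refine ⟨a, ?_⟩
    rw [F.t_conj]
    congr 1
    · ring
    · have key : ∀ a a0 b b0 : F4, a * b ^ 2 + (a0 * 0 ^ 2 + a * b0 ^ 2) = a * (b0 + b) ^ 2 := by
        decide
      exact key _ _ _ _
  rw [cj_eq_iff]
  intro x
  refine ⟨key _ _ _ _ _ x, fun h => ?_⟩
  have h1 := key a0 b0 (c0 + a0 * b0) (s0 + a0 * b0 ^ 2) _ _ h
  rw [← F.t_inv] at h1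
  have e1 : (F.t a0 b0 c0 s0)⁻¹ * (F.t a0 b0 c0 s0 * x * (F.t a0 b0 c0 s0)⁻¹) *
      ((F.t a0 b0 c0 s0)⁻¹)⁻¹ = x := by group
  rw [e1, ← add_assoc, Frm.f4_add_self, zero_add] at h1
  exact h1

theorem cj_y_LA (b0 b : F4) : cj (F.y b0) (LA F b) = LA F (b0 + b) := by
  rw [F.y_eq_t]; exact cj_t_LA _ _ _ _ _

theorem cj_T0_V {t : G} (ht : t ∈ F.T0) : cj t F.V = F.V := by
  apply cj_of_comm
  rintro x ⟨s, rfl⟩
  exact T0_d_comm F ht _ _

theorem cj_T0_U {t : G} (ht : t ∈ F.T0) : cj t F.U = F.U := by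
  apply cj_of_comm
  rintro x ⟨s, rfl⟩
  exact T0_d_comm F ht _ _

theorem cj_T0_E1 {t : G} (ht : t ∈ F.T0) : cj t F.E1 = F.E1 := by
  have key : ∀ t ∈ F.T0, ∀ x ∈ F.E1, t * x * t⁻¹ ∈ F.E1 := by
    rintro _ ⟨a0, b0, c0, s0, rfl⟩ _ ⟨a, c, s, rfl⟩
    rw [F.t_conj]
    exact ⟨_, _, _, rfl⟩
  rw [cj_eq_iff]
  intro x
  refine ⟨key t ht x, fun h => ?_⟩
  have h1 := key t⁻¹ (F.T0.inv_mem ht) _ h
  have : t⁻¹ * (t * x * t⁻¹) * t⁻¹⁻¹ = x := by group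
  rwa [this] at h1

theorem cj_n1_E1 : cj F.n1 F.E1 = F.E1 := by
  rw [cj_eq_iff]
  intro x
  constructor
  · rintro ⟨a, c, s, rfl⟩
    rw [F.n1_xd]
    exact ⟨_, _, _, rfl⟩
  · rintro ⟨a, c, s, h⟩
    refine ⟨c, a, s, ?_⟩
    have h1 : x = F.n1⁻¹ * (F.n1 * x * F.n1⁻¹) * F.n1 := by group
    rw [h1, h, ← F.n1_xd c a s]
    group

/-- a subgroup of order four is determined by two elements -/
theorem eq_of_two {A B : Subgroup G} {f : F4 → G} (hf : ∀ x, x ∈ A ↔ ∃ s, x = f s)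
    (h0 : f 0 = 1) (hadd : ∀ s s', f (s + s') = f s * f s') (hA : Nat.card A = 4)
    (hB : Nat.card B = 4) (h1 : f 1 ∈ B) (h2 : f F4.w ∈ B) : A = B := by
  have hfin : Finite B := Nat.finite_of_card_ne_zero (by rw [hB]; decide)
  have hle : A ≤ B := by
    intro x hx
    obtain ⟨s, rfl⟩ := (hf x).1 hx
    cases s
    · exact (show f 0 = 1 from h0) ▸ B.one_mem
    · exact h1
    · exact h2
    · have h3 : f F4.v = f 1 * f F4.w := by rw [← hadd]; rfl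
      rw [h3]
      exact B.mul_mem h1 h2
  exact Subgroup.eq_of_le_of_card_ge hle (by rw [hA, hB])

/-- the condition satisfied by the nontrivial elements of a line -/
def okB (a c s : F4) : Bool :=
  !(decide (a = 0) && decide (c = 0) && decide (s = 0)) &&
    (bif decide (a = 0) then (decide (c = 0) || decide (s = 0)) else decide (a * s = c ^ 2))

theorem okB_of {a c s : F4} (h1 : a ≠ 0 → a * s = c ^ 2) (h2 : a = 0 → c = 0 ∨ s = 0)
    (h3 : ¬ (a = 0 ∧ c = 0 ∧ s = 0)) : okB a c s = true := by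
  revert h1 h2 h3
  revert a c s
  decide

theorem comb1 : ∀ a1 c1 s1 a2 c2 s2 : F4, okB a1 c1 s1 = true → okB a2 c2 s2 = true →
    okB (a1 + a2) (c1 + c2) (s1 + s2) = true →
    (decide (a1 = 0) && decide (c1 = 0) && decide (a2 = 0) && decide (c2 = 0)) = true ∨
    (decide (a1 = 0) && decide (s1 = 0) && decide (a2 = 0) && decide (s2 = 0)) = true ∨
      ∃ b, (decide (c1 = a1 * b) && decide (s1 = a1 * b ^ 2) && decide (c2 = a2 * b) &&
        decide (s2 = a2 * b ^ 2)) = true := by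
  decide +kernel

theorem comb {a1 c1 s1 a2 c2 s2 : F4} (h1 : okB a1 c1 s1 = true) (h2 : okB a2 c2 s2 = true)
    (h3 : okB (a1 + a2) (c1 + c2) (s1 + s2) = true) :
    (a1 = 0 ∧ c1 = 0 ∧ a2 = 0 ∧ c2 = 0) ∨ (a1 = 0 ∧ s1 = 0 ∧ a2 = 0 ∧ s2 = 0) ∨
      ∃ b, c1 = a1 * b ∧ s1 = a1 * b ^ 2 ∧ c2 = a2 * b ∧ s2 = a2 * b ^ 2 := by
  have h := comb1 a1 c1 s1 a2 c2 s2 h1 h2 h3
  simpa only [Bool.and_eq_true, decide_eq_true_eq, and_assoc] using h

/-- a conjugate of `V` contained in `E1` is one of six lines -/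
theorem line_cases [Finite G] (H : Sit F) {g : G} (hg : cj g F.V ≤ F.E1) :
    cj g F.V = F.V ∨ cj g F.V = F.U ∨ ∃ b, cj g F.V = LA F b := by
  have hmem : ∀ s, g * F.d 0 s * g⁻¹ ∈ F.E1 := fun s => hg (mem_cj.2 ⟨s, rfl⟩)
  choose A C S hs using hmem
  have hadd : ∀ s s', F.t (A (s + s')) 0 (C (s + s')) (S (s + s')) =
      F.t (A s + A s') 0 (C s + C s') (S s + S s') := by
    intro s s'
    have h1 : F.d 0 (s + s') = F.d 0 s * F.d 0 s' := by rw [← F.d_add, add_zero]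
    have h2 : F.t (A s + A s') 0 (C s + C s') (S s + S s') =
        F.t (A s) 0 (C s) (S s) * F.t (A s') 0 (C s') (S s') := by
      rw [F.t_mul]
      congr 1 <;> ring
    rw [h2, ← hs, ← hs, ← hs, h1]
    group
  have hz : ∀ s, s ≠ 0 → ¬ (A s = 0 ∧ C s = 0 ∧ S s = 0) := by
    rintro s hs0 ⟨h1, h2, h3⟩
    have h4 := hs s
    rw [h1, h2, h3, F.t_zero, mul_inv_eq_one] at h4
    have h5 : F.d 0 s = 1 := mul_left_cancel (h4.trans (mul_one g).symm)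
    rw [← F.d_zero] at h5
    exact hs0 (d_inj F h5).2
  have hA : ∀ s, A s ≠ 0 → A s * S s = C s ^ 2 := fun s h => hyper H h (hs s)
  have hB : ∀ s, A s = 0 → C s = 0 ∨ S s = 0 := by
    intro s h
    by_contra hcon
    push Not at hcon
    have h1 := hs s
    rw [h, ← F.d_eq_t] at h1
    exact not_conj_sq H hcon.1 hcon.2 h1
  have h3 := hadd 1 F4.w
  obtain ⟨h31, -, h32, h33⟩ := F.t_inj h3
  have hok := okB_of (hA (1 + F4.w)) (hB (1 + F4.w)) (hz (1 + F4.w) (by decide))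
  rw [h31, h32, h33] at hok
  have main := comb (okB_of (hA 1) (hB 1) (hz 1 one_ne_zero))
    (okB_of (hA F4.w) (hB F4.w) (hz F4.w (by decide))) hok
  have hfin : ∀ B : Subgroup G, Nat.card B = 4 → F.t (A 1) 0 (C 1) (S 1) ∈ B →
      F.t (A F4.w) 0 (C F4.w) (S F4.w) ∈ B → cj g F.V = B := by
    intro B hB h1 h2
    refine eq_of_two (f := fun s => g * F.d 0 s * g⁻¹) ?_ ?_ ?_ ?_ hB ?_ ?_
    · intro x
      rw [mem_cj', F.mem_V]
      constructor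
      · rintro ⟨s, h⟩
        exact ⟨s, by rw [← h]; group⟩
      · rintro ⟨s, h⟩
        exact ⟨s, by rw [h]; group⟩
    · rw [F.d_zero]; group
    · intro s s'
      have h1 : F.d 0 (s + s') = F.d 0 s * F.d 0 s' := by rw [← F.d_add, add_zero]
      rw [h1]; group
    · rw [card_cj, T0.card_V]
    · rw [hs]; exact h1
    · rw [hs]; exact h2
  rcases main with ⟨h1, h2, h4, h5⟩ | ⟨h1, h2, h4, h5⟩ | ⟨b, h1, h2, h4, h5⟩
  · left
    apply hfin _ (T0.card_V F)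
    · rw [h1, h2, ← F.d_eq_t]; exact ⟨_, rfl⟩
    · rw [h4, h5, ← F.d_eq_t]; exact ⟨_, rfl⟩
  · right; left
    apply hfin _ (T0.card_U F)
    · rw [h1, h2, ← F.d_eq_t]; exact ⟨_, rfl⟩
    · rw [h4, h5, ← F.d_eq_t]; exact ⟨_, rfl⟩
  · right; right
    refine ⟨b, hfin _ (card_LA b) ?_ ?_⟩
    · rw [h1, h2]; exact ⟨_, rfl⟩
    · rw [h4, h5]; exact ⟨_, rfl⟩

end Cfsg.Agent.StandardComponent.HeldType.SixLines
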