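import Mathlib
import Cfsg.Agent.Lib.FieldFour
import Cfsg.Agent.SylowL5.Coords

/-!
# The Sylow `2`-subgroup of type `L_5(2)` as an extension of the group `T0`

`Co x y d p q` : coordinates `x a * y b * d c s * p ^ i * q ^ j` with the multiplication of
`T0 : <p, q>`.  `exists_emb`: such a group is a Sylow 2-subgroup of `SL_5(2)`.
-/

set_option autoImplicit false

namespace Cfsg.Agent.StandardComponent.HeldType.UTFive

open Cfsg.Agent.Lib.FieldFour Cfsg.Agent.SylowL5.Setup Cfsg.Agent.SylowL5.Coords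

/-- the Frobenius map or the identity -/
def fr (e : Bool) (a : F4) : F4 := bif e then a ^ 2 else a

/-- conditional element -/
def pw {G : Type*} [One G] (e : Bool) (g : G) : G := bif e then g else 1

/-- Coordinates of a group `T0 : <p, q>`. -/
structure Co {G : Type*} [Group G] (x y : F4 → G) (d : F4 → F4 → G) (p q : G) : Prop where
  x_add : ∀ a a', x (a + a') = x a * x a'
  y_add : ∀ b b', y (b + b') = y b * y b'
  d_add : ∀ c c' s s', d (c + c') (s + s') = d c s * d c' s'
  x_d : ∀ a c s, x a * d c s = d c s * x a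
  y_d : ∀ b c s, y b * d c s = d c s * y b
  y_x : ∀ a b, y b * x a = x a * y b * d (a * b) (a * b ^ 2)
  inj : ∀ a b c s a' b' c' s', x a * y b * d c s = x a' * y b' * d c' s' →
    a = a' ∧ b = b' ∧ c = c' ∧ s = s'
  p_sq : p * p = 1
  q_sq : q * q = 1
  p_q : p * q = q * p
  p_x : ∀ a, p * x a = x (a ^ 2) * p
  p_y : ∀ b, p * y b = y b * p
  q_x : ∀ a, q * x a = x a * q
  q_y : ∀ b, q * y b = y (b ^ 2) * q

/-- index set of the coordinates -/
structure Ix where
  a : F4
  b : F4
  c : F4
  s : F4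
  i : Bool
  j : Bool
  deriving DecidableEq

/-- the product of the coordinates -/
def mulc (u v : Ix) : Ix :=
  ⟨u.a + fr u.i v.a, u.b + fr u.j v.b,
    u.c + (bif u.i then (bif u.j then v.c ^ 2 else v.s ^ 2) else (bif u.j then v.s else v.c)) +
      fr u.i v.a * u.b,
    u.s + (bif u.i then (bif u.j then v.s ^ 2 else v.c ^ 2) else (bif u.j then v.c else v.s)) +
      fr u.i v.a * u.b ^ 2,
    xor u.i v.i, xor u.j v.j⟩

/-- the element with given coordinates -/
def W {G : Type*} [Group G] (x y : F4 → G) (d : F4 → F4 → G) (p q : G) (u : Ix) : G :=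
  x u.a * y u.b * d u.c u.s * (pw u.i p * pw u.j q)

section
variable {G : Type*} [Group G] {x y : F4 → G} {d : F4 → F4 → G} {p q : G}

theorem exists_two (c s : F4) : ∃ a b a' b' : F4, c = a * b + a' * b' ∧
    s = a * b ^ 2 + a' * b' ^ 2 := by
  revert c s; decide

theorem d_gen (h : Co x y d p q) (a b : F4) :
    d (a * b) (a * b ^ 2) = (x a * y b)⁻¹ * (y b * x a) := by
  rw [h.y_x]; group

theorem p_gen (h : Co x y d p q) (a b : F4) :
    p * d (a * b) (a * b ^ 2) = d ((a * b ^ 2) ^ 2) ((a * b) ^ 2) * p := by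
  have e1 : (a * b ^ 2) ^ 2 = a ^ 2 * b := by revert a b; decide
  have e2 : (a * b) ^ 2 = a ^ 2 * b ^ 2 := by revert a b; decide
  rw [e1, e2, d_gen h, d_gen h]
  have e3 : p * (x a * y b)⁻¹ = (x (a ^ 2) * y b)⁻¹ * p := by
    rw [eq_inv_mul_iff_mul_eq]
    have : x (a ^ 2) * y b * p = p * (x a * y b) := by
      rw [← mul_assoc p, h.p_x, mul_assoc, mul_assoc, h.p_y]
    rw [← mul_assoc, this]; group
  rw [← mul_assoc, e3, mul_assoc, mul_assoc]
  congr 1
  rw [← mul_assoc, h.p_y, mul_assoc, h.p_x, mul_assoc]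

theorem q_gen (h : Co x y d p q) (a b : F4) :
    q * d (a * b) (a * b ^ 2) = d (a * b ^ 2) (a * b) * q := by
  have e1 : a * b = a * (b ^ 2) ^ 2 := by revert a b; decide
  have e2 : d (a * b ^ 2) (a * b) = d (a * b ^ 2) (a * (b ^ 2) ^ 2) := by rw [← e1]
  rw [e2, d_gen h, d_gen h]
  have e3 : q * (x a * y b)⁻¹ = (x a * y (b ^ 2))⁻¹ * q := by
    rw [eq_inv_mul_iff_mul_eq]
    have : x a * y (b ^ 2) * q = q * (x a * y b) := by
      rw [← mul_assoc q, h.q_x, mul_assoc, mul_assoc, h.q_y]
    rw [← mul_assoc, this]; group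
  rw [← mul_assoc, e3, mul_assoc, mul_assoc]
  congr 1
  rw [← mul_assoc, h.q_y, mul_assoc, h.q_x, mul_assoc]

theorem sq_add (a b : F4) : (a + b) ^ 2 = a ^ 2 + b ^ 2 := by revert a b; decide

theorem p_d (h : Co x y d p q) (c s : F4) : p * d c s = d (s ^ 2) (c ^ 2) * p := by
  obtain ⟨a, b, a', b', rfl, rfl⟩ := exists_two c s
  rw [h.d_add, ← mul_assoc, p_gen h, mul_assoc, p_gen h, ← mul_assoc, ← h.d_add, sq_add, sq_add]

theorem q_d (h : Co x y d p q) (c s : F4) : q * d c s = d s c * q := by
  obtain ⟨a, b, a', b', rfl, rfl⟩ := exists_two c s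
  rw [h.d_add, ← mul_assoc, q_gen h, mul_assoc, q_gen h, ← mul_assoc, ← h.d_add]

theorem pw_x (h : Co x y d p q) (i j : Bool) (a : F4) :
    pw i p * pw j q * x a = x (fr i a) * (pw i p * pw j q) := by
  cases i <;> cases j <;> simp only [pw, fr, cond_true, cond_false, one_mul, mul_one]
  · exact h.q_x a
  · exact h.p_x a
  · rw [mul_assoc, h.q_x, ← mul_assoc, h.p_x, mul_assoc]

theorem pw_y (h : Co x y d p q) (i j : Bool) (b : F4) :
    pw i p * pw j q * y b = y (fr j b) * (pw i p * pw j q) := by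
  cases i <;> cases j <;> simp only [pw, fr, cond_true, cond_false, one_mul, mul_one]
  · exact h.q_y b
  · exact h.p_y b
  · rw [mul_assoc, h.q_y, ← mul_assoc, h.p_y, mul_assoc]

theorem pw_d (h : Co x y d p q) (i j : Bool) (c s : F4) :
    pw i p * pw j q * d c s =
      d (bif i then (bif j then c ^ 2 else s ^ 2) else (bif j then s else c))
        (bif i then (bif j then s ^ 2 else c ^ 2) else (bif j then c else s)) *
        (pw i p * pw j q) := by
  cases i <;> cases j <;> simp only [pw, cond_true, cond_false, one_mul, mul_one]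
  · exact q_d h c s
  · exact p_d h c s
  · rw [mul_assoc, q_d h, ← mul_assoc, p_d h, mul_assoc]

theorem pw_pw (h : Co x y d p q) (i j i' j' : Bool) :
    pw i p * pw j q * (pw i' p * pw j' q) = pw (xor i i') p * pw (xor j j') q := by
  have h1 := h.p_sq
  have h2 := h.q_sq
  have h3 := h.p_q.symm
  have h4 : ∀ g, p * (p * g) = g := fun g => by rw [← mul_assoc, h1, one_mul]
  have h5 : ∀ g, q * (q * g) = g := fun g => by rw [← mul_assoc, h2, one_mul]
  have h6 : ∀ g, q * (p * g) = p * (q * g) := fun g => by rw [← mul_assoc, h3, mul_assoc]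
  cases i <;> cases j <;> cases i' <;> cases j' <;>
    simp only [pw, cond_true, cond_false, one_mul, mul_one, Bool.xor_true, Bool.xor_false,
      Bool.not_true, Bool.not_false, mul_assoc, h1, h2, h3, h4, h5, h6]

theorem d_comm (h : Co x y d p q) (c s c' s' : F4) : d c s * d c' s' = d c' s' * d c s := by
  rw [← h.d_add, ← h.d_add, add_comm c, add_comm s]

theorem W_mul (h : Co x y d p q) (u v : Ix) :
    W x y d p q u * W x y d p q v = W x y d p q (mulc u v) := by
  obtain ⟨a, b, c, s, i, j⟩ := u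
  obtain ⟨a', b', c', s', i', j'⟩ := v
  simp only [W, mulc]
  rw [← pw_pw h i j i' j']
  generalize hk : pw i p * pw j q = k
  have k1 : ∀ a, k * x a = x (fr i a) * k := fun a => by rw [← hk]; exact pw_x h i j a
  have k2 : ∀ b, k * y b = y (fr j b) * k := fun b => by rw [← hk]; exact pw_y h i j b
  have k3 := pw_d h i j c' s'
  rw [hk] at k3
  generalize (bif i then (bif j then c' ^ 2 else s' ^ 2) else (bif j then s' else c')) = c1 at *
  generalize (bif i then (bif j then s' ^ 2 else c' ^ 2) else (bif j then c' else s')) = s1 at *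
  generalize pw i' p * pw j' q = k'
  have e1 : x a * y b * d c s * k * (x a' * y b' * d c' s' * k') =
      x a * y b * d c s * (k * x a') * y b' * d c' s' * k' := by group
  have e2 : x a * y b * d c s * (x (fr i a') * k) * y b' * d c' s' * k' =
      x a * y b * d c s * x (fr i a') * (k * y b') * d c' s' * k' := by group
  have e3 : x a * y b * d c s * x (fr i a') * (y (fr j b') * k) * d c' s' * k' =
      x a * y b * d c s * x (fr i a') * y (fr j b') * (k * d c' s') * k' := by group
  rw [e1, k1, e2, k2, e3, k3]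
  generalize fr i a' = a1
  generalize fr j b' = b1
  rw [h.x_add, h.y_add, h.d_add, h.d_add]
  have e4 : x a * y b * d c s * x a1 * y b1 * (d c1 s1 * k) * k' =
      x a * (y b * (d c s * x a1) * y b1) * d c1 s1 * (k * k') := by group
  rw [e4, ← h.x_d a1 c s]
  have e5 : x a * (y b * (x a1 * d c s) * y b1) * d c1 s1 * (k * k') =
      x a * ((y b * x a1) * (d c s * y b1)) * d c1 s1 * (k * k') := by group
  rw [e5, ← h.y_d b1 c s, h.y_x]
  have e6 : x a * (x a1 * y b * d (a1 * b) (a1 * b ^ 2) * (y b1 * d c s)) * d c1 s1 * (k * k') =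
      x a * x a1 * (y b * (d (a1 * b) (a1 * b ^ 2) * y b1) * (d c s * d c1 s1)) * (k * k') := by
    group
  rw [e6, ← h.y_d b1]
  have e7 : x a * x a1 * (y b * (y b1 * d (a1 * b) (a1 * b ^ 2)) * (d c s * d c1 s1)) * (k * k') =
      x a * x a1 * (y b * y b1) * (d (a1 * b) (a1 * b ^ 2) * (d c s * d c1 s1)) * (k * k') := by
    group
  rw [e7, ← h.d_add c c1 s s1, d_comm h]

theorem x_zero (h : Co x y d p q) : x 0 = 1 := by
  have h1 := h.x_add 0 0
  rw [add_zero] at h1
  exact left_eq_mul.1 h1

theorem y_zero (h : Co x y d p q) : y 0 = 1 := by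
  have h1 := h.y_add 0 0
  rw [add_zero] at h1
  exact left_eq_mul.1 h1

theorem d_zero (h : Co x y d p q) : d 0 0 = 1 := by
  have h1 := h.d_add 0 0 0 0
  rw [add_zero] at h1
  exact left_eq_mul.1 h1

theorem W_zero (h : Co x y d p q) : W x y d p q ⟨0, 0, 0, 0, false, false⟩ = 1 := by
  simp only [W, x_zero h, y_zero h, d_zero h, pw, cond_false, mul_one]

/-- the inverse of the coordinates -/
theorem exists_inv_ix (u : Ix) : ∃ v : Ix, mulc u v = ⟨0, 0, 0, 0, false, false⟩ := by
  obtain ⟨a, b, c, s, i, j⟩ := u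
  have k1 : ∀ (i : Bool) (a : F4), ∃ a', a + fr i a' = 0 := by decide
  obtain ⟨a', ha⟩ := k1 i a
  obtain ⟨b', hb⟩ := k1 j b
  have k2 : ∀ (i j : Bool) (c s m n : F4), ∃ c' s' : F4,
      c + (bif i then (bif j then c' ^ 2 else s' ^ 2) else (bif j then s' else c')) + m = 0 ∧
      s + (bif i then (bif j then s' ^ 2 else c' ^ 2) else (bif j then c' else s')) + n = 0 := by
    decide +kernel
  obtain ⟨c', s', hc, hs⟩ := k2 i j c s (fr i a' * b) (fr i a' * b ^ 2)
  refine ⟨⟨a', b', c', s', i, j⟩, ?_⟩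
  simp only [mulc, ha, hb, hc, hs, Bool.xor_self]

theorem W_eq_one (h : Co x y d p q) {u : Ix} (hu : W x y d p q u = 1) :
    u = ⟨0, 0, 0, 0, false, false⟩ := by
  obtain ⟨a, b, c, s, i, j⟩ := u
  simp only [W] at hu
  generalize hk : pw i p * pw j q = k at hu
  have k1 : ∀ a, k * x a = x (fr i a) * k := fun a => by rw [← hk]; exact pw_x h i j a
  have k2 : ∀ b, k * y b = y (fr j b) * k := fun b => by rw [← hk]; exact pw_y h i j b
  -- `k = (x a y b d c s)⁻¹`
  have hx : ∀ a', x a * y b * d c s * x (fr i a') = x a' * (x a * y b * d c s) := by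
    intro a'
    have e : (x a * y b * d c s) * (x (fr i a') * k) = x a' * ((x a * y b * d c s) * k) := by
      rw [← k1, ← mul_assoc, hu, one_mul, mul_one]
    rw [← mul_assoc, ← mul_assoc (x a')] at e
    exact mul_right_cancel e
  have hy : ∀ b', x a * y b * d c s * y (fr j b') = y b' * (x a * y b * d c s) := by
    intro b'
    have e : (x a * y b * d c s) * (y (fr j b') * k) = y b' * ((x a * y b * d c s) * k) := by
      rw [← k2, ← mul_assoc, hu, one_mul, mul_one]
    rw [← mul_assoc, ← mul_assoc (y b')] at e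
    exact mul_right_cancel e
  have m1 : ∀ a b c s a' b' c' s', x a * y b * d c s * (x a' * y b' * d c' s') =
      x (a + a') * y (b + b') * d (c + c' + a' * b) (s + s' + a' * b ^ 2) := by
    intro a b c s a' b' c' s'
    have := W_mul h ⟨a, b, c, s, false, false⟩ ⟨a', b', c', s', false, false⟩
    simpa only [W, mulc, pw, fr, cond_false, mul_one, Bool.xor_false] using this
  have hi : i = false := by
    by_contra hi
    have hi : i = true := by simpa using hi
    subst hi
    have e := hx F4.w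
    have e1 : x a * y b * d c s * x (fr true F4.w) =
        x a * y b * d c s * (x (fr true F4.w) * y 0 * d 0 0) := by
      rw [y_zero h, d_zero h, mul_one, mul_one]
    have e2 : x F4.w * (x a * y b * d c s) = x F4.w * y 0 * d 0 0 * (x a * y b * d c s) := by
      rw [y_zero h, d_zero h, mul_one, mul_one]
    rw [e1, e2, m1, m1] at e
    have e3 := (h.inj _ _ _ _ _ _ _ _ e).1
    have k : ∀ a : F4, a + fr true F4.w = F4.w + a → False := by decide
    exact k a e3
  have hj : j = false := by
    by_contra hj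
    have hj : j = true := by simpa using hj
    subst hj
    have e := hy F4.w
    have e1 : x a * y b * d c s * y (fr true F4.w) =
        x a * y b * d c s * (x 0 * y (fr true F4.w) * d 0 0) := by
      rw [x_zero h, d_zero h, one_mul, mul_one]
    have e2 : y F4.w * (x a * y b * d c s) = x 0 * y F4.w * d 0 0 * (x a * y b * d c s) := by
      rw [x_zero h, d_zero h, one_mul, mul_one]
    rw [e1, e2, m1, m1] at e
    have e3 := (h.inj _ _ _ _ _ _ _ _ e).2.1
    have k : ∀ a : F4, a + fr true F4.w = F4.w + a → False := by decide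
    exact k b e3
  subst hi hj
  simp only [pw, cond_false, mul_one] at hk
  rw [← hk, mul_one] at hu
  have e : x a * y b * d c s = x 0 * y 0 * d 0 0 := by
    rw [x_zero h, y_zero h, d_zero h, hu]; simp
  obtain ⟨rfl, rfl, rfl, rfl⟩ := h.inj _ _ _ _ _ _ _ _ e
  rfl

theorem W_inj (h : Co x y d p q) {u v : Ix} (huv : W x y d p q u = W x y d p q v) : u = v := by
  obtain ⟨v', hv'⟩ := exists_inv_ix v
  have h1 : W x y d p q (mulc u v') = 1 := by
    rw [← W_mul h, huv, W_mul h, hv', W_zero h]
  have h2 : mulc u v' = mulc v v' := by rw [W_eq_one h h1, hv']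
  -- right cancellation
  simp only [mulc, Ix.mk.injEq] at h2
  obtain ⟨h3, h4, h5, h6, h7, h8⟩ := h2
  have hi : u.i = v.i := by
    revert h7; cases u.i <;> cases v.i <;> cases v'.i <;> simp
  have hj : u.j = v.j := by
    revert h8; cases u.j <;> cases v.j <;> cases v'.j <;> simp
  rw [hi] at h3 h5 h6
  rw [hj] at h4 h5 h6
  have ha : u.a = v.a := add_right_cancel h3
  have hb : u.b = v.b := add_right_cancel h4
  rw [hb] at h5 h6
  have hc : u.c = v.c := add_right_cancel (add_right_cancel h5)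
  have hs : u.s = v.s := add_right_cancel (add_right_cancel h6)
  cases u; cases v
  simp_all

end

/-! ### The model in `SL_5(2)` -/

/-- code of `x a` -/
def cx : F4 → ℕ
  | .o => 0
  | .i => 16
  | .w => 2
  | .v => 18

/-- code of `y b` -/
def cy : F4 → ℕ
  | .o => 0
  | .i => 64
  | .w => 4
  | .v => 68

/-- code of `d c s` -/
def cd : F4 → F4 → ℕ
  | .o, .o => 0
  | .o, .i => 384
  | .o, .w => 800
  | .o, .v => 672
  | .i, .o => 896
  | .i, .i => 512
  | .i, .w => 160
  | .i, .v => 288
  | .w, .o => 544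
  | .w, .i => 928
  | .w, .w => 256
  | .w, .v => 128
  | .v, .o => 416
  | .v, .i => 32
  | .v, .w => 640
  | .v, .v => 768

theorem co_model : Co (fun a => us (cx a)) (fun b => us (cy b)) (fun c s => us (cd c s))
    (us 1) (us 8) where
  x_add := fun a a' => by
    rw [← us_mul]; congr 1; revert a a'; decide
  y_add := fun a a' => by
    rw [← us_mul]; congr 1; revert a a'; decide
  d_add := fun a a' b b' => by
    rw [← us_mul]; congr 1; revert a a' b b'; decide +kernel
  x_d := fun a c s => by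
    rw [← us_mul, ← us_mul]; congr 1; revert a c s; decide +kernel
  y_d := fun a c s => by
    rw [← us_mul, ← us_mul]; congr 1; revert a c s; decide +kernel
  y_x := fun a b => by
    rw [← us_mul, ← us_mul, ← us_mul]; congr 1; revert a b; decide +kernel
  inj := fun a b c s a' b' c' s' h => by
    rw [← us_mul, ← us_mul, ← us_mul, ← us_mul] at h
    have hlt : ∀ a b c s : F4, mu (mu (cx a) (cy b)) (cd c s) < 1024 := by decide +kernel
    have h1 := us_inj (hlt a b c s) (hlt a' b' c' s') h
    have k : ∀ a b c s : F4, (Nat.land (Nat.shiftRight (mu (mu (cx a) (cy b)) (cd c s)) 0) 1023 =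
      mu (mu (cx a) (cy b)) (cd c s)) := by decide +kernel
    have k1 : ∀ a b c s : F4, Nat.land (mu (mu (cx a) (cy b)) (cd c s)) 18 = cx a := by
      decide +kernel
    have k2 : ∀ a b c s : F4, Nat.land (mu (mu (cx a) (cy b)) (cd c s)) 68 = cy b := by
      decide +kernel
    have j1 : ∀ a a' : F4, cx a = cx a' → a = a' := by decide
    have j2 : ∀ a a' : F4, cy a = cy a' → a = a' := by decide
    have ha : a = a' := j1 _ _ (by rw [← k1 a b c s, h1, k1])
    have hb : b = b' := j2 _ _ (by rw [← k2 a b c s, h1, k2])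
    subst ha hb
    have k3 : ∀ a b c s c' s' : F4, mu (mu (cx a) (cy b)) (cd c s) =
      mu (mu (cx a) (cy b)) (cd c' s') → c = c' ∧ s = s' := by decide +kernel
    exact ⟨rfl, rfl, k3 a b c s c' s' h1⟩
  p_sq := by rw [← us_mul, ← us_zero]; congr 1
  q_sq := by rw [← us_mul, ← us_zero]; congr 1
  p_q := by rw [← us_mul, ← us_mul]; congr 1
  p_x := fun a => by
    rw [← us_mul, ← us_mul]; congr 1; revert a; decide
  p_y := fun a => by
    rw [← us_mul, ← us_mul]; congr 1; revert a; decide
  q_x := fun a => by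
    rw [← us_mul, ← us_mul]; congr 1; revert a; decide
  q_y := fun a => by
    rw [← us_mul, ← us_mul]; congr 1; revert a; decide

/-- the code of an index -/
def code (u : Ix) : ℕ :=
  mu (mu (mu (cx u.a) (cy u.b)) (cd u.c u.s)) (mu (bif u.i then 1 else 0) (bif u.j then 8 else 0))

theorem us_code (u : Ix) : us (code u) =
    W (fun a => us (cx a)) (fun b => us (cy b)) (fun c s => us (cd c s)) (us 1) (us 8) u := by
  obtain ⟨a, b, c, s, i, j⟩ := u
  simp only [code, us_mul, W]
  congr 2
  · cases i <;> simp only [pw, cond_true, cond_false, us_zero]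
  · cases j <;> simp only [pw, cond_true, cond_false, us_zero]

theorem code_lt (u : Ix) : code u < 1024 := by
  obtain ⟨a, b, c, s, i, j⟩ := u
  simp only [code]
  have h1 : ∀ a, cx a < 1024 := by decide
  have h2 : ∀ a, cy a < 1024 := by decide
  have h3 : ∀ c s, cd c s < 1024 := by decide
  refine mu_lt (mu_lt (mu_lt (h1 a) (h2 b)) (h3 c s)) (mu_lt ?_ ?_)
  · cases i <;> simp
  · cases j <;> simp

theorem code_inj {u v : Ix} (h : code u = code v) : u = v :=
  W_inj co_model (by rw [← us_code, ← us_code, h])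

theorem code_mul (u v : Ix) : code (mulc u v) = mu (code u) (code v) := by
  refine us_inj (code_lt _) (mu_lt (code_lt _) (code_lt _)) ?_
  rw [us_mul, us_code, us_code, us_code, W_mul co_model]

/-- index set as a product -/
def ixEquiv : Ix ≃ F4 × F4 × F4 × F4 × Bool × Bool where
  toFun u := (u.a, u.b, u.c, u.s, u.i, u.j)
  invFun v := ⟨v.1, v.2.1, v.2.2.1, v.2.2.2.1, v.2.2.2.2.1, v.2.2.2.2.2⟩
  left_inv _ := rfl
  right_inv _ := rfl

theorem exists_code (n : ℕ) (hn : n < 1024) : ∃ u : Ix, code u = n := by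
  let e : Fin 1024 → Ix := fun k => ixEquiv.symm
    ((Fintype.equivFinOfCardEq (by simp [F4.card]; try rfl) :
      F4 × F4 × F4 × F4 × Bool × Bool ≃ Fin 1024).symm k)
  have he : Function.Injective e := by
    intro a b hab
    exact Equiv.injective _ (ixEquiv.symm.injective hab)
  have hf : Function.Injective (fun k : Fin 1024 => (⟨code (e k), code_lt _⟩ : Fin 1024)) := by
    intro a b hab
    exact he (code_inj (congrArg Fin.val hab))
  obtain ⟨k, hk⟩ := (Finite.injective_iff_surjective.1 hf) ⟨n, hn⟩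
  exact ⟨e k, congrArg Fin.val hk⟩

/-- **Main result**: coordinates `Emb` on the group of all `x a * y b * d c s * p ^ i * q ^ j`. -/
theorem exists_emb {G : Type*} [Group G] {x y : F4 → G} {d : F4 → F4 → G} {p q : G}
    (h : Co x y d p q) (T : Subgroup G)
    (hT : ∀ g, g ∈ T ↔ ∃ a b c s, ∃ i j : Bool, g = x a * y b * d c s * (pw i p * pw j q)) :
    ∃ u : ℕ → G, Emb T u := by
  classical
  let u : ℕ → G := fun n => if hn : n < 1024 then W x y d p q (exists_code n hn).choose else 1
  have hu : ∀ v : Ix, u (code v) = W x y d p q v := by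
    intro v
    have h1 : code v < 1024 := code_lt v
    simp only [u, dif_pos h1]
    congr 1
    exact code_inj (exists_code (code v) h1).choose_spec
  refine ⟨u, ?_, ?_, ?_, ?_⟩
  · intro a b ha hb
    obtain ⟨v, rfl⟩ := exists_code a ha
    obtain ⟨v', rfl⟩ := exists_code b hb
    rw [← code_mul, hu, hu, hu, W_mul h]
  · intro a b ha hb hab
    obtain ⟨v, rfl⟩ := exists_code a ha
    obtain ⟨v', rfl⟩ := exists_code b hb
    rw [hu, hu] at hab
    rw [W_inj h hab]
  · intro a ha
    obtain ⟨v, rfl⟩ := exists_code a ha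
    rw [hu, hT]
    exact ⟨v.a, v.b, v.c, v.s, v.i, v.j, rfl⟩
  · intro g hg
    obtain ⟨a, b, c, s, i, j, rfl⟩ := (hT g).1 hg
    exact ⟨code ⟨a, b, c, s, i, j⟩, code_lt _, hu _⟩

/-- Two groups with coordinates are isomorphic. -/
theorem nonempty_equiv_of_emb {G G' : Type*} [Group G] [Group G'] {T : Subgroup G}
    {T' : Subgroup G'} {u : ℕ → G} {u' : ℕ → G'} (h : Emb T u) (h' : Emb T' u') :
    Nonempty (T ≃* T') := by
  classical
  have k : ∀ g : T, ∃ a, a < 1024 ∧ u a = g := fun g => h.surj g g.2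
  choose f hf1 hf2 using k
  let φ : T →* T' := MonoidHom.mk' (fun g => ⟨u' (f g), h'.mem (hf1 g)⟩) (by
    intro g g'
    apply Subtype.ext
    change u' (f (g * g')) = u' (f g) * u' (f g')
    rw [← h'.mul (hf1 g) (hf1 g')]
    congr 1
    refine h.inj (hf1 _) (mu_lt (hf1 _) (hf1 _)) ?_
    rw [hf2, h.mul (hf1 g) (hf1 g'), hf2, hf2]
    rfl)
  refine ⟨MulEquiv.ofBijective φ ⟨?_, ?_⟩⟩
  · intro g g' hg
    have h1 : u' (f g) = u' (f g') := congrArg Subtype.val hg
    have h2 := h'.inj (hf1 _) (hf1 _) h1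
    apply Subtype.ext
    rw [← hf2 g, ← hf2 g', h2]
  · rintro ⟨g', hg'⟩
    obtain ⟨a, ha, rfl⟩ := h'.surj g' hg'
    refine ⟨⟨u a, h.mem ha⟩, ?_⟩
    apply Subtype.ext
    change u' (f ⟨u a, h.mem ha⟩) = u' a
    congr 1
    exact h.inj (hf1 _) ha (hf2 _)

/-- The form needed for S0512. -/
theorem nonempty_equiv_sylow {G : Type*} [Group G] {x y : F4 → G} {d : F4 → F4 → G} {p q : G}
    (h : Co x y d p q) (T : Subgroup G)
    (hT : ∀ g, g ∈ T ↔ ∃ a b c s, ∃ i j : Bool, g = x a * y b * d c s * (pw i p * pw j q))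
    {F : Type*} [Field F] [Fintype F] (hF : Fintype.card F = 2)
    (P : Sylow 2 (Matrix.ProjectiveSpecialLinearGroup (Fin 5) F)) :
    Nonempty (T ≃* (P : Subgroup (Matrix.ProjectiveSpecialLinearGroup (Fin 5) F))) := by
  obtain ⟨u, hu⟩ := exists_emb h T hT
  obtain ⟨e1⟩ := nonempty_equiv_of_emb hu emb_UT
  obtain ⟨e2⟩ := nonempty_equiv_UT hF P
  exact ⟨e1.trans e2⟩

end Cfsg.Agent.StandardComponent.HeldType.UTFive
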